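import Groth.Agent.Purity10.RegularPurity
import Groth.Agent.CAlgH.ParaAdicSmoothMain
import Groth.Agent.CAlgH.RegularLocal
import Groth.Agent.FEtFF.Punctured

/-! # Purity at primes of the closed fibre of formally smooth algebras, arbitrary residue extension -/

set_option autoImplicit false
set_option linter.style.haveILetI false
universe u

open IsLocalRing

namespace Groth.Agent.Purity10

theorem purityHolds_atPrime {A B : Type u} [CommRing A] [IsNoetherianRing A] [IsLocalRing A]
    [CommRing B] [IsNoetherianRing B] [IsLocalRing B] [Algebra A B] [IsLocalHom (algebraMap A B)]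
    (hA : (2 : ℕ∞) ≤ _root_.LocCoh.depth A A) (h : CAlgX.IsAdicFormallySmooth A B (maximalIdeal B))
    (q : Ideal B) [q.IsPrime] (hqc : q.comap (algebraMap A B) = maximalIdeal A)
    (hqne : q ≠ (maximalIdeal A).map (algebraMap A B)) (hprime : ((maximalIdeal A).map (algebraMap A B)).IsPrime) :
    (2 : ℕ∞) ≤ _root_.LocCoh.depth (Localization.AtPrime q) (Localization.AtPrime q) ∧
      FEt.PurityHolds (Localization.AtPrime q) := by
  let Bq := Localization.AtPrime q
  haveI : IsNoetherianRing Bq := IsLocalization.isNoetherianRing q.primeCompl _ inferInstance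
  haveI : Module.Flat A B := CAlgH.AdicSmooth.flat h
  have hdq : (2 : ℕ∞) ≤ _root_.LocCoh.depth Bq Bq := by
    haveI : Module.Flat B Bq := IsLocalization.flat _ q.primeCompl
    haveI : Module.Flat A Bq := Module.Flat.trans A B Bq
    haveI : IsLocalHom (algebraMap A Bq) := by
      refine ((IsLocalRing.local_hom_TFAE (algebraMap A Bq)).out 2 0).1 ?_
      rw [IsScalarTower.algebraMap_eq A B Bq, ← Ideal.map_map, ← IsLocalization.AtPrime.map_eq_maximalIdeal q Bq]
      exact Ideal.map_mono (Ideal.map_le_iff_le_comap.2 hqc.ge)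
    exact hA.trans (le_self_add.trans (CAlgH3.depth_add_depth_fibre_le_self (A := A) (B := Bq)))
  refine ⟨hdq, ?_⟩
  haveI : IsNoetherianRing (EGA4.Cpl A) := Groth.Agent.Matlis6.isNoetherianRing_adicCompletion _
  haveI : IsNoetherianRing (EGA4.Cpl B) := Groth.Agent.Matlis6.isNoetherianRing_adicCompletion _
  haveI := CAlgH.isLocalHom_algebraMap_cpl B
  haveI := CAlgH.isLocalHom_algebraMap_cpl A
  haveI : Module.FaithfullyFlat B (EGA4.Cpl B) := Module.FaithfullyFlat.of_flat_of_isLocalHom
  obtain ⟨ψ, hψ⟩ := CAlgH.AdicSmooth.exists_cpl_map (A := A) (B := B)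
  have h' := CAlgH.AdicSmooth.cpl ψ hψ h
  letI := ψ.toAlgebra
  haveI : IsLocalHom (algebraMap (EGA4.Cpl A) (EGA4.Cpl B)) :=
    ((IsLocalRing.local_hom_TFAE (algebraMap (EGA4.Cpl A) (EGA4.Cpl B))).out 2 0).1 (by
      show (maximalIdeal (EGA4.Cpl A)).map ψ ≤ _
      rw [AdicCompletion.maximalIdeal_eq_map, Ideal.map_map, hψ, ← Ideal.map_map, AdicCompletion.maximalIdeal_eq_map]
      exact Ideal.map_mono (IsLocalRing.map_maximalIdeal_le _))
  have hA' : (2 : ℕ∞) ≤ _root_.LocCoh.depth (EGA4.Cpl A) (EGA4.Cpl A) :=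
    hA.trans (le_self_add.trans (CAlgH3.depth_add_depth_fibre_le_self (A := A) (B := EGA4.Cpl A)))
  obtain ⟨q', _, hq', hmin⟩ := CAlgH.RS.exists_completed_prime q
  let L := Localization.AtPrime q'
  haveI : IsNoetherianRing L := IsLocalization.isNoetherianRing q'.primeCompl _ inferInstance
  have hmap : (maximalIdeal (EGA4.Cpl A)).map (algebraMap (EGA4.Cpl A) (EGA4.Cpl B)) =
      ((maximalIdeal A).map (algebraMap A B)).map (algebraMap B (EGA4.Cpl B)) := by
    rw [AdicCompletion.maximalIdeal_eq_map, Ideal.map_map, Ideal.map_map]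
    exact congrArg (fun f => Ideal.map f (maximalIdeal A)) hψ
  haveI : IsLocalHom (algebraMap (EGA4.Cpl A) L) := by
    refine ((IsLocalRing.local_hom_TFAE (algebraMap (EGA4.Cpl A) L)).out 2 0).1 ?_
    rw [IsScalarTower.algebraMap_eq (EGA4.Cpl A) (EGA4.Cpl B) L, ← Ideal.map_map,
      ← IsLocalization.AtPrime.map_eq_maximalIdeal q' L, hmap]
    exact Ideal.map_mono (Ideal.map_le_iff_le_comap.2 (hq' ▸ Ideal.map_le_iff_le_comap.2 hqc.ge))
  have hind : Smoothing.IndSmooth (EGA4.Cpl A) L :=
    CAlgH.Popescu.indSmooth_of_isRegularHom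
      (CAlgH.isRegularHom_of_isLocalization_target (EGA4.Cpl A) (EGA4.Cpl B) L q'.primeCompl
        (CAlgH.AdicSmooth.isRegularHom_of_complete h'))
  have hP : ∃ P : Ideal L, P.IsPrime ∧ (maximalIdeal (EGA4.Cpl A)).map (algebraMap (EGA4.Cpl A) L) ≤ P ∧
      P ≠ maximalIdeal L := by
    haveI := hprime
    have hle : (maximalIdeal A).map (algebraMap A B) ≤ q := Ideal.map_le_iff_le_comap.2 hqc.ge
    haveI : q'.LiesOver q := ⟨hq'⟩
    obtain ⟨P', hP', hP'p, hP'o⟩ := Ideal.exists_ideal_le_liesOver_of_le (q := q) q'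
      (p := (maximalIdeal A).map (algebraMap A B)) hle
    haveI := hP'p
    have hd : Disjoint (q'.primeCompl : Set (EGA4.Cpl B)) P' := Set.disjoint_left.2 fun x hx hx' => hx (hP' hx')
    refine ⟨P'.map (algebraMap (EGA4.Cpl B) L), IsLocalization.isPrime_of_isPrime_disjoint _ L P' hP'p hd, ?_, fun e => ?_⟩
    · rw [IsScalarTower.algebraMap_eq (EGA4.Cpl A) (EGA4.Cpl B) L, ← Ideal.map_map, hmap]
      exact Ideal.map_mono (Ideal.map_le_iff_le_comap.2 hP'o.over.le)
    · have e2 := congrArg (Ideal.comap (algebraMap (EGA4.Cpl B) L)) e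
      rw [← IsLocalization.AtPrime.map_eq_maximalIdeal q' L] at e2
      have a1 := IsLocalization.comap_map_of_isPrime_disjoint q'.primeCompl L hP'p hd
      have a2 := IsLocalization.comap_map_of_isPrime_disjoint q'.primeCompl L (I := q') inferInstance
        (Set.disjoint_left.2 fun x hx hx' => hx hx')
      have e3 : P' = q' := a1.symm.trans (e2.trans a2)
      exact hqne (hq'.trans (e3 ▸ hP'o.over.symm))
  haveI : IsLocalHom (Localization.localRingHom q q' (algebraMap B (EGA4.Cpl B)) hq') :=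
    Localization.isLocalHom_localRingHom q q' _ hq'
  letI : Algebra Bq L := (Localization.localRingHom q q' (algebraMap B (EGA4.Cpl B)) hq').toAlgebra
  haveI : IsLocalHom (algebraMap Bq L) := ‹IsLocalHom (Localization.localRingHom q q' _ hq')›
  haveI : Module.Flat Bq L := RingHom.Flat.localRingHom (RingHom.flat_algebraMap_iff.2 inferInstance) q' q hq'
  haveI : Module.FaithfullyFlat Bq L := Module.FaithfullyFlat.of_flat_of_isLocalHom
  refine FEtFF.PurityTransfer.purityHolds_of_faithfullyFlat ?_ hdq (purityHolds_of_indSmooth hA' hind hP)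
  rw [Ideal.radical_eq_sInf]
  refine le_sInf fun Q hQ => ?_
  haveI := hQ.2
  have h2 : Q.comap (algebraMap (EGA4.Cpl B) L) ≤ q' := fun b hb =>
    (IsLocalization.AtPrime.to_map_mem_maximal_iff L q' b).1 (le_maximalIdeal hQ.2.ne_top hb)
  have h3 : q.map (algebraMap B (EGA4.Cpl B)) ≤ Q.comap (algebraMap (EGA4.Cpl B) L) := by
    rw [← Ideal.map_le_iff_le_comap, Ideal.map_map]
    refine le_trans (le_of_eq ?_) hQ.1
    rw [← IsLocalization.AtPrime.map_eq_maximalIdeal q Bq, Ideal.map_map]
    exact congrArg (fun f => Ideal.map f q) (RingHom.ext fun b => (Localization.localRingHom_to_map q q' _ hq' b).symm)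
  have h4 := hmin _ inferInstance h3 h2
  rw [← IsLocalization.AtPrime.map_eq_maximalIdeal q' L]
  exact Ideal.map_le_iff_le_comap.2 h4.ge

end Groth.Agent.Purity10
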