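import Groth.Agent.Purity10.MvPowerSeriesPurity
import Groth.Agent.CAlgH.ParaAdicSmooth
import Groth.Agent.CAlgH.AdicSmoothRegular
import Groth.Agent.CAlgH.GeomRegularPoint
import Groth.Agent.FBaseLib.InsepReducedAlg

/-!
# Purity for formally smooth algebras over local rings of depth at least two
-/

set_option autoImplicit false
set_option linter.style.haveILetI false
universe u

open IsLocalRing TensorProduct

namespace Groth.Agent.Purity10

/-- Complete case, with finite radicial multiplicity of the residue extension. -/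
theorem purityHolds_of_adicSmooth_complete {A B : Type u} [CommRing A] [CommRing B]
    [IsNoetherianRing A] [IsLocalRing A] [IsNoetherianRing B] [IsLocalRing B]
    [IsAdicComplete (maximalIdeal A) A] [IsAdicComplete (maximalIdeal B) B] [Algebra A B] [IsLocalHom (algebraMap A B)]
    (hA : (2 : ℕ∞) ≤ _root_.LocCoh.depth A A)
    (hfs : CAlgX.IsAdicFormallySmooth A B (maximalIdeal B))
    {k K : Type u} [Field k] [Field K] [Algebra k K] (α : A →+* k) (hα : Function.Surjective α)
    (β : B →+* K) (hβ : Function.Surjective β) (hαβ : β.comp (algebraMap A B) = (algebraMap k K).comp α)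
    (k' : Type u) [Field k'] [Algebra k k'] [Module.Finite k k'] [IsPurelyInseparable k k']
    (hred : Algebra.IsGeometricallyReduced k' ((k' ⊗[k] K) ⧸ nilradical (k' ⊗[k] K)))
    (hne : ¬ maximalIdeal B ≤ (maximalIdeal A).map (algebraMap A B)) :
    FEt.PurityHolds B := by
  obtain ⟨A2, _, _, _, ρ2, hN2, hc2, hflat2, hfin2, hloc2, hρ2, hρ2c, hm2'⟩ := CAlgH.RS.exists_radicial_lift A α hα k'
  haveI := hN2; haveI := hc2; haveI := hflat2; haveI := hfin2; haveI := hloc2
  haveI : Module.Flat A B := CAlgH.AdicSmooth.flat hfs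
  have hker2 : RingHom.ker ρ2 = maximalIdeal A2 := eq_maximalIdeal (RingHom.ker_isMaximal_of_surjective ρ2 hρ2)
  haveI : IsPurelyInseparable (ResidueField A) (ResidueField A2) := by
    have hkerα : RingHom.ker α = maximalIdeal A := eq_maximalIdeal (RingHom.ker_isMaximal_of_surjective α hα)
    let e0 : ResidueField A ≃+* k := (Ideal.quotEquivOfEq hkerα.symm).trans (RingHom.quotientKerEquivOfSurjective hα)
    let e2 : ResidueField A2 ≃+* k' := (Ideal.quotEquivOfEq hker2.symm).trans (RingHom.quotientKerEquivOfSurjective hρ2)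
    haveI : ExpChar k (ringExpChar (ResidueField A)) := expChar_of_injective_ringHom (f := e0.toRingHom) e0.injective _
    refine (isPurelyInseparable_iff_pow_mem (ResidueField A) (ringExpChar (ResidueField A))).2 fun x => ?_
    obtain ⟨m, y, hy⟩ := IsPurelyInseparable.pow_mem k (ringExpChar (ResidueField A)) (e2 x)
    obtain ⟨a, rfl⟩ := hα y
    refine ⟨m, residue A a, e2.injective ?_⟩
    rw [map_pow, ← hy]
    exact RingHom.congr_fun hρ2c a
  obtain ⟨hlocT, hlocL, hlocR⟩ := CAlgH.isLocalRing_tensor A B A2 (Or.inl inferInstance)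
  haveI := hlocT
  -- the base change
  let B2 := A2 ⊗[A] B
  haveI : IsLocalRing B2 := (Algebra.TensorProduct.comm A B A2).toRingEquiv.isLocalRing
  letI : Algebra B B2 := Algebra.TensorProduct.rightAlgebra
  haveI : Module.Finite B B2 := Module.Finite.equiv (Algebra.TensorProduct.commRight A B A2).toLinearEquiv
  haveI : Module.Flat B B2 := Module.Flat.of_linearEquiv (Algebra.TensorProduct.commRight A B A2).toLinearEquiv.symm
  haveI : IsNoetherianRing B2 := IsNoetherianRing.of_finite B B2
  haveI : IsAdicComplete (maximalIdeal B2) B2 := CAlgH.isAdicComplete_maximal_of_finite B B2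
  let iR : B →+* B2 := (Algebra.TensorProduct.includeRight : B →ₐ[A] B2).toRingHom
  have hiR : algebraMap B B2 = iR := rfl
  have hiRA : iR.comp (algebraMap A B) = (algebraMap A2 B2).comp (algebraMap A A2) :=
    RingHom.ext fun a => by
      show (Algebra.TensorProduct.includeRight : B →ₐ[A] B2) (algebraMap A B a) = _
      rw [AlgHom.commutes]
      exact IsScalarTower.algebraMap_apply A A2 B2 a
  haveI : IsLocalHom (algebraMap B B2) := ⟨fun b hb => by
    haveI := hlocL
    refine isUnit_of_map_unit (Algebra.TensorProduct.includeLeft : B →ₐ[A] B ⊗[A] A2).toRingHom b ?_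
    exact (hb.map (Algebra.TensorProduct.comm A B A2).symm.toRingEquiv.toRingHom)⟩
  have hm2 : (maximalIdeal A).map (algebraMap A A2) ≤ maximalIdeal A2 := IsLocalRing.map_maximalIdeal_le _
  have hB2max : (maximalIdeal B).map iR ≤ maximalIdeal B2 := IsLocalRing.map_maximalIdeal_le (algebraMap B B2)
  -- the residue field of the base change
  let P := k' ⊗[k] K
  let Q := P ⧸ nilradical P
  letI : Algebra A k := α.toAlgebra
  letI : Algebra A K := ((algebraMap k K).comp α).toAlgebra
  haveI : IsScalarTower A k K := .of_algebraMap_eq fun _ => rfl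
  letI : Algebra A k' := ((algebraMap k k').comp α).toAlgebra
  haveI : IsScalarTower A k k' := .of_algebraMap_eq fun _ => rfl
  haveI : IsScalarTower A k P := .of_algebraMap_eq fun a => by
    rw [IsScalarTower.algebraMap_apply A k' P, IsScalarTower.algebraMap_apply k k' P]; rfl
  let l : A2 →ₐ[A] P := ((Algebra.TensorProduct.includeLeft : k' →ₐ[A] P)).comp
    { ρ2 with commutes' := fun a => RingHom.congr_fun hρ2c a }
  let r : B →ₐ[A] P := ((Algebra.TensorProduct.includeRight : K →ₐ[k] P).restrictScalars A).comp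
    { β with commutes' := fun a => RingHom.congr_fun hαβ a }
  let π0 : B2 →ₐ[A] P := Algebra.TensorProduct.lift l r fun _ _ => Commute.all _ _
  have hπ0 : Function.Surjective π0 := fun z => by
    induction z using TensorProduct.induction_on with
    | zero => exact ⟨0, map_zero _⟩
    | add x y hx hy =>
      obtain ⟨a, rfl⟩ := hx; obtain ⟨b, rfl⟩ := hy
      exact ⟨a + b, map_add _ _ _⟩
    | tmul c d =>
      obtain ⟨a, rfl⟩ := hρ2 c
      obtain ⟨b, rfl⟩ := hβ d
      refine ⟨a ⊗ₜ[A] b, ?_⟩
      rw [Algebra.TensorProduct.lift_tmul]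
      show (ρ2 a ⊗ₜ[k] (1 : K)) * ((1 : k') ⊗ₜ[k] β b) = _
      rw [Algebra.TensorProduct.tmul_mul_tmul, mul_one, one_mul]
  haveI : Nontrivial P := (Algebra.TensorProduct.includeRight_injective (R := k) (A := k') (B := K)
    (algebraMap k k').injective).nontrivial
  haveI : Nontrivial Q := Ideal.Quotient.nontrivial_iff.mpr fun e => by
    have : IsNilpotent (1 : P) := mem_nilradical.1 (e ▸ Submodule.mem_top)
    exact not_isNilpotent_one this
  let π : B2 →+* Q := (Ideal.Quotient.mk (nilradical P)).comp π0.toRingHom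
  have hπ : Function.Surjective π := Ideal.Quotient.mk_surjective.comp hπ0
  haveI : IsLocalRing Q := IsLocalRing.of_surjective' π hπ
  haveI : IsReduced Q := (Ideal.isRadical_iff_quotient_reduced _).1 (Ideal.radical_isRadical ⊥)
  haveI : IsArtinianRing P := by
    letI : Algebra K P := Algebra.TensorProduct.rightAlgebra
    haveI : Module.Finite K P := Module.Finite.equiv (Algebra.TensorProduct.commRight k K k').toLinearEquiv
    exact IsArtinianRing.of_finite K P
  haveI : IsArtinianRing Q := Ideal.Quotient.mk_surjective.isArtinianRing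
  letI : Field Q := (IsArtinianRing.isField_of_isReduced_of_isLocalRing Q).toField
  haveI : Algebra.IsGeometricallyReduced k' Q := hred
  haveI : Algebra.FormallySmooth k' Q := Groth.Agent.HenselLib.formallySmooth_of_geometricallyReduced k' Q
  haveI : IsLocalHom (algebraMap A2 B2) := ((IsLocalRing.local_hom_TFAE (algebraMap A2 B2)).out 2 0).1 (by
    rw [← eq_maximalIdeal (RingHom.ker_isMaximal_of_surjective π hπ), ← hker2, Ideal.map_le_iff_le_comap]
    intro a ha
    show Ideal.Quotient.mk _ (π0 (a ⊗ₜ[A] (1 : B))) = 0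
    rw [Algebra.TensorProduct.lift_tmul, map_one, mul_one]
    show Ideal.Quotient.mk _ (ρ2 a ⊗ₜ[k] (1 : K)) = 0
    rw [RingHom.mem_ker.1 ha, zero_tmul, map_zero])
  have hfs2 : CAlgX.IsAdicFormallySmooth A2 B2 (maximalIdeal B2) :=
    CAlgH.AdicSmooth.mono 1 (by rw [pow_one]; exact hB2max) (CAlgH.AdicSmooth.baseChange A2 hfs)
  obtain ⟨A1, _, _, _, _, _, hflat1, hm1, n, ⟨e⟩⟩ := CAlgH.AdicSmooth.exists_algEquiv_mvPowerSeries hfs2 ρ2 hρ2 π hπ
    (RingHom.ext fun a => by
      show Ideal.Quotient.mk _ (π0 (a ⊗ₜ[A] (1 : B))) = algebraMap k' Q (ρ2 a)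
      rw [Algebra.TensorProduct.lift_tmul, map_one, mul_one]
      rfl)
  haveI : Module.FaithfullyFlat B B2 := Module.FaithfullyFlat.of_flat_of_isLocalHom
  have hrad : maximalIdeal B2 ≤ ((maximalIdeal B).map (algebraMap B B2)).radical := by
    rw [Ideal.radical_eq_sInf]
    refine le_sInf fun Q hQ => ?_
    haveI := hQ.2
    have h1 : Q.comap (algebraMap B B2) = maximalIdeal B :=
      ((maximalIdeal.isMaximal B).eq_of_le (Ideal.comap_ne_top _ hQ.2.ne_top) (Ideal.map_le_iff_le_comap.1 hQ.1)).symm
    haveI : Q.IsMaximal := Ideal.isMaximal_of_isIntegral_of_isMaximal_comap (R := B) Q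
      (h1 ▸ maximalIdeal.isMaximal B)
    exact (eq_maximalIdeal ‹Q.IsMaximal›).ge
  have hdB : (2 : ℕ∞) ≤ _root_.LocCoh.depth B B :=
    hA.trans (le_self_add.trans (CAlgH3.depth_add_depth_fibre_le_self (A := A) (B := B)))
  haveI : IsLocalHom (algebraMap A2 A1) := ((IsLocalRing.local_hom_TFAE (algebraMap A2 A1)).out 2 0).1 hm1.le
  have hdA1 : (2 : ℕ∞) ≤ _root_.LocCoh.depth A1 A1 :=
    (hA.trans (le_self_add.trans (CAlgH3.depth_add_depth_fibre_le_self (A := A) (B := A2)))).trans
      (le_self_add.trans (CAlgH3.depth_add_depth_fibre_le_self (A := A2) (B := A1)))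
  match n, e with
  | 0, e =>
    refine absurd (fun x hx => ?_) hne
    let τ : B2 ≃+* MvPowerSeries (Fin 0) A1 := e.toRingEquiv
    have h1 : τ (algebraMap B B2 x) ∈ (maximalIdeal A1).map (MvPowerSeries.C : A1 →+* MvPowerSeries (Fin 0) A1) := by
      have hC : τ (algebraMap B B2 x) = MvPowerSeries.C (MvPowerSeries.constantCoeff (τ (algebraMap B B2 x))) :=
        MvPowerSeries.ext fun d => by
          rw [Subsingleton.elim d 0, MvPowerSeries.coeff_zero_C, MvPowerSeries.coeff_zero_eq_constantCoeff_apply]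
      rw [hC]
      refine Ideal.mem_map_of_mem _ ?_
      rw [mem_maximalIdeal, mem_nonunits_iff, ← MvPowerSeries.isUnit_iff_constantCoeff]
      intro hu
      exact (mem_maximalIdeal x).1 hx (isUnit_of_map_unit (algebraMap B B2) x (by simpa using hu.map τ.symm))
    have hCe : ∀ a, MvPowerSeries.C (algebraMap A2 A1 a) = τ (algebraMap A2 B2 a) := fun a => by
      show _ = e (algebraMap A2 B2 a)
      rw [e.commutes]
      simp [MvPowerSeries.algebraMap_apply]
    rw [← hm1, hm2', Ideal.map_map, Ideal.map_map,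
      show ((MvPowerSeries.C : A1 →+* MvPowerSeries (Fin 0) A1).comp (algebraMap A2 A1)).comp (algebraMap A A2) =
        τ.toRingHom.comp ((algebraMap B B2).comp (algebraMap A B)) from RingHom.ext fun a => by
          show MvPowerSeries.C (algebraMap A2 A1 (algebraMap A A2 a)) = τ (iR (algebraMap A B a))
          rw [hCe, ← RingHom.comp_apply iR, hiRA]; rfl,
      ← Ideal.map_map, ← Ideal.map_map] at h1
    obtain ⟨z, hz, hzx⟩ := (Ideal.mem_map_iff_of_surjective τ.toRingHom τ.surjective).1 h1
    rw [← Ideal.comap_map_eq_self_of_faithfullyFlat (B := B2) ((maximalIdeal A).map (algebraMap A B)), Ideal.mem_comap]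
    exact τ.injective hzx ▸ hz
  | m + 1, e =>
    exact FEtFF.PurityTransfer.purityHolds_of_faithfullyFlat hrad hdB
      (FEtFF.PurityTransfer.purityHolds_of_ringEquiv e.toRingEquiv.symm (purityHolds_mvPowerSeries hdA1 m))

/-- Finite radicial multiplicity of the residue extension. -/
theorem purityHolds_of_adicSmooth {A B : Type u} [CommRing A] [CommRing B]
    [IsNoetherianRing A] [IsLocalRing A] [IsNoetherianRing B] [IsLocalRing B] [Algebra A B] [IsLocalHom (algebraMap A B)]
    (hA : (2 : ℕ∞) ≤ _root_.LocCoh.depth A A)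
    (h : CAlgX.IsAdicFormallySmooth A B (maximalIdeal B))
    (k' : Type u) [Field k'] [Algebra (ResidueField A) k'] [Module.Finite (ResidueField A) k']
    [IsPurelyInseparable (ResidueField A) k']
    (hred : Algebra.IsGeometricallyReduced k'
      ((k' ⊗[ResidueField A] ResidueField B) ⧸ nilradical (k' ⊗[ResidueField A] ResidueField B)))
    (hne : ¬ maximalIdeal B ≤ (maximalIdeal A).map (algebraMap A B)) :
    FEt.PurityHolds B := by
  haveI : IsNoetherianRing (EGA4.Cpl A) := Groth.Agent.Matlis6.isNoetherianRing_adicCompletion _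
  haveI : IsNoetherianRing (EGA4.Cpl B) := Groth.Agent.Matlis6.isNoetherianRing_adicCompletion _
  haveI := CAlgH.isLocalHom_algebraMap_cpl B
  haveI : Module.FaithfullyFlat B (EGA4.Cpl B) := Module.FaithfullyFlat.of_flat_of_isLocalHom
  obtain ⟨ψ, hψ⟩ := CAlgH.AdicSmooth.exists_cpl_map (A := A) (B := B)
  have h' := CAlgH.AdicSmooth.cpl ψ hψ h
  letI := ψ.toAlgebra
  haveI : IsLocalHom (algebraMap (EGA4.Cpl A) (EGA4.Cpl B)) :=
    ((IsLocalRing.local_hom_TFAE (algebraMap (EGA4.Cpl A) (EGA4.Cpl B))).out 2 0).1 (by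
      show (maximalIdeal (EGA4.Cpl A)).map ψ ≤ _
      rw [AdicCompletion.maximalIdeal_eq_map, Ideal.map_map, hψ, ← Ideal.map_map, AdicCompletion.maximalIdeal_eq_map]
      exact Ideal.map_mono (IsLocalRing.map_maximalIdeal_le _))
  have hne' : ¬ maximalIdeal (EGA4.Cpl B) ≤ (maximalIdeal (EGA4.Cpl A)).map (algebraMap (EGA4.Cpl A) (EGA4.Cpl B)) := by
    intro hle
    refine hne ?_
    rw [← Ideal.comap_map_eq_self_of_faithfullyFlat (B := EGA4.Cpl B) ((maximalIdeal A).map (algebraMap A B))]
    refine Ideal.map_le_iff_le_comap.1 ((IsLocalRing.map_maximalIdeal_le _).trans (hle.trans_eq ?_))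
    rw [AdicCompletion.maximalIdeal_eq_map, Ideal.map_map, Ideal.map_map]
    exact congrArg (fun f => Ideal.map f (maximalIdeal A)) hψ
  haveI : IsLocalHom (algebraMap A (EGA4.Cpl A)) := CAlgH.isLocalHom_algebraMap_cpl A
  have hA' : (2 : ℕ∞) ≤ _root_.LocCoh.depth (EGA4.Cpl A) (EGA4.Cpl A) :=
    hA.trans (le_self_add.trans (CAlgH3.depth_add_depth_fibre_le_self (A := A) (B := EGA4.Cpl A)))
  have hdB : (2 : ℕ∞) ≤ _root_.LocCoh.depth B B := by
    haveI : Module.Flat A B := CAlgH.AdicSmooth.flat h
    exact hA.trans (le_self_add.trans (CAlgH3.depth_add_depth_fibre_le_self (A := A) (B := B)))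
  let α : EGA4.Cpl A →+* ResidueField A := (AdicCompletion.evalOneₐ (maximalIdeal A)).toRingHom
  let β : EGA4.Cpl B →+* ResidueField B := (AdicCompletion.evalOneₐ (maximalIdeal B)).toRingHom
  have hαA : ∀ a, α (algebraMap A (EGA4.Cpl A) a) = residue A a := fun a =>
    RingHom.congr_fun (AdicCompletion.evalOneₐ_comp_algebraMap_eq_mk (maximalIdeal A)) a
  have hβB : ∀ b, β (algebraMap B (EGA4.Cpl B) b) = residue B b := fun b =>
    RingHom.congr_fun (AdicCompletion.evalOneₐ_comp_algebraMap_eq_mk (maximalIdeal B)) b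
  have hα : Function.Surjective α := fun c => by
    obtain ⟨a, rfl⟩ := residue_surjective c
    exact ⟨_, hαA a⟩
  have hβ : Function.Surjective β := fun c => by
    obtain ⟨b, rfl⟩ := residue_surjective c
    exact ⟨_, hβB b⟩
  have hαβ : β.comp (algebraMap (EGA4.Cpl A) (EGA4.Cpl B)) = (algebraMap (ResidueField A) (ResidueField B)).comp α :=
    RingHom.ext fun x => by
      obtain ⟨a, ha⟩ := CAlgH.exists_sub_algebraMap_mem A x
      have h1 : α (x - algebraMap A _ a) = 0 := by
        rw [← RingHom.mem_ker, eq_maximalIdeal (RingHom.ker_isMaximal_of_surjective α hα)]; exact ha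
      have h2 : β (ψ (x - algebraMap A _ a)) = 0 := by
        rw [← RingHom.mem_ker, eq_maximalIdeal (RingHom.ker_isMaximal_of_surjective β hβ)]
        exact IsLocalRing.map_maximalIdeal_le (algebraMap (EGA4.Cpl A) (EGA4.Cpl B)) (Ideal.mem_map_of_mem _ ha)
      rw [map_sub, sub_eq_zero] at h1
      rw [map_sub, map_sub, sub_eq_zero] at h2
      show β (ψ x) = algebraMap (ResidueField A) (ResidueField B) (α x)
      rw [h1, h2, hαA, ← RingHom.comp_apply ψ, hψ, RingHom.comp_apply, hβB]
      rfl
  refine FEtFF.PurityTransfer.purityHolds_of_faithfullyFlat ?_ hdB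
    (purityHolds_of_adicSmooth_complete hA' h' α hα β hβ hαβ k' hred hne')
  exact (AdicCompletion.maximalIdeal_eq_map (R := B)).le.trans Ideal.le_radical

/-- Essentially finite residue extension. -/
theorem purityHolds_of_adicSmooth_essFiniteType {A B : Type u} [CommRing A] [CommRing B]
    [IsNoetherianRing A] [IsLocalRing A] [IsNoetherianRing B] [IsLocalRing B] [Algebra A B] [IsLocalHom (algebraMap A B)]
    (hA : (2 : ℕ∞) ≤ _root_.LocCoh.depth A A)
    (h : CAlgX.IsAdicFormallySmooth A B (maximalIdeal B))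
    [Algebra.EssFiniteType (ResidueField A) (ResidueField B)]
    (hne : ¬ maximalIdeal B ≤ (maximalIdeal A).map (algebraMap A B)) :
    FEt.PurityHolds B := by
  obtain ⟨k', _, _, _, _, hred⟩ :=
    FBaseLib.InsepReducedAlg.exists_finite_geomReduced_of_essFiniteType (ResidueField A) (ResidueField B)
  exact purityHolds_of_adicSmooth hA h k' hred hne

end Groth.Agent.Purity10
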