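import Groth.Agent.FEtStein.CoupleFF
import Groth.Agent.SchFinLib.Etale
import Groth.Agent.HenselLib.SectionsIdem
import Mathlib.RingTheory.Etale.Pi
import Mathlib.RingTheory.Finiteness.Prod
import Mathlib.AlgebraicGeometry.Morphisms.Etale
import Mathlib.AlgebraicGeometry.Morphisms.Finite

/-!
# Full faithfulness of restriction gives lifting of clopen subsets
-/

set_option autoImplicit false
set_option linter.style.haveILetI false
set_option backward.isDefEq.respectTransparency.types false
set_option backward.isDefEq.respectTransparency false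
universe u

open CategoryTheory CategoryTheory.Limits AlgebraicGeometry TopologicalSpace
open Groth.Agent.HenselLib

noncomputable section

namespace Groth.Agent.Purity10.ClopenOfFF

abbrev Z0 : CommRingCat.{u} := CommRingCat.of (ULift.{u} ℤ)
abbrev Z2 : CommRingCat.{u} := CommRingCat.of (ULift.{u} ℤ × ULift.{u} ℤ)

/-- Two points over `Spec ℤ`. -/
def two : Spec Z2.{u} ⟶ Spec Z0.{u} :=
  Spec.map (CommRingCat.ofHom (algebraMap (ULift.{u} ℤ) (ULift.{u} ℤ × ULift.{u} ℤ)))

instance : IsFinite two.{u} := (IsFinite.SpecMap_iff _).2 (RingHom.finite_algebraMap.2 inferInstance)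

instance : Etale two.{u} :=
  (HasRingHomProperty.Spec_iff (P := @Etale)).2 (RingHom.etale_algebraMap.2 (SchFinLib.etale_prod _ _ _))

/-- The ring map sending the first unit to an idempotent. -/
def idemHom {R : Type u} [CommRing R] (e : R) (he : IsIdempotentElem e) : ULift.{u} ℤ × ULift.{u} ℤ →+* R where
  toFun p := (p.1.down : R) * e + (p.2.down : R) * (1 - e)
  map_one' := by simp
  map_zero' := by simp
  map_add' p q := by simp only [Prod.fst_add, Prod.snd_add, ULift.add_down, Int.cast_add]; ring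
  map_mul' p q := by
    simp only [Prod.fst_mul, Prod.snd_mul, ULift.mul_down, Int.cast_mul]
    have : e * e = e := he
    linear_combination ((p.2.down : R) * q.1.down + p.1.down * q.2.down
      - p.1.down * q.1.down - p.2.down * q.2.down) * this

theorem idemHom_one {R : Type u} [CommRing R] (e : R) (he : IsIdempotentElem e) : idemHom e he (1, 0) = e := by
  simp [idemHom]

theorem hom_ext_two {R : Type u} [CommRing R] {φ ψ : ULift.{u} ℤ × ULift.{u} ℤ →+* R} (h : φ (1, 0) = ψ (1, 0)) :
    φ = ψ := by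
  have h1 : φ (0, 1) = ψ (0, 1) := by
    have e : ((0, 1) : ULift.{u} ℤ × ULift.{u} ℤ) = 1 - (1, 0) := by ext <;> simp
    rw [e, map_sub, map_sub, map_one, map_one, h]
  refine RingHom.ext fun p => ?_
  have hp : p = (p.1.down : ULift.{u} ℤ × ULift.{u} ℤ) * (1, 0) + (p.2.down : ULift.{u} ℤ × ULift.{u} ℤ) * (0, 1) := by
    ext <;> simp
  rw [hp, map_add, map_add, map_mul, map_mul, map_mul, map_mul, map_intCast, map_intCast, map_intCast, map_intCast, h, h1]

/-- The idempotent of a map to two points. -/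
def idemOf {Y : Scheme.{u}} (m : Y ⟶ Spec Z2.{u}) : Γ(Y, ⊤) :=
  m.appTop ((Scheme.ΓSpecIso Z2).inv ((1, 0) : ULift.{u} ℤ × ULift.{u} ℤ))

/-- The map to two points of an idempotent. -/
def toTwo {Y : Scheme.{u}} (e : Γ(Y, ⊤)) (he : IsIdempotentElem e) : Y ⟶ Spec Z2.{u} :=
  Y.toSpecΓ ≫ Spec.map (CommRingCat.ofHom (idemHom e he))

theorem isIdempotentElem_idemOf {Y : Scheme.{u}} (m : Y ⟶ Spec Z2.{u}) : IsIdempotentElem (idemOf m) := by
  show idemOf m * idemOf m = idemOf m
  rw [idemOf, ← map_mul, ← map_mul]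
  congr 2

theorem idemOf_comp {Y Y' : Scheme.{u}} (g : Y' ⟶ Y) (m : Y ⟶ Spec Z2.{u}) :
    idemOf (g ≫ m) = g.appTop (idemOf m) := rfl

theorem idemOf_toTwo {Y : Scheme.{u}} (e : Γ(Y, ⊤)) (he : IsIdempotentElem e) : idemOf (toTwo e he) = e := by
  have h1 : (Scheme.ΓSpecIso Z2).inv ≫ (toTwo e he).appTop = CommRingCat.ofHom (idemHom e he) := by
    rw [toTwo, Scheme.Hom.comp_appTop, Scheme.toSpecΓ_appTop, ← Category.assoc,
      ← Scheme.ΓSpecIso_inv_naturality, Category.assoc, Iso.inv_hom_id, Category.comp_id]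
  exact (ConcreteCategory.congr_hom h1 _).trans (idemHom_one e he)

theorem two_hom_ext {Y : Scheme.{u}} {m m' : Y ⟶ Spec Z2.{u}} (h : idemOf m = idemOf m') : m = m' := by
  apply ext_of_isAffine
  rw [← cancel_epi (Scheme.ΓSpecIso Z2).inv]
  exact CommRingCat.hom_ext (hom_ext_two h)

variable {X₀ X : Scheme.{u}} (i : X₀ ⟶ X)

/-- Two points over `X`. -/
def twoCover : FEt.Cat X :=
  MorphismProperty.Over.mk ⊤ (pullback.fst (specULiftZIsTerminal.from X) two)
    ⟨MorphismProperty.pullback_fst _ _ inferInstance, MorphismProperty.pullback_fst _ _ inferInstance⟩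

variable [(FEt.restrict i).Full] [(FEt.restrict i).Faithful]

/-- Clopen subsets lift uniquely. -/
theorem existsUnique_clopen (Y : FEt.Cat X) {V : Set ↥(pullback Y.hom i)} (hV : IsClopen V) :
    ∃! U : Set ↥Y.left, IsClopen U ∧ (pullback.fst Y.hom i).base ⁻¹' U = V := by
  let ρ := pullback.fst Y.hom i
  obtain ⟨eV, heV, hVe⟩ := SectionsIdem.exists_idempotent hV
  let T : FEt.Cat X := twoCover
  let pr : T.left ⟶ Spec Z2.{u} := pullback.snd (specULiftZIsTerminal.from X) two
  have hfst : ∀ {Y' : FEt.Cat X} (ψ : Y ⟶ Y'), ((FEt.restrict i).map ψ).left ≫ pullback.fst Y'.hom i = ρ ≫ ψ.left :=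
    fun ψ => FEtStein.restrict_map_fst' i ψ
  let φ₀ : (FEt.restrict i).obj Y ⟶ (FEt.restrict i).obj T :=
    MorphismProperty.Over.homMk (pullback.lift (f := T.hom) (g := i)
      (pullback.lift (pullback.snd Y.hom i ≫ i) (toTwo eV heV) (specULiftZIsTerminal.hom_ext _ _))
      (pullback.snd Y.hom i) (pullback.lift_fst _ _ _)) (pullback.lift_snd _ _ _)
  obtain ⟨ψ, hψ⟩ := (FEt.restrict i).map_surjective φ₀
  let e := idemOf (ψ.left ≫ pr)
  have he : IsIdempotentElem e := isIdempotentElem_idemOf _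
  have hρe : ρ.appTop e = eV := by
    rw [← idemOf_comp, ← Category.assoc, ← hfst ψ, hψ]
    show idemOf ((pullback.lift _ _ _ ≫ pullback.fst T.hom i) ≫ pr) = _
    rw [pullback.lift_fst, pullback.lift_snd, idemOf_toTwo]
  have hpre : ∀ x : Γ(Y.left, ⊤), (ρ.base ⁻¹' (Y.left.basicOpen x : Set Y.left)) =
      ((pullback Y.hom i).basicOpen (ρ.appTop x) : Set ↥(pullback Y.hom i)) := fun x =>
    congrArg SetLike.coe (Scheme.preimage_basicOpen_top ρ x)
  refine ⟨Y.left.basicOpen e, ⟨SectionsIdem.isClopen_basicOpen he, ?_⟩, ?_⟩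
  · rw [hpre, hρe]
    exact hVe
  rintro U ⟨hU, hUV⟩
  obtain ⟨e', he', hUe⟩ := SectionsIdem.exists_idempotent hU
  have hρe' : ρ.appTop e' = eV := by
    refine SectionsIdem.eq_of_basicOpen_eq (he'.map ρ.appTop.hom) heV (SetLike.coe_injective ?_)
    rw [← hpre, hUe]
    exact hUV.trans hVe.symm
  let ψ' : Y ⟶ T := MorphismProperty.Over.homMk
    (pullback.lift Y.hom (toTwo e' he') (specULiftZIsTerminal.hom_ext _ _)) (pullback.lift_fst _ _ _)
  have hψ' : (FEt.restrict i).map ψ' = φ₀ := by
    refine MorphismProperty.Over.Hom.ext (pullback.hom_ext ?_ ?_)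
    · rw [hfst ψ']
      show ρ ≫ pullback.lift _ _ _ = pullback.lift _ _ _ ≫ pullback.fst T.hom i
      rw [pullback.lift_fst]
      refine pullback.hom_ext ?_ ?_
      · rw [Category.assoc, pullback.lift_fst, pullback.lift_fst]
        exact pullback.condition
      · rw [Category.assoc, pullback.lift_snd, pullback.lift_snd]
        exact two_hom_ext (by rw [idemOf_comp, idemOf_toTwo, idemOf_toTwo, hρe'])
    · exact (MorphismProperty.Over.w ((FEt.restrict i).map ψ')).trans (MorphismProperty.Over.w φ₀).symm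
  have : e' = e := by
    have h1 : ψ' = ψ := (FEt.restrict i).map_injective (hψ'.trans hψ.symm)
    rw [show e = idemOf (ψ.left ≫ pr) from rfl, ← h1]
    show e' = idemOf (pullback.lift _ _ _ ≫ pr)
    rw [pullback.lift_snd, idemOf_toTwo]
  rw [← hUe, this]

end Groth.Agent.Purity10.ClopenOfFF
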