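import Groth.Agent.Lef23.PuncturedClopen
import Groth.Agent.Lef23.PuncturedDescend
import Mathlib.RingTheory.TensorProduct.Finite
import Mathlib.RingTheory.IntegralClosure.IsIntegralClosure.Basic
import Mathlib.RingTheory.Polynomial.ScaleRoots

/-!
# Integral functions on covers of punctured spectra and completion
-/

set_option autoImplicit false
set_option linter.style.haveILetI false
set_option backward.isDefEq.respectTransparency false
universe u

open CategoryTheory CategoryTheory.Limits AlgebraicGeometry TensorProduct Polynomial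

namespace Groth.Agent.Purity10.Compl

section cover

variable {R : CommRingCat.{u}} [IsNoetherianRing R] (𝔞 : Ideal R) {Y : Scheme.{u}} (g : Y ⟶ Formal2Lib.Punct.US 𝔞)
  [IsFinite g] [Etale g] [Algebra R Γ(Y, ⊤)]
  (hα : ∀ r : R, algebraMap R Γ(Y, ⊤) r = (g ≫ Formal2Lib.Punct.jU 𝔞).appTop ((Scheme.ΓSpecIso R).inv r))

include hα in
/-- Functions are integral up to powers of elements of the defining ideal. -/
theorem exists_pow_smul_integral {a : R} (ha : a ∈ 𝔞) (x : Γ(Y, ⊤)) : ∃ N : ℕ, IsIntegral R (a ^ N • x) := by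
  obtain ⟨M, hM, htor⟩ := Lef23.PuncturedClopen.exists_fg_torsion 𝔞 g hα
  choose m hm using fun y => htor y
  obtain ⟨s, hs⟩ := hM
  let p := ∑ b ∈ s, m (x * b)
  have hstab : ∀ y ∈ M, a ^ p • x * y ∈ M := by
    intro y hy
    rw [← hs] at hy
    induction hy using Submodule.span_induction with
    | mem b hb =>
      have hle : m (x * b) ≤ p := Finset.single_le_sum (f := fun b => m (x * b)) (fun _ _ => Nat.zero_le _) hb
      rw [smul_mul_assoc]
      exact hm (x * b) (a ^ p) (Ideal.pow_le_pow_right hle (Ideal.pow_mem_pow ha p))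
    | zero => rw [mul_zero]; exact M.zero_mem
    | add u v _ _ hu hv => rw [mul_add]; exact M.add_mem hu hv
    | smul r u _ hu => rw [mul_smul_comm]; exact M.smul_mem r hu
  let L : M →ₗ[R] M :=
    { toFun := fun y => ⟨a ^ p • x * y, hstab y y.2⟩
      map_add' := fun u v => Subtype.ext (mul_add _ _ _)
      map_smul' := fun r u => Subtype.ext (mul_smul_comm r _ _) }
  haveI : Module.Finite R M := Module.Finite.iff_fg.2 ⟨s, hs⟩
  obtain ⟨P, hPm, -, hP⟩ := LinearMap.exists_monic_and_natDegree_eq_and_aeval_eq_zero R L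
  have hpow : ∀ (k : ℕ) (y : M), ((L ^ k) y : Γ(Y, ⊤)) = (a ^ p • x) ^ k * y := by
    intro k
    induction k with
    | zero => intro y; simp
    | succ k ih =>
      intro y
      rw [pow_succ, Module.End.mul_apply, ih, pow_succ, mul_assoc]
      rfl
  have hev : ∀ (Q : R[X]) (y : M), ((aeval L Q) y : Γ(Y, ⊤)) = aeval (a ^ p • x) Q * y := by
    intro Q y
    induction Q using Polynomial.induction_on' with
    | add u v hu hv => simp [map_add, hu, hv, add_mul]
    | monomial k r =>
      rw [aeval_monomial, aeval_monomial, Module.End.mul_apply, Module.algebraMap_end_apply, Submodule.coe_smul,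
        hpow, Algebra.smul_def, mul_assoc]
  let P' := P * X
  have hP'm : P'.Monic := hPm.mul monic_X
  let m1 := m 1
  have h1 : a ^ m1 • (1 : Γ(Y, ⊤)) ∈ M := hm 1 _ (Ideal.pow_mem_pow ha _)
  have hkill : algebraMap R Γ(Y, ⊤) (a ^ m1) * aeval (a ^ p • x) P = 0 := by
    have h := hev P ⟨_, h1⟩
    rw [hP] at h
    rw [Algebra.algebraMap_eq_smul_one, mul_comm]
    exact h.symm
  rcases subsingleton_or_nontrivial R with _ | _
  · exact ⟨0, X, monic_X, by
      haveI : Subsingleton Γ(Y, ⊤) := Module.subsingleton R _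
      exact Subsingleton.elim _ _⟩
  refine ⟨m1 + p, P'.scaleRoots (a ^ m1), (monic_scaleRoots_iff _).2 hP'm, ?_⟩
  rw [show a ^ (m1 + p) • x = algebraMap R Γ(Y, ⊤) (a ^ m1) * (a ^ p • x) by
    rw [← Algebra.smul_def, smul_smul, pow_add], scaleRoots_eval₂_mul]
  obtain ⟨k, hk⟩ : ∃ k, P'.natDegree = k + 1 := ⟨P.natDegree, by rw [natDegree_mul_X hPm.ne_zero]⟩
  rw [hk, pow_succ, mul_assoc, ← aeval_def, show P' = P * X from rfl, map_mul, aeval_X,
    ← mul_assoc (algebraMap R Γ(Y, ⊤) (a ^ m1)), hkill, zero_mul, mul_zero]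

end cover

variable {A : Type u} [CommRing A] [IsNoetherianRing A] [IsLocalRing A] {A' : Type u} [CommRing A'] [Algebra A A']
  [IsNoetherianRing A'] [Module.FaithfullyFlat A A']
  (hdense : ∀ (n : ℕ) (b : A'), ∃ a : A,
    b - algebraMap A A' a ∈ ((IsLocalRing.maximalIdeal A) ^ n).map (algebraMap A A'))

include hdense in
/-- An element integral over the completion comes from the integral closure. -/
theorem exists_tensor_integralClosure {C : Type u} [CommRing C] [Algebra A C]
    (hC : ∀ a ∈ IsLocalRing.maximalIdeal A, ∀ c : C, ∃ N : ℕ, IsIntegral A (a ^ N • c))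
    (z : A' ⊗[A] C) (hz : IsIntegral A' z) :
    ∃ β : A' ⊗[A] integralClosure A C,
      Algebra.TensorProduct.map (AlgHom.id A' A') (integralClosure A C).val β = z := by
  let B := integralClosure A C
  let χ : A' ⊗[A] B →ₐ[A'] A' ⊗[A] C := Algebra.TensorProduct.map (AlgHom.id A' A') B.val
  haveI : Algebra.IsIntegral A B := integralClosure.AlgebraIsIntegral
  have hχ : ∀ w, IsIntegral A' (χ w) := fun w => (Algebra.IsIntegral.isIntegral (R := A') w).map χ
  have key : ∀ w : A' ⊗[A] C, ∃ c : C, w - 1 ⊗ₜ c ∈ χ.range := by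
    intro w
    induction w with
    | zero => exact ⟨0, by rw [TensorProduct.tmul_zero, sub_zero]; exact χ.range.zero_mem⟩
    | add u v hu hv =>
      obtain ⟨c, hc⟩ := hu
      obtain ⟨c', hc'⟩ := hv
      exact ⟨c + c', by rw [TensorProduct.tmul_add, add_sub_add_comm]; exact χ.range.add_mem hc hc'⟩
    | tmul a' c =>
      obtain ⟨n, hn⟩ := Formal2Lib.Punct.torsion_of_gens (R := CommRingCat.of A) (IsLocalRing.maximalIdeal A)
        (t := (IsLocalRing.maximalIdeal A : Set A)) (Ideal.span_eq _).ge (Subalgebra.toSubmodule B) c fun a ha => hC a ha c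
      obtain ⟨a, ha⟩ := hdense n a'
      refine ⟨a • c, ?_⟩
      have e : (1 : A') ⊗ₜ[A] (a • c) = algebraMap A A' a ⊗ₜ[A] c := by
        rw [Algebra.algebraMap_eq_smul_one a, TensorProduct.smul_tmul]
      rw [e, ← TensorProduct.sub_tmul]
      generalize a' - algebraMap A A' a = d at ha ⊢
      induction ha using Submodule.span_induction with
      | mem x hx =>
        obtain ⟨r, hr, rfl⟩ := hx
        refine ⟨1 ⊗ₜ ⟨r • c, hn r hr⟩, ?_⟩
        show (1 : A') ⊗ₜ[A] (r • c) = _
        rw [Algebra.algebraMap_eq_smul_one r, TensorProduct.smul_tmul]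
      | zero => rw [TensorProduct.zero_tmul]; exact χ.range.zero_mem
      | add u v _ _ hu hv => rw [TensorProduct.add_tmul]; exact χ.range.add_mem hu hv
      | smul r u _ hu =>
        obtain ⟨w, hw⟩ := hu
        refine ⟨r • w, ?_⟩
        show χ (r • w) = _
        rw [map_smul, show χ w = u ⊗ₜ[A] c from hw, TensorProduct.smul_tmul']
  obtain ⟨c, hc⟩ := key z
  obtain ⟨β, hβ⟩ := hc
  change χ β = z - 1 ⊗ₜ c at hβ
  have hint : IsIntegral A' ((1 : A') ⊗ₜ[A] c) := by
    rw [show (1 : A') ⊗ₜ[A] c = z - χ β by rw [hβ, sub_sub_cancel]]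
    exact hz.sub (hχ β)
  have hcB : IsIntegral A c := by
    let S := Algebra.adjoin A ({c} : Set C)
    let ψ : A' ⊗[A] S →ₐ[A'] A' ⊗[A] C := Algebra.TensorProduct.map (AlgHom.id A' A') S.val
    have hψi : Function.Injective ψ :=
      Module.Flat.lTensor_preserves_injective_linearMap (M := A') S.val.toLinearMap Subtype.val_injective
    let T := Algebra.adjoin A' ({(1 : A') ⊗ₜ[A] c} : Set (A' ⊗[A] C))
    have hle : ∀ w, ψ w ∈ T := by
      intro w
      induction w with
      | zero => rw [map_zero]; exact T.zero_mem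
      | add u v hu hv => rw [map_add]; exact T.add_mem hu hv
      | tmul a' s =>
        obtain ⟨q, hq⟩ : ∃ q : A[X], aeval c q = (s : C) := by
          have h : (s : C) ∈ (aeval c : A[X] →ₐ[A] C).range :=
            Algebra.adjoin_singleton_eq_range_aeval A c ▸ s.2
          exact h
        have hinc : (1 : A') ⊗ₜ[A] (s : C) ∈ T := by
          rw [← hq]
          show (Algebra.TensorProduct.includeRight : C →ₐ[A] A' ⊗[A] C) (aeval c q) ∈ T
          rw [← aeval_algHom_apply, ← aeval_map_algebraMap A']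
          have hm : aeval ((1 : A') ⊗ₜ[A] c) (q.map (algebraMap A A')) ∈ T := by
            rw [show T = (aeval ((1 : A') ⊗ₜ[A] c) : A'[X] →ₐ[A'] A' ⊗[A] C).range from
              Algebra.adjoin_singleton_eq_range_aeval A' ((1 : A') ⊗ₜ[A] c)]
            exact ⟨_, rfl⟩
          exact hm
        show (a' ⊗ₜ[A] (s : C)) ∈ T
        rw [show a' ⊗ₜ[A] (s : C) = a' • ((1 : A') ⊗ₜ[A] (s : C)) by
          rw [TensorProduct.smul_tmul', smul_eq_mul, mul_one]]
        exact T.smul_mem hinc a'
    haveI : Module.Finite A' T := Module.Finite.iff_fg.2 hint.fg_adjoin_singleton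
    haveI : _root_.IsNoetherian A' T := isNoetherian_of_isNoetherianRing_of_finite A' T
    haveI : Module.Finite A' (A' ⊗[A] S) :=
      Module.Finite.of_injective (ψ.codRestrict T hle).toLinearMap fun u v h => hψi (congrArg Subtype.val h)
    haveI : Module.Finite A S := Module.Finite.of_finite_tensorProduct_of_faithfullyFlat A'
    exact IsIntegral.of_mem_of_fg S (Module.Finite.iff_fg.1 inferInstance) c (Algebra.subset_adjoin rfl)
  exact ⟨β + 1 ⊗ₜ ⟨c, hcB⟩, by
    rw [map_add]
    show χ β + (1 : A') ⊗ₜ[A] c = z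
    rw [hβ, sub_add_cancel]⟩

end Groth.Agent.Purity10.Compl
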