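import Groth.Agent.Purity10.ClopenOfFF
import Groth.Agent.Purity10.ComplIntegral
import Groth.Agent.Lef23.PuncturedDescendScheme
import Groth.Agent.Lef23.PuncturedExtend
import Groth.Agent.HenselLib.Idem

/-!
# Lifting of clopen subsets descends from the completion
-/

set_option autoImplicit false
set_option linter.style.haveILetI false
set_option backward.isDefEq.respectTransparency false
set_option maxHeartbeats 1000000
universe u

open CategoryTheory CategoryTheory.Limits AlgebraicGeometry TopologicalSpace TensorProduct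
open Groth.Agent.HenselLib

noncomputable section

namespace Groth.Agent.Purity10.Compl

theorem exists_pow_smul_integral' {A : Type u} [CommRing A] [IsNoetherianRing A] [IsLocalRing A]
    (U : (Spec (CommRingCat.of A)).Opens)
    (hU : U = LocCoh.puncturedOpen (CommRingCat.of A) (IsLocalRing.maximalIdeal A))
    {Y : Scheme.{u}} (g : Y ⟶ (U : Scheme.{u})) [IsFinite g] [Etale g] [Algebra A Γ(Y, ⊤)]
    (hα : ∀ r : A, algebraMap A Γ(Y, ⊤) r = (g ≫ U.ι).appTop ((Scheme.ΓSpecIso (CommRingCat.of A)).inv r))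
    {a : A} (ha : a ∈ IsLocalRing.maximalIdeal A) (x : Γ(Y, ⊤)) : ∃ N : ℕ, IsIntegral A (a ^ N • x) := by
  subst hU
  letI : Algebra (CommRingCat.of A) Γ(Y, ⊤) := ‹Algebra A Γ(Y, ⊤)›
  haveI : IsNoetherianRing (CommRingCat.of A) := ‹IsNoetherianRing A›
  exact exists_pow_smul_integral (R := CommRingCat.of A) (IsLocalRing.maximalIdeal A) g hα ha x

variable (A : Type u) [CommRing A] [IsNoetherianRing A] [IsLocalRing A] (A' : Type u) [CommRing A'] [Algebra A A']
  [IsNoetherianRing A'] [Module.FaithfullyFlat A A']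
  (hdense : ∀ (n : ℕ) (b : A'), ∃ a : A,
    b - algebraMap A A' a ∈ ((IsLocalRing.maximalIdeal A) ^ n).map (algebraMap A A'))

include hdense in
/-- Unique lifting of clopen subsets from the trace on `f = 0` descends from `A'`. -/
theorem existsUnique_clopen (f : A) [HenselianRing A (Ideal.span {f})]
    {X₀ : Scheme.{u}} (i : X₀ ⟶ (FEt.puncturedSpec A : Scheme.{u})) [IsPreimmersion i]
    (hi : Set.range i = {z : (FEt.puncturedSpec A : Scheme.{u}) | f ∈ ((FEt.puncturedSpec A).ι z).asIdeal})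
    [(FEt.restrict (pullback.fst (pullback.fst (FEt.puncturedSpec A).ι (Lef23.Descend.gq A A')) i)).Full]
    [(FEt.restrict (pullback.fst (pullback.fst (FEt.puncturedSpec A).ι (Lef23.Descend.gq A A')) i)).Faithful]
    (Y : Scheme.{u}) (g : Y ⟶ (FEt.puncturedSpec A : Scheme.{u})) (hfin : IsFinite g) (het : Etale g)
    (V : Set ↥(pullback g i)) (hV : IsClopen V) :
    ∃! U : Set ↥Y, IsClopen U ∧ (pullback.fst g i).base ⁻¹' U = V := by
  haveI := hfin
  haveI := het
  let U := FEt.puncturedSpec A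
  let gA := Lef23.Descend.gq A A'
  let k := pullback.fst U.ι gA
  let i' := pullback.fst k i
  let s := pullback.fst g k
  let g' := pullback.snd g k
  haveI : IsFinite g' := MorphismProperty.pullback_snd _ _ ‹IsFinite g›
  haveI : Etale g' := MorphismProperty.pullback_snd _ _ ‹Etale g›
  haveI : Flat gA := (HasRingHomProperty.Spec_iff (P := @Flat)).2 (RingHom.flat_algebraMap_iff.2 inferInstance)
  haveI hgs : Surjective gA := ⟨PrimeSpectrum.comap_surjective_of_faithfullyFlat⟩
  haveI : Surjective k := MorphismProperty.pullback_fst _ _ hgs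
  haveI : Surjective s := MorphismProperty.pullback_fst _ _ ‹Surjective k›
  let ρ := pullback.fst g i
  haveI : IsPreimmersion ρ := MorphismProperty.pullback_fst _ _ ‹IsPreimmersion i›
  let j : pullback g' i' ⟶ pullback g i := pullback.lift (pullback.fst g' i' ≫ s) (pullback.snd g' i' ≫ pullback.snd k i)
    (by simp only [s, g', i', Category.assoc, pullback.condition, reassoc_of% (pullback.condition (f := g') (g := i'))])
  have hj : j ≫ ρ = pullback.fst g' i' ≫ s := pullback.lift_fst _ _ _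
  let Yc : FEt.Cat (pullback U.ι gA) := MorphismProperty.Over.mk ⊤ g' ⟨inferInstance, inferInstance⟩
  obtain ⟨U1, ⟨hU1, hU1V⟩, hU1u⟩ := ClopenOfFF.existsUnique_clopen i' Yc (hV.preimage j.continuous)
  change (pullback.fst g' i').base ⁻¹' U1 = j.base ⁻¹' V at hU1V
  have huniq : ∀ U2 : Set Y, IsClopen U2 → ρ.base ⁻¹' U2 = V → s.base ⁻¹' U2 = U1 := fun U2 hU2 hU2V =>
    hU1u _ ⟨hU2.preimage s.continuous, Set.ext fun w => by
      show s (pullback.fst g' i' w) ∈ U2 ↔ j w ∈ V
      rw [← Scheme.Hom.comp_apply, ← hj, Scheme.Hom.comp_apply, ← hU2V]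
      rfl⟩
  suffices hex : ∃ U2 : Set Y, IsClopen U2 ∧ ρ.base ⁻¹' U2 = V by
    obtain ⟨U2, hU2, hU2V⟩ := hex
    exact ⟨U2, ⟨hU2, hU2V⟩, fun U3 ⟨hU3, hU3V⟩ => Function.Surjective.preimage_injective s.surjective
      ((huniq U3 hU3 hU3V).trans (huniq U2 hU2 hU2V).symm)⟩
  -- Noetherian and compact
  haveI : IsLocallyNoetherian (U : Scheme.{u}) := isLocallyNoetherian_of_isOpenImmersion U.ι
  haveI : CompactSpace (U : Scheme.{u}) :=
    isCompact_iff_compactSpace.1 (NoetherianSpace.isCompact (α := PrimeSpectrum A) U.1)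
  haveI : CompactSpace Y := QuasiCompact.compactSpace_of_compactSpace g
  haveI : IsLocallyNoetherian Y := LocallyOfFiniteType.isLocallyNoetherian g
  let Y' := pullback g k
  let sV : Y ⟶ Spec (CommRingCat.of A) := g ≫ U.ι
  let sP : Y' ⟶ Spec (CommRingCat.of A') := g' ≫ pullback.snd U.ι gA
  have HP : IsPullback s sP sV gA :=
    (IsPullback.of_hasPullback g k).paste_vert (IsPullback.of_hasPullback U.ι gA)
  -- the rings
  let C := Γ(Y, ⊤)
  let D := Γ(Y', ⊤)
  let αC : CommRingCat.of A ⟶ C := (Scheme.ΓSpecIso (CommRingCat.of A)).inv ≫ sV.appTop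
  let αD : CommRingCat.of A' ⟶ D := (Scheme.ΓSpecIso (CommRingCat.of A')).inv ≫ sP.appTop
  letI : Algebra A C := αC.hom.toAlgebra
  letI : Algebra A' D := αD.hom.toAlgebra
  letI : Algebra A D := (αD.hom.comp (algebraMap A A')).toAlgebra
  haveI : IsScalarTower A A' D := .of_algebraMap_eq' rfl
  letI : Algebra C D := s.appTop.hom.toAlgebra
  have hsq : CommRingCat.ofHom (algebraMap A A') ≫ αD = αC ≫ s.appTop := by
    show CommRingCat.ofHom _ ≫ (_ ≫ sP.appTop) = (_ ≫ sV.appTop) ≫ s.appTop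
    rw [← Category.assoc, Scheme.ΓSpecIso_inv_naturality, Category.assoc, Category.assoc,
      ← Scheme.Hom.comp_appTop, ← Scheme.Hom.comp_appTop, HP.w]
  haveI : IsScalarTower A C D := .of_algebraMap_eq' (congrArg CommRingCat.Hom.hom hsq)
  have hpush : Algebra.IsPushout A A' C D := by
    rw [← CommRingCat.isPushout_iff_isPushout]
    exact (Et18.isPushout_appTop_of_flat HP).flip.of_iso (Scheme.ΓSpecIso (CommRingCat.of A))
      (Scheme.ΓSpecIso (CommRingCat.of A')) (Iso.refl _) (Iso.refl _)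
      ((congrArg (fun k => k) (Scheme.ΓSpecIso_naturality (CommRingCat.ofHom (algebraMap A A')))))
      (by
        show sV.appTop ≫ 𝟙 _ = (Scheme.ΓSpecIso (CommRingCat.of A)).hom ≫ αC
        simp [αC])
      (by
        show sP.appTop ≫ 𝟙 _ = (Scheme.ΓSpecIso (CommRingCat.of A')).hom ≫ αD
        simp [αD])
      (by show _ ≫ 𝟙 _ = 𝟙 _ ≫ s.appTop; simp)
  let E : A' ⊗[A] C ≃ₐ[A'] D := Algebra.IsPushout.equiv A A' C D
  have hC : ∀ a ∈ IsLocalRing.maximalIdeal A, ∀ c : C, ∃ N : ℕ, IsIntegral A (a ^ N • c) := fun a ha c =>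
    exists_pow_smul_integral' U (Lef23.PuncturedExtend.puncturedSpec_eq A) g (fun _ => rfl) ha c
  -- the integral model and its base change
  let B := integralClosure A C
  let T := A' ⊗[A] B
  let χ : T →ₐ[A'] A' ⊗[A] C := Algebra.TensorProduct.map (AlgHom.id A' A') B.val
  let mB : Y ⟶ Spec (CommRingCat.of B) := Y.toSpecΓ ≫ Spec.map (CommRingCat.ofHom B.val.toRingHom)
  let y := Spec.map (CommRingCat.ofHom (algebraMap A B))
  have hmB : mB ≫ y = sV := by
    simp only [mB, y, Category.assoc, ← Spec.map_comp]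
    rw [show CommRingCat.ofHom (algebraMap A B) ≫ CommRingCat.ofHom B.val.toRingHom = αC from
      CommRingCat.hom_ext B.val.comp_algebraMap]
    exact Lef23.Descend.toSpecΓ_comp_map sV
  have hmBv : ∀ b : B, mB.appTop ((Scheme.ΓSpecIso (CommRingCat.of B)).inv b) = (b : C) := fun b => by
    have h1 : (Scheme.ΓSpecIso (CommRingCat.of B)).inv ≫ mB.appTop = CommRingCat.ofHom B.val.toRingHom := by
      simp only [mB, Scheme.Hom.comp_appTop, ← Category.assoc, ← Scheme.ΓSpecIso_inv_naturality,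
        Scheme.toSpecΓ_appTop]
      simp
    exact ConcreteCategory.congr_hom h1 b
  have HV : IsPullback mB g y U.ι := Lef23.Descend.isPullback_of_torsion A g mB hmB fun a ha => by
    refine ⟨fun z hz => ⟨0, ?_⟩, fun c => ?_⟩
    · obtain ⟨b, rfl⟩ := (ConcreteCategory.bijective_of_isIso (Scheme.ΓSpecIso (CommRingCat.of B)).inv).2 z
      rw [hmBv] at hz
      rw [show b = 0 from Subtype.ext hz, map_zero, mul_zero]
    · obtain ⟨N, hN⟩ := hC a ha c
      refine ⟨N, (Scheme.ΓSpecIso (CommRingCat.of B)).inv ⟨_, hN⟩, (hmBv _).trans ?_⟩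
      rw [hmBv]
      show a ^ N • c = algebraMap A C a ^ N * c
      rw [Algebra.smul_def, map_pow]
  let incR := CommRingCat.ofHom (Algebra.TensorProduct.includeRight (R := A) (A := A') (B := B)).toRingHom
  let incL := CommRingCat.ofHom (algebraMap A' T)
  let π : Spec (CommRingCat.of T) ⟶ Spec (CommRingCat.of B) := Spec.map incR
  let p1 : Spec (CommRingCat.of T) ⟶ Spec (CommRingCat.of A') := Spec.map incL
  have H0 : IsPullback p1 π gA y :=
    isPullback_SpecMap_of_isPushout _ _ _ _ (CommRingCat.isPushout_tensorProduct A A' B)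
  let Eχ : T →ₐ[A'] D := E.toAlgHom.comp χ
  let m' : Y' ⟶ Spec (CommRingCat.of T) := Y'.toSpecΓ ≫ Spec.map (CommRingCat.ofHom Eχ.toRingHom)
  have hm'v : ∀ t : T, m'.appTop ((Scheme.ΓSpecIso (CommRingCat.of T)).inv t) = Eχ t := fun t => by
    have h1 : (Scheme.ΓSpecIso (CommRingCat.of T)).inv ≫ m'.appTop = CommRingCat.ofHom Eχ.toRingHom := by
      simp only [m', Scheme.Hom.comp_appTop, ← Category.assoc, ← Scheme.ΓSpecIso_inv_naturality,
        Scheme.toSpecΓ_appTop]
      simp
    exact ConcreteCategory.congr_hom h1 t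
  have hm'1 : m' ≫ p1 = sP := by
    simp only [m', p1, Category.assoc, ← Spec.map_comp]
    rw [show incL ≫ CommRingCat.ofHom Eχ.toRingHom = αD from CommRingCat.hom_ext Eχ.comp_algebraMap]
    exact Lef23.Descend.toSpecΓ_comp_map sP
  have hm'2 : m' ≫ π = s ≫ mB := by
    simp only [m', π, mB, Category.assoc, ← Spec.map_comp, Scheme.toSpecΓ_naturality_assoc]
    congr 2
    refine CommRingCat.hom_ext (RingHom.ext fun b => ?_)
    show E ((1 : A') ⊗ₜ[A] (b : C)) = algebraMap C D (b : C)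
    rw [Algebra.IsPushout.equiv_tmul]
    simp
  have HY : IsPullback m' s π mB := IsPullback.of_right (h₁₂ := p1) (v₁₃ := gA) (h₂₂ := y)
    (by rw [hm'1, hmB]; exact HP.flip) hm'2 H0
  -- the idempotent
  obtain ⟨e', he', he'U⟩ := SectionsIdem.exists_idempotent hU1
  have hz : IsIntegral A' (E.symm e') := by
    refine ⟨Polynomial.X * (Polynomial.X - 1), Polynomial.monic_X.mul (Polynomial.monic_X_sub_C (1 : A')), ?_⟩
    rw [← Polynomial.aeval_def]
    simp only [map_mul, map_sub, Polynomial.aeval_X, map_one]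
    rw [mul_sub, mul_one, ← map_mul, he'.eq, sub_self]
  obtain ⟨β, hβ⟩ := exists_tensor_integralClosure hdense hC (E.symm e') hz
  have hEβ : Eχ β = e' := by
    show E (χ β) = e'
    rw [show χ β = E.symm e' from hβ, E.apply_symm_apply]
  have hβidem : IsIdempotentElem β := by
    have hχi : Function.Injective χ :=
      Module.Flat.lTensor_preserves_injective_linearMap (M := A') B.val.toLinearMap Subtype.val_injective
    refine hχi ?_
    rw [map_mul, show χ β = E.symm e' from hβ, ← map_mul, he'.eq]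
  let Oo : (Spec (CommRingCat.of T)).Opens := PrimeSpectrum.basicOpen β
  let O : Set (Spec (CommRingCat.of T)) := Oo.carrier
  have hO : IsClopen O := PrimeSpectrum.isClopen_iff.2 ⟨β, hβidem, rfl⟩
  have hmem' : ∀ y' : Y', m' y' ∈ O ↔ y' ∈ U1 := fun y' => by
    rw [← he'U]
    show y' ∈ m' ⁻¹ᵁ PrimeSpectrum.basicOpen β ↔ y' ∈ (Y'.basicOpen e' : Set Y')
    rw [show (PrimeSpectrum.basicOpen β : (Spec (CommRingCat.of T)).Opens) =
      (Spec (CommRingCat.of T)).basicOpen ((Scheme.ΓSpecIso (CommRingCat.of T)).inv β) from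
      (basicOpen_eq_of_affine (R := CommRingCat.of T) β).symm, Scheme.preimage_basicOpen_top, hm'v, hEβ]
    rfl
  -- fibres
  have hρf : ∀ y0 : Y, f ∈ (sV y0).asIdeal → ∃ p, ρ p = y0 := fun y0 hy0 => by
    have : g y0 ∈ Set.range i := hi.symm.subset hy0
    obtain ⟨x, hx⟩ := this
    obtain ⟨p, hp, -⟩ := Scheme.Pullback.exists_preimage_pullback (f := g) (g := i) y0 x hx.symm
    exact ⟨p, hp⟩
  have hlift : ∀ y' : Y', f ∈ (sV (s y')).asIdeal → ∃ w, pullback.fst g' i' w = y' := fun y' hy' => by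
    have h1 : k (g' y') ∈ Set.range i := hi.symm.subset (by
      show f ∈ (U.ι (k (g' y'))).asIdeal
      rw [← Scheme.Hom.comp_apply g' k, ← pullback.condition, Scheme.Hom.comp_apply]
      exact hy')
    have h2 : g' y' ∈ Set.range i' := by rw [Scheme.Pullback.range_fst]; exact h1
    obtain ⟨x, hx⟩ := h2
    obtain ⟨w, hw, -⟩ := Scheme.Pullback.exists_preimage_pullback (f := g') (g := i') y' x hx.symm
    exact ⟨w, hw⟩
  have hU1p : ∀ y' p, ρ p = s y' → f ∈ (sV (s y')).asIdeal → (y' ∈ U1 ↔ p ∈ V) := fun y' p hp hy' => by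
    obtain ⟨w, hw⟩ := hlift y' hy'
    have : j w = p := ρ.isEmbedding.injective (by
      rw [hp, ← hw, ← Scheme.Hom.comp_apply, hj, Scheme.Hom.comp_apply])
    rw [← this, ← hw]
    exact Set.ext_iff.1 hU1V w
  let fB : B := algebraMap A B f
  have hfib : ∀ q₁ q₂, π q₁ = π q₂ → fB ∈ (π q₁).asIdeal → q₁ ∈ O → q₂ ∈ O := by
    intro q₁ q₂ hq hf1 hq1
    by_cases hm : y (π q₁) ∈ U
    · obtain ⟨z, hz⟩ : ∃ z : U.toScheme, U.ι z = y (π q₁) := ⟨⟨_, hm⟩, rfl⟩
      obtain ⟨y0, hy0, -⟩ := Scheme.exists_preimage_of_isPullback HV (π q₁) z hz.symm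
      obtain ⟨y1, h11, h12⟩ := Scheme.exists_preimage_of_isPullback HY q₁ y0 hy0.symm
      obtain ⟨y2, h21, h22⟩ := Scheme.exists_preimage_of_isPullback HY q₂ y0 (hq.symm.trans hy0.symm)
      have hfy : f ∈ (sV y0).asIdeal := by
        rw [← hmB, Scheme.Hom.comp_apply, hy0]
        exact hf1
      obtain ⟨p, hp⟩ := hρf y0 hfy
      rw [← h21, hmem', hU1p y2 p (by rw [hp, h22]) (by rw [h22]; exact hfy),
        ← hU1p y1 p (by rw [hp, h12]) (by rw [h12]; exact hfy), ← hmem', h11]
      exact hq1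
    · have hmem : ∀ a ∈ IsLocalRing.maximalIdeal A, algebraMap A B a ∈ (π q₁).asIdeal := fun a ha => by
        by_contra h
        exact hm (Lef23.Descend.mem_puncturedSpec A ha (p := y (π q₁)) h)
      have hcong : ∀ t : T, ∃ b : B, t - 1 ⊗ₜ b ∈
          ((IsLocalRing.maximalIdeal A).map (algebraMap A B)).map incR.hom := by
        intro t
        induction (t : A' ⊗[A] B) using TensorProduct.induction_on with
        | zero => exact ⟨0, by rw [TensorProduct.tmul_zero, sub_zero]; exact zero_mem _⟩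
        | add u v hu hv =>
          obtain ⟨b, hb⟩ := hu
          obtain ⟨b', hb'⟩ := hv
          exact ⟨b + b', by rw [TensorProduct.tmul_add, add_sub_add_comm]; exact add_mem hb hb'⟩
        | tmul a' b =>
          obtain ⟨a, ha⟩ := hdense 1 a'
          rw [pow_one] at ha
          refine ⟨a • b, ?_⟩
          have e : (1 : A') ⊗ₜ[A] (a • b) = algebraMap A A' a ⊗ₜ[A] b := by
            rw [Algebra.algebraMap_eq_smul_one a, TensorProduct.smul_tmul]
          rw [e, ← TensorProduct.sub_tmul]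
          generalize a' - algebraMap A A' a = d at ha ⊢
          induction ha using Submodule.span_induction with
          | mem x hx =>
            obtain ⟨r, hr, rfl⟩ := hx
            rw [Algebra.algebraMap_eq_smul_one r, TensorProduct.smul_tmul, Algebra.smul_def]
            exact Ideal.mem_map_of_mem _ (Ideal.mul_mem_right _ _ (Ideal.mem_map_of_mem _ hr))
          | zero => rw [TensorProduct.zero_tmul]; exact zero_mem _
          | add u v _ _ hu hv => rw [TensorProduct.add_tmul]; exact add_mem hu hv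
          | smul r u _ hu =>
            rw [show (r • u) ⊗ₜ[A] b = (r ⊗ₜ[A] (1 : B)) * (u ⊗ₜ[A] b) by
              rw [Algebra.TensorProduct.tmul_mul_tmul, one_mul, smul_eq_mul]]
            exact Ideal.mul_mem_left _ _ hu
      have hle : ∀ q : PrimeSpectrum T, π q = π q₁ →
          ((IsLocalRing.maximalIdeal A).map (algebraMap A B)).map incR.hom ≤ q.asIdeal := fun q hq' => by
        rw [Ideal.map_le_iff_le_comap, Ideal.map_le_iff_le_comap]
        intro a ha
        show algebraMap A B a ∈ (π q).asIdeal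
        rw [hq']
        exact hmem a ha
      have heq : q₁ = q₂ := PrimeSpectrum.ext (Ideal.ext fun t => by
        obtain ⟨b, hb⟩ := hcong t
        constructor
        · intro ht
          have h1 : b ∈ (π q₁).asIdeal := by
            show (1 : A') ⊗ₜ[A] b ∈ q₁.asIdeal
            rw [← sub_sub_cancel t ((1 : A') ⊗ₜ[A] b)]
            exact sub_mem ht (hle q₁ rfl hb)
          rw [hq] at h1
          rw [← sub_add_cancel t ((1 : A') ⊗ₜ[A] b)]
          exact add_mem (hle q₂ hq.symm hb) h1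
        · intro ht
          have h1 : b ∈ (π q₂).asIdeal := by
            show (1 : A') ⊗ₜ[A] b ∈ q₂.asIdeal
            rw [← sub_sub_cancel t ((1 : A') ⊗ₜ[A] b)]
            exact sub_mem ht (hle q₂ hq.symm hb)
          rw [← hq] at h1
          rw [← sub_add_cancel t ((1 : A') ⊗ₜ[A] b)]
          exact add_mem (hle q₁ rfl hb) h1)
      rw [← heq]
      exact hq1
  -- descend to `B`
  haveI : Flat π := MorphismProperty.of_isPullback (P := @Flat) H0 inferInstance
  haveI : Surjective π := MorphismProperty.of_isPullback (P := @Surjective) H0 inferInstance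
  have hquot : Topology.IsQuotientMap π.base := Flat.isQuotientMap_of_surjective π
  let Zf : Set (Spec (CommRingCat.of B)) := {q | fB ∈ q.asIdeal}
  have hZf : IsClosed Zf := by
    have : Zf = PrimeSpectrum.zeroLocus {fB} := Set.ext fun q => (Set.singleton_subset_iff (s := (q.asIdeal : Set B))).symm
    rw [this]
    exact PrimeSpectrum.isClosed_zeroLocus _
  have hclosed : ∀ O' : Set (Spec (CommRingCat.of T)), IsClosed O' →
      (∀ q₁ q₂, π q₁ = π q₂ → fB ∈ (π q₁).asIdeal → q₁ ∈ O' → q₂ ∈ O') →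
      IsClosed (π.base '' (O' ∩ π.base ⁻¹' Zf)) := by
    intro O' hO' hsat
    rw [← hquot.isClosed_preimage]
    have : π.base ⁻¹' (π.base '' (O' ∩ π.base ⁻¹' Zf)) = O' ∩ π.base ⁻¹' Zf := by
      refine Set.Subset.antisymm (fun q ⟨q', ⟨hq', hf'⟩, hqq⟩ => ?_) (Set.subset_preimage_image _ _)
      exact ⟨hsat q' q hqq hf' hq', by show π q ∈ Zf; rw [← hqq]; exact hf'⟩
    rw [this]
    exact hO'.inter (hZf.preimage π.continuous)
  let S := π.base '' (O ∩ π.base ⁻¹' Zf)
  let S' := π.base '' (Oᶜ ∩ π.base ⁻¹' Zf)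
  have hS : IsClosed S := hclosed O hO.1 hfib
  have hS' : IsClosed S' := hclosed Oᶜ hO.compl.1 fun q₁ q₂ hq hf1 hq1 hq2 => hq1 (hfib q₂ q₁ hq.symm (hq ▸ hf1) hq2)
  let I : Ideal B := (Ideal.span {f}).map (algebraMap A B)
  let qB := PrimeSpectrum.comap (Ideal.Quotient.mk I)
  have hqB : ∀ x, qB x ∈ Zf := fun x => by
    show fB ∈ x.asIdeal.comap _
    rw [Ideal.mem_comap, Ideal.Quotient.eq_zero_iff_mem.2 (Ideal.mem_map_of_mem _ (Ideal.mem_span_singleton_self f))]
    exact zero_mem _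
  have hSS : (qB ⁻¹' S)ᶜ = qB ⁻¹' S' := Set.ext fun x => by
    constructor
    · intro hx
      obtain ⟨q, hq⟩ := π.surjective (qB x)
      exact ⟨q, ⟨fun hqO => hx ⟨q, ⟨hqO, by show π q ∈ Zf; rw [hq]; exact hqB x⟩, hq⟩,
        by show π q ∈ Zf; rw [hq]; exact hqB x⟩, hq⟩
    · rintro ⟨q, ⟨hqO, hqf⟩, hq⟩ ⟨q', ⟨hq'O, hq'f⟩, hq'⟩
      exact hqO (hfib q' q (hq'.trans hq.symm) hq'f hq'O)
  have hSc : IsClopen (qB ⁻¹' S) := ⟨hS.preimage (PrimeSpectrum.continuous_comap _), by
    rw [← isClosed_compl_iff, hSS]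
    exact hS'.preimage (PrimeSpectrum.continuous_comap _)⟩
  obtain ⟨ε, hε, hεS⟩ := PrimeSpectrum.isClopen_iff.1 hSc
  haveI : Algebra.IsIntegral A B := integralClosure.AlgebraIsIntegral
  obtain ⟨e, he, hee⟩ := (HenselLib.bijOn_idempotents (Ideal.span {f}) B).surjOn hε
  let eO : (Spec (CommRingCat.of B)).Opens := PrimeSpectrum.basicOpen e
  refine ⟨mB.base ⁻¹' eO.carrier,
    (PrimeSpectrum.isClopen_iff.2 ⟨e, he, rfl⟩).preimage mB.continuous, Set.ext fun p => ?_⟩
  obtain ⟨y', hy'⟩ := s.surjective (ρ p)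
  have hfp : f ∈ (sV (ρ p)).asIdeal := by
    have : g (ρ p) ∈ Set.range i := ⟨pullback.snd g i p, by
      rw [← Scheme.Hom.comp_apply, ← Scheme.Hom.comp_apply, pullback.condition]⟩
    exact hi.subset this
  rw [← hU1p y' p hy'.symm (by rw [hy']; exact hfp), ← hmem']
  have hπq : π (m' y') = mB (ρ p) := by
    rw [← Scheme.Hom.comp_apply, hm'2, Scheme.Hom.comp_apply, hy']
  have hfB : mB (ρ p) ∈ Zf := by
    show f ∈ (y (mB (ρ p))).asIdeal
    rw [← Scheme.Hom.comp_apply, hmB]
    exact hfp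
  obtain ⟨x, hx⟩ : mB (ρ p) ∈ Set.range qB := by
    rw [range_comap_of_surjective _ _ Ideal.Quotient.mk_surjective, Ideal.mk_ker]
    exact Ideal.map_le_iff_le_comap.2 ((Ideal.span_singleton_le_iff_mem _).2 hfB)
  show mB (ρ p) ∈ eO.carrier ↔ m' y' ∈ O
  have h1 : (mB (ρ p) ∈ eO.carrier) ↔ mB (ρ p) ∈ S := by
    rw [← hx]
    show ¬ (Ideal.Quotient.mk I e) ∈ x.asIdeal ↔ x ∈ qB ⁻¹' S
    rw [hee, hεS]
    rfl
  rw [h1]
  constructor
  · rintro ⟨q, ⟨hqO, hqf⟩, hq⟩
    exact hfib q (m' y') (hq.trans hπq.symm) hqf hqO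
  · intro h
    exact ⟨m' y', ⟨h, by show π (m' y') ∈ Zf; rw [hπq]; exact hfB⟩, hπq⟩

end Groth.Agent.Purity10.Compl
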