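import Groth.Prelude.Def_FEt
import Groth.Agent.FEtSect.Basic
import Groth.Agent.H8Top.Components
import Mathlib.AlgebraicGeometry.Morphisms.FlatRank
import Mathlib.AlgebraicGeometry.PullbackCarrier

/-!
# Splitting finitely many finite étale covers by a connected cover
-/

set_option autoImplicit false
set_option linter.style.haveILetI false
set_option linter.overlappingInstances false
set_option backward.isDefEq.respectTransparency.types false
set_option backward.isDefEq.respectTransparency false

universe u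

open CategoryTheory CategoryTheory.Limits AlgebraicGeometry TopologicalSpace

namespace Groth.Agent.Purity10.CoverSplit

/-- Locally Noetherian schemes are locally connected. -/
theorem locallyConnected (Z : Scheme.{u}) [IsLocallyNoetherian Z] : LocallyConnectedSpace Z :=
  H8Top.IsLocNoetherian.locallyConnectedSpace fun z => by
    obtain ⟨V, hV, hzV, -⟩ := exists_isAffineOpen_mem_and_subset (x := z) (U := ⊤) trivial
    haveI : IsAffine V.toScheme := hV
    haveI : AlgebraicGeometry.IsNoetherian V.toScheme := { }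
    exact ⟨V, V.2.mem_nhds hzV, (inferInstance : NoetherianSpace V.toScheme)⟩

/-- The connected component of a point as an open subscheme. -/
def comp {Z : Scheme.{u}} [IsLocallyNoetherian Z] (z : Z) : Z.Opens :=
  ⟨connectedComponent z, haveI := locallyConnected Z; isOpen_connectedComponent⟩

instance {Z : Scheme.{u}} [IsLocallyNoetherian Z] (z : Z) : ConnectedSpace (comp z).toScheme :=
  Subtype.connectedSpace isConnected_connectedComponent

instance {Z : Scheme.{u}} [IsLocallyNoetherian Z] (z : Z) : IsClosedImmersion (comp z).ι :=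
  .of_isPreimmersion _ (by rw [Scheme.Opens.range_ι]; exact isClosed_connectedComponent)

theorem finrank_eq_const {P T : Scheme.{u}} (p : P ⟶ T) [IsFinite p] [Etale p] [PreconnectedSpace T] (t₀ t : T) :
    p.finrank t = p.finrank t₀ :=
  (Scheme.Hom.isLocallyConstant_finrank p).apply_eq_of_preconnectedSpace t t₀

/-- The pullback of a section. -/
noncomputable def pullSect {Y A A' : Scheme.{u}} {P : Scheme.{u}} (q : P ⟶ Y) (a : A ⟶ Y) (b : A' ⟶ A)
    (a' : A' ⟶ Y) (ha : b ≫ a = a') (s : FEtSect.Sect (pullback.snd q a)) : FEtSect.Sect (pullback.snd q a') :=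
  ⟨pullback.lift (b ≫ s.1 ≫ pullback.fst q a) (𝟙 _) (by
    rw [Category.id_comp, Category.assoc, Category.assoc, pullback.condition, reassoc_of% s.2, ha]),
    pullback.lift_snd _ _ _⟩

variable {Y : Scheme.{u}}

/-- A connected cover on which finitely many covers split. -/
theorem exists_split [ConnectedSpace Y] [IsLocallyNoetherian Y] {ι : Type*} [Fintype ι] {P : ι → Scheme.{u}}
    (q : ∀ i, P i ⟶ Y) [∀ i, IsFinite (q i)] [∀ i, Etale (q i)] :
    ∃ (A : Scheme.{u}) (a : A ⟶ Y), ConnectedSpace A ∧ IsFinite a ∧ Etale a ∧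
      ∀ i (w : ↥(pullback (q i) a)), ∃ s : FEtSect.Sect (pullback.snd (q i) a), w ∈ Set.range s.1 := by
  classical
  obtain ⟨y₀⟩ := (inferInstance : Nonempty Y)
  let n : ι → ℕ := fun i => (q i).finrank y₀
  have hn : ∀ (A : Scheme.{u}) (a : A ⟶ Y) i (t : A), (pullback.snd (q i) a).finrank t = n i := fun A a i t => by
    rw [Scheme.Hom.finrank_pullback_snd]
    exact finrank_eq_const (q i) y₀ _
  have hfin : ∀ (A : Scheme.{u}) (a : A ⟶ Y) [ConnectedSpace A] (i : ι),
      Finite (FEtSect.Sect (pullback.snd (q i) a)) ∧ Nat.card (FEtSect.Sect (pullback.snd (q i) a)) ≤ n i :=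
    fun A a _ i => FEtSect.finite_card_le (hn A a i)
  let Q : ℕ → Prop := fun m => ∃ (A : Scheme.{u}) (a : A ⟶ Y), ConnectedSpace A ∧ IsFinite a ∧ Etale a ∧
    ∑ i, Nat.card (FEtSect.Sect (pullback.snd (q i) a)) = m
  have hQ0 : Q (∑ i, Nat.card (FEtSect.Sect (pullback.snd (q i) (𝟙 Y)))) :=
    ⟨Y, 𝟙 Y, inferInstance, inferInstance, inferInstance, rfl⟩
  have hbd : ∀ m, Q m → m ≤ ∑ i, n i := by
    rintro m ⟨A, a, hA, -, -, rfl⟩
    exact Finset.sum_le_sum fun i _ => (hfin A a i).2
  have hspec : Q (Nat.findGreatest Q (∑ i, n i)) := Nat.findGreatest_spec (hbd _ hQ0) hQ0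
  obtain ⟨A, a, hA, haf, hae, hm⟩ := hspec
  refine ⟨A, a, hA, haf, hae, fun i w => ?_⟩
  by_contra hw
  push Not at hw
  haveI := LocallyOfFiniteType.isLocallyNoetherian a
  haveI := LocallyOfFiniteType.isLocallyNoetherian (pullback.snd (q i) a)
  let C : (pullback (q i) a).Opens := comp w
  haveI : ConnectedSpace C.toScheme := inferInstanceAs (ConnectedSpace (comp w).toScheme)
  haveI : IsClosedImmersion C.ι := inferInstanceAs (IsClosedImmersion (comp w).ι)
  let b : C.toScheme ⟶ A := C.ι ≫ pullback.snd (q i) a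
  haveI : IsFinite b := inferInstanceAs (IsFinite (C.ι ≫ pullback.snd (q i) a))
  haveI : Etale b := inferInstanceAs (Etale (C.ι ≫ pullback.snd (q i) a))
  let a' := b ≫ a
  haveI : IsFinite a' := inferInstanceAs (IsFinite (b ≫ a))
  haveI : Etale a' := inferInstanceAs (Etale (b ≫ a))
  let w' : C.toScheme := ⟨w, mem_connectedComponent⟩
  have hinj : ∀ j, Function.Injective (pullSect (q j) a b a' rfl) := fun j s s' h => by
    have h1 : b ≫ s.1 = b ≫ s'.1 := by
      apply pullback.hom_ext
      · have := congrArg (fun r => r.1 ≫ pullback.fst _ _) h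
        simpa [pullSect] using this
      · simp [s.2, s'.2]
    exact FEtSect.sect_ext (t := b w') (congrArg (fun r : C.toScheme ⟶ pullback (q j) a => r w') h1)
  let s₀ : FEtSect.Sect (pullback.snd (q i) a') := ⟨pullback.lift (C.ι ≫ pullback.fst (q i) a) (𝟙 _) (by
    rw [Category.id_comp, Category.assoc, pullback.condition]
    exact (Category.assoc _ _ _).symm), pullback.lift_snd _ _ _⟩
  have hnot : s₀ ∉ Set.range (pullSect (q i) a b a' rfl) := by
    rintro ⟨s, hs⟩
    have h1 : b ≫ s.1 = C.ι := by
      apply pullback.hom_ext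
      · have := congrArg (fun r => r.1 ≫ pullback.fst _ _) hs
        simpa [pullSect, s₀] using this
      · simp [s.2, b]
    exact hw s ⟨b w', by rw [← Scheme.Hom.comp_apply, h1]; rfl⟩
  have hlt : ∑ j, Nat.card (FEtSect.Sect (pullback.snd (q j) a)) <
      ∑ j, Nat.card (FEtSect.Sect (pullback.snd (q j) a')) := by
    refine Finset.sum_lt_sum (fun j _ => ?_) ⟨i, Finset.mem_univ i, ?_⟩
    · haveI := (hfin _ a' j).1
      exact Nat.card_le_card_of_injective _ (hinj j)
    · haveI := (hfin _ a' i).1
      haveI := (hfin _ a i).1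
      letI := Fintype.ofFinite (FEtSect.Sect (pullback.snd (q i) a))
      letI := Fintype.ofFinite (FEtSect.Sect (pullback.snd (q i) a'))
      rw [Nat.card_eq_fintype_card, Nat.card_eq_fintype_card]
      exact Fintype.card_lt_of_injective_of_notMem _ (hinj i) hnot
  have hQ' : Q (∑ j, Nat.card (FEtSect.Sect (pullback.snd (q j) a'))) :=
    ⟨_, a', inferInstance, inferInstance, inferInstance, rfl⟩
  rw [hm] at hlt
  exact absurd (Nat.le_findGreatest (hbd _ hQ') hQ') (not_le.mpr hlt)

end Groth.Agent.Purity10.CoverSplit
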