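import Groth.Agent.FEtFF.PurityTransfer
import Groth.Agent.Lef23.NhdCouple
import Groth.Agent.Lef23.NhdDescent

/-!
# Descent of extensions along faithfully flat local maps; isomorphisms near a closed part
-/

set_option autoImplicit false
set_option linter.style.haveILetI false
set_option backward.isDefEq.respectTransparency.types false
set_option backward.isDefEq.respectTransparency false
universe u

open CategoryTheory CategoryTheory.Limits AlgebraicGeometry TopologicalSpace

noncomputable section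

namespace Groth.Agent.Purity10

/-- Restriction in two steps. -/
def resComp {X Y Z : Scheme.{u}} (f : X ⟶ Y) (g : Y ⟶ Z) (h : X ⟶ Z) (hh : f ≫ g = h) (V : FEt.Cat Z) :
    (FEt.restrict f).obj ((FEt.restrict g).obj V) ≅ (FEt.restrict h).obj V :=
  ((MorphismProperty.Over.pullbackComp f g h hh.symm).app V).symm

/-- Two factorisations of the same morphism. -/
def resSquare {X Y Y' Z : Scheme.{u}} (f : X ⟶ Y) (g : Y ⟶ Z) (f' : X ⟶ Y') (g' : Y' ⟶ Z) (h : f ≫ g = f' ≫ g')
    (V : FEt.Cat Z) :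
    (FEt.restrict f).obj ((FEt.restrict g).obj V) ≅ (FEt.restrict f').obj ((FEt.restrict g').obj V) :=
  resComp f g _ h V ≪≫ (resComp f' g' _ rfl V).symm

/-- An isomorphism on the closed part extends to a neighbourhood when clopen subsets lift. -/
theorem exists_iso_nhd {X₀ X : Scheme.{u}} (i : X₀ ⟶ X) (hN : Lef23.NhdDescent.Lifts i) {Y Z : FEt.Cat X}
    (φ : (FEt.restrict i).obj Y ≅ (FEt.restrict i).obj Z) :
    ∃ (W : Scheme.{u}) (j : W ⟶ X) (_ : IsOpenImmersion j), Set.range i ⊆ Set.range j ∧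
      Nonempty ((FEt.restrict j).obj Y ≅ (FEt.restrict j).obj Z) := by
  obtain ⟨U1, hU1, h1⟩ := Lef23.NhdCouple.full_nhd i hN φ.hom
  obtain ⟨U2, hU2, h2⟩ := Lef23.NhdCouple.full_nhd i hN φ.inv
  let j := (U1 ⊓ U2).ι
  have hj : Set.range j = (U1 ⊓ U2 : X.Opens) := Scheme.Opens.range_ι _
  have hij : Set.range i ⊆ Set.range j := hj ▸ Set.subset_inter hU1 hU2
  obtain ⟨ψ1, hψ1⟩ := h1 j (hj ▸ Set.inter_subset_left)
  obtain ⟨ψ2, hψ2⟩ := h2 j (hj ▸ Set.inter_subset_right)
  let i'' := IsOpenImmersion.lift j i hij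
  have hi : i'' ≫ j = i := IsOpenImmersion.lift_fac _ _ _
  let c : ∀ A : FEt.Cat X, pullback A.hom i ⟶ pullback A.hom j := fun A =>
    pullback.lift (pullback.fst A.hom i) (pullback.snd A.hom i ≫ i'')
      (by rw [Category.assoc, hi]; exact pullback.condition)
  have hc : ∀ {A B : FEt.Cat X} (ψ : (FEt.restrict j).obj A ⟶ (FEt.restrict j).obj B)
      (ξ : (FEt.restrict i).obj A ⟶ (FEt.restrict i).obj B),
      c A ≫ ψ.left ≫ pullback.fst B.hom j = ξ.left ≫ pullback.fst B.hom i → c A ≫ ψ.left = ξ.left ≫ c B := by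
    intro A B ψ ξ h
    apply pullback.hom_ext
    · rw [Category.assoc, Category.assoc, pullback.lift_fst]
      exact h
    · have e1 : ψ.left ≫ pullback.snd B.hom j = pullback.snd A.hom j := MorphismProperty.Over.w ψ
      have e2 : ξ.left ≫ pullback.snd B.hom i = pullback.snd A.hom i := MorphismProperty.Over.w ξ
      rw [Category.assoc, Category.assoc, e1, pullback.lift_snd, pullback.lift_snd, ← Category.assoc, e2]
  have key : ∀ {A B : FEt.Cat X} (ψ : (FEt.restrict j).obj A ⟶ (FEt.restrict j).obj B)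
      (ψ' : (FEt.restrict j).obj B ⟶ (FEt.restrict j).obj A) (ξ : (FEt.restrict i).obj A ≅ (FEt.restrict i).obj B),
      c A ≫ ψ.left = ξ.hom.left ≫ c B → c B ≫ ψ'.left = ξ.inv.left ≫ c A →
      ∃ U : (U1 ⊓ U2 : X.Opens).toScheme.Opens, Set.range i'' ⊆ U ∧
        ∀ {X'' : Scheme.{u}} (m : X'' ⟶ (U1 ⊓ U2 : X.Opens)) [IsOpenImmersion m], Set.range m ⊆ U →
          (FEt.restrict m).map ψ ≫ (FEt.restrict m).map ψ' = 𝟙 _ := by
    intro A B ψ ψ' ξ h h'
    have hh : c A ≫ (ψ ≫ ψ').left = c A := by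
      rw [MorphismProperty.Comma.comp_left, ← Category.assoc, h, Category.assoc, h', ← Category.assoc,
        ← MorphismProperty.Comma.comp_left, ξ.hom_inv_id]
      exact Category.id_comp _
    let Aj := (FEt.restrict j).obj A
    let e : pullback Aj.hom i'' ⟶ pullback A.hom i :=
      pullback.lift (pullback.fst Aj.hom i'' ≫ pullback.fst A.hom j) (pullback.snd Aj.hom i'') (by
        rw [Category.assoc, pullback.condition, ← hi]
        exact pullback.condition_assoc j)
    have he : e ≫ c A = pullback.fst Aj.hom i'' := by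
      apply pullback.hom_ext
      · rw [Category.assoc, pullback.lift_fst, pullback.lift_fst]
      · rw [Category.assoc, pullback.lift_snd, pullback.lift_snd_assoc]
        exact pullback.condition.symm
    have heq : (FEt.restrict i'').map (ψ ≫ ψ') = (FEt.restrict i'').map (𝟙 Aj) := by
      apply MorphismProperty.Over.Hom.ext
      apply pullback.hom_ext
      · rw [Lef23.CoupleEt.restrict_map_fst₀, Lef23.CoupleEt.restrict_map_fst₀]
        show pullback.fst Aj.hom i'' ≫ _ = pullback.fst Aj.hom i'' ≫ _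
        rw [← he, Category.assoc, hh]
        exact congrArg (fun t => e ≫ t) (Category.comp_id _).symm
      · exact (MorphismProperty.Over.w _).trans (MorphismProperty.Over.w _).symm
    obtain ⟨U, hU, hab⟩ := Lef23.NhdCouple.faithful_nhd i'' (ψ ≫ ψ') (𝟙 Aj) heq
    exact ⟨U, hU, fun m _ hm => by rw [← Functor.map_comp, hab m hm]; exact (FEt.restrict m).map_id _⟩
  obtain ⟨Ua, hUa, ha⟩ := key ψ1 ψ2 φ (hc ψ1 φ.hom (hψ1 i'' hi)) (hc ψ2 φ.inv (hψ2 i'' hi))
  obtain ⟨Ub, hUb, hb⟩ := key ψ2 ψ1 φ.symm (hc ψ2 φ.inv (hψ2 i'' hi)) (hc ψ1 φ.hom (hψ1 i'' hi))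
  let U := Ua ⊓ Ub
  have hrU : Set.range U.ι = (U : Set _) := Scheme.Opens.range_ι _
  refine ⟨_, U.ι ≫ j, inferInstance, ?_, ⟨?_⟩⟩
  · rintro _ ⟨x, rfl⟩
    obtain ⟨y, hy⟩ := hrU.ge (show i'' x ∈ (U : Set _) from ⟨hUa ⟨x, rfl⟩, hUb ⟨x, rfl⟩⟩)
    exact ⟨y, by rw [Scheme.Hom.comp_apply, hy, ← Scheme.Hom.comp_apply, hi]⟩
  · exact (resComp U.ι j _ rfl Y).symm ≪≫
      { hom := (FEt.restrict U.ι).map ψ1
        inv := (FEt.restrict U.ι).map ψ2
        hom_inv_id := ha U.ι (hrU ▸ Set.inter_subset_left)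
        inv_hom_id := hb U.ι (hrU ▸ Set.inter_subset_right) } ≪≫ resComp U.ι j _ rfl Z

/-- A cover of a punctured spectrum extends if its pullback along a faithfully flat local map does. -/
theorem exists_extension_of_faithfullyFlat {A B : Type u} [CommRing A] [IsNoetherianRing A] [IsLocalRing A]
    [CommRing B] [IsLocalRing B] [Algebra A B] [Module.FaithfullyFlat A B] [IsLocalHom (algebraMap A B)]
    (hA : (2 : ℕ∞) ≤ _root_.LocCoh.depth A A)
    {k : (FEt.puncturedSpec B : Scheme.{u}) ⟶ FEt.puncturedSpec A}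
    (HU : IsPullback k (FEt.puncturedSpec B).ι (FEt.puncturedSpec A).ι
      (Spec.map (CommRingCat.ofHom (algebraMap A B))))
    (V : FEt.Cat (FEt.puncturedSpec A : Scheme.{u})) (Y' : FEt.Cat (Spec (CommRingCat.of B)))
    (e : (FEt.restrict k).obj V ≅ (FEt.restrict (FEt.puncturedSpec B).ι).obj Y') :
    ∃ Y : FEt.Cat (Spec (CommRingCat.of A)), Nonempty ((FEt.restrict (FEt.puncturedSpec A).ι).obj Y ≅ V) := by
  let U := FEt.puncturedSpec A
  let U' := FEt.puncturedSpec B
  let gq : Spec (CommRingCat.of B) ⟶ Spec (CommRingCat.of A) := Spec.map (CommRingCat.ofHom (algebraMap A B))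
  haveI : Flat gq := (HasRingHomProperty.Spec_iff (P := @Flat)).2 (RingHom.flat_algebraMap_iff.2 inferInstance)
  haveI : Surjective gq := ⟨PrimeSpectrum.comap_surjective_of_faithfullyFlat⟩
  haveI : IsFinite V.hom := V.prop.1
  haveI : Etale V.hom := V.prop.2
  haveI : IsFinite Y'.hom := Y'.prop.1
  haveI : Etale Y'.hom := Y'.prop.2
  let el : pullback V.hom k ≅ pullback Y'.hom U'.ι :=
    { hom := e.hom.left
      inv := e.inv.left
      hom_inv_id := congrArg (fun t => t.left) e.hom_inv_id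
      inv_hom_id := congrArg (fun t => t.left) e.inv_hom_id }
  have hel : el.hom ≫ pullback.snd Y'.hom U'.ι = pullback.snd V.hom k := MorphismProperty.Over.w e.hom
  let l' := el.hom ≫ pullback.fst Y'.hom U'.ι
  have hl' : IsPullback l' (pullback.snd V.hom k) Y'.hom U'.ι :=
    (IsPullback.of_hasPullback Y'.hom U'.ι).of_iso el.symm (Iso.refl _) (Iso.refl _) (Iso.refl _)
      (by simp [l']) (by rw [Iso.refl_hom, Category.comp_id, ← hel]; exact el.inv_hom_id_assoc _ |>.symm)
      (by simp) (by simp)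
  have HV : IsPullback (pullback.fst V.hom k) (pullback.snd V.hom k ≫ U'.ι) (V.hom ≫ U.ι) gq :=
    (IsPullback.of_hasPullback V.hom k).paste_vert HU
  have HY : IsPullback l' (pullback.snd V.hom k ≫ k) (Y'.hom ≫ gq) U.ι := hl'.paste_vert HU.flip
  let w : pullback (Y'.hom ≫ gq) U.ι ⟶ V.left := HY.isoPullback.inv ≫ pullback.fst V.hom k
  have Hw : IsPullback (pullback.fst (Y'.hom ≫ gq) U.ι ≫ Y'.hom) w gq (V.hom ≫ U.ι) := by
    refine HV.flip.of_iso HY.isoPullback (Iso.refl _) (Iso.refl _) (Iso.refl _) ?_ ?_ (by simp [gq]) (by simp)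
    · rw [Iso.refl_hom, Category.comp_id, HY.isoPullback_hom_fst_assoc, hl'.w]
    · simp [w]
  obtain ⟨Y, y, hy, hy', i, hi⟩ := FEtFF.PurityDescent.exists_extension U.ι
    (fun W hW => FEtFF.Hartogs.bijective_ι_app U (FEtFF.Hartogs.two_le_depth_stalk hA) hW) gq V.hom Y'.hom w Hw
  exact ⟨MorphismProperty.Over.mk ⊤ y ⟨hy, hy'⟩, ⟨MorphismProperty.Over.isoMk i hi⟩⟩

end Groth.Agent.Purity10
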