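import Groth.Agent.FEtFF.PurityTransfer
import Groth.Agent.FEtFF.ExtendDepthThree
import Groth.Agent.S0238
import Groth.Agent.S0261
import Groth.Agent.FEtFF.BiratPurity
import Groth.Agent.CAlgH3.FlatDepth
import Groth.Agent.CAlgH3.Depth
import Groth.Agent.CommAlg6.FlatEquidim
import Mathlib.RingTheory.Noetherian.Basic
import Mathlib.RingTheory.Nilpotent.Lemmas

/-!
# Purity for flat local extensions from purity of the closed fibre

Finite étale covers do not see nilpotents, so one may induct on the ideals of the base: a reduced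
base which is not a field has a regular element, and extension is then tested on a hypersurface.
-/

set_option autoImplicit false
set_option linter.style.haveILetI false
set_option backward.isDefEq.respectTransparency.types false
set_option backward.isDefEq.respectTransparency false
universe u

open CategoryTheory CategoryTheory.Limits AlgebraicGeometry IsLocalRing

namespace Groth.Agent.Purity10

/-- Purity is insensitive to nilpotents. -/
theorem purityHolds_of_quotient_nilpotent {B : Type u} [CommRing B] [IsLocalRing B] (I : Ideal B) [IsLocalRing (B ⧸ I)]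
    (hI : I ≤ nilradical B) (h0 : FEt.PurityHolds (B ⧸ I)) : FEt.PurityHolds B := by
  haveI : IsLocalHom (Ideal.Quotient.mk I) := IsLocalHom.of_surjective _ Ideal.Quotient.mk_surjective
  obtain ⟨k, HU⟩ := FEtFF.PurityTransfer.exists_punctured_square (Ideal.Quotient.mk I) (by
    rw [IsLocalRing.map_maximalIdeal_of_surjective _ Ideal.Quotient.mk_surjective]
    exact Ideal.le_radical)
  let i : Spec (CommRingCat.of (B ⧸ I)) ⟶ Spec (CommRingCat.of B) := Spec.map (CommRingCat.ofHom (Ideal.Quotient.mk I))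
  haveI : IsClosedImmersion i := IsClosedImmersion.spec_of_surjective _ Ideal.Quotient.mk_surjective
  haveI : Surjective i := ⟨fun p => by
    have hp : p ∈ Set.range (PrimeSpectrum.comap (Ideal.Quotient.mk I)) := by
      rw [range_comap_of_surjective _ _ Ideal.Quotient.mk_surjective, Ideal.mk_ker, PrimeSpectrum.mem_zeroLocus,
        SetLike.coe_subset_coe]
      exact hI.trans (nilradical_le_prime p.asIdeal)
    exact hp⟩
  haveI : IsClosedImmersion k := MorphismProperty.of_isPullback HU.flip inferInstance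
  haveI : Surjective k := MorphismProperty.of_isPullback HU.flip inferInstance
  haveI hi := Groth.Agent.S0238.result i
  haveI hk := Groth.Agent.S0238.result k
  let j := (FEt.puncturedSpec B).ι
  let j₀ := (FEt.puncturedSpec (B ⧸ I)).ι
  haveI : (FEt.restrict j₀).EssSurj := h0
  haveI : (FEt.restrict i ⋙ FEt.restrict j₀).EssSurj := inferInstance
  let e : FEt.restrict i ⋙ FEt.restrict j₀ ≅ FEt.restrict j ⋙ FEt.restrict k :=
    (MorphismProperty.Over.pullbackComp j₀ i (j₀ ≫ i) rfl).symm ≪≫
      MorphismProperty.Over.pullbackComp k j (j₀ ≫ i) HU.w.symm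
  haveI : (FEt.restrict j ⋙ FEt.restrict k).EssSurj := Functor.essSurj_of_iso e
  show (FEt.restrict j).EssSurj
  exact ⟨fun V => ⟨(FEt.restrict j ⋙ FEt.restrict k).objPreimage ((FEt.restrict k).obj V),
    ⟨(FEt.restrict k).preimageIso ((FEt.restrict j ⋙ FEt.restrict k).objObjPreimageIso ((FEt.restrict k).obj V))⟩⟩⟩

/-- Extension from a hypersurface, stated for purity. -/
theorem purityHolds_of_hypersurface {B : Type u} [CommRing B] [IsNoetherianRing B] [IsLocalRing B]
    (hB : (3 : ℕ∞) ≤ _root_.LocCoh.depth B B) (g : B) (hg : g ∈ maximalIdeal B) [IsLocalRing (B ⧸ Ideal.span {g})]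
    (h0 : FEt.PurityHolds (B ⧸ Ideal.span {g})) : FEt.PurityHolds B := by
  haveI : IsLocalHom (Ideal.Quotient.mk (Ideal.span {g})) := IsLocalHom.of_surjective _ Ideal.Quotient.mk_surjective
  obtain ⟨k, HU⟩ := FEtFF.PurityTransfer.exists_punctured_square (Ideal.Quotient.mk (Ideal.span {g})) (by
    rw [IsLocalRing.map_maximalIdeal_of_surjective _ Ideal.Quotient.mk_surjective]
    exact Ideal.le_radical)
  let q := Spec.map (CommRingCat.ofHom (Ideal.Quotient.mk (Ideal.span {g})))
  let U := FEt.puncturedSpec B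
  let j₀ := (FEt.puncturedSpec (B ⧸ Ideal.span {g})).ι
  haveI : (FEt.restrict j₀).EssSurj := h0
  let θ := HU.isoPullback
  haveI hθ : (FEt.restrict θ.hom).IsEquivalence := FEtFF.BiratPurity.restrict_isEquivalence_of_isIso _
  refine ⟨fun V => ?_⟩
  obtain ⟨Y, hY⟩ : ∃ Y : FEt.Cat (Spec (CommRingCat.of B)), Nonempty ((FEt.restrict U.ι).obj Y ≅ V) := by
    refine Groth.Agent.S0261.result B hB g hg V ?_
    let W₀ := (FEt.restrict θ.hom).obj ((FEt.restrict (pullback.fst U.ι q)).obj V)
    refine ⟨(FEt.restrict j₀).objPreimage W₀, ⟨(FEt.restrict θ.hom).preimageIso ?_⟩⟩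
    exact ((MorphismProperty.Over.pullbackComp θ.hom (pullback.snd U.ι q) j₀ HU.isoPullback_hom_snd.symm).app _).symm ≪≫
      (FEt.restrict j₀).objObjPreimageIso W₀
  exact ⟨Y, hY⟩

variable {A B : Type u} [CommRing A] [CommRing B] [IsLocalRing A] [IsLocalRing B]
  [IsNoetherianRing A] [IsNoetherianRing B] [Algebra A B] [IsLocalHom (algebraMap A B)]

omit [IsNoetherianRing A] [IsNoetherianRing B] in
theorem isLocalRing_quotient_map {I : Ideal A} (hI : I ≠ ⊤) : IsLocalRing (B ⧸ I.map (algebraMap A B)) := by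
  haveI : Nontrivial (B ⧸ I.map (algebraMap A B)) := Ideal.Quotient.nontrivial_iff.2 fun h =>
    (maximalIdeal.isMaximal B).ne_top (top_le_iff.1 (h ▸ (Ideal.map_le_iff_le_comap.2
      ((IsLocalRing.le_maximalIdeal hI).trans (IsLocalRing.maximalIdeal_comap (algebraMap A B)).ge))))
  exact .of_surjective' _ Ideal.Quotient.mk_surjective

/-- A radical ideal other than the maximal one leaves out a regular element of the maximal ideal. -/
theorem exists_regular_mod {R : Type u} [CommRing R] [IsLocalRing R] [IsNoetherianRing R] {I : Ideal R}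
    (hI : I.IsRadical) (hne : I ≠ ⊤) (hm : I ≠ maximalIdeal R) :
    ∃ f ∈ maximalIdeal R, ∀ x, f * x ∈ I → x ∈ I := by
  have hfin := I.finite_minimalPrimes_of_isNoetherianRing
  obtain ⟨f, hfm, hf⟩ : ∃ f ∈ maximalIdeal R, ∀ p ∈ I.minimalPrimes, f ∉ p := by
    by_contra hcon
    push Not at hcon
    have hsub : (maximalIdeal R : Set R) ⊆ ⋃ p ∈ hfin.toFinset, (p : Set R) := fun f hf => by
      obtain ⟨p, hp, hfp⟩ := hcon f hf
      exact Set.mem_biUnion (hfin.mem_toFinset.2 hp) hfp
    obtain ⟨p, hp, hle⟩ := (Ideal.subset_union_prime ⊥ ⊥ fun p hp _ _ => (hfin.mem_toFinset.1 hp).1.1).1 hsub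
    have hp' := hfin.mem_toFinset.1 hp
    have hpm : p = maximalIdeal R := le_antisymm (IsLocalRing.le_maximalIdeal hp'.1.1.ne_top) hle
    refine hm (le_antisymm (IsLocalRing.le_maximalIdeal hne) ?_)
    rw [← hI.radical, ← Ideal.sInf_minimalPrimes]
    refine le_sInf fun q hq => ?_
    have hqm : q = maximalIdeal R := le_antisymm (IsLocalRing.le_maximalIdeal hq.1.1.ne_top)
      (hpm ▸ hp'.2 hq.1 ((IsLocalRing.le_maximalIdeal hq.1.1.ne_top).trans hle))
    exact hqm.ge
  refine ⟨f, hfm, fun x hx => ?_⟩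
  rw [← hI.radical, ← Ideal.sInf_minimalPrimes, Submodule.mem_sInf]
  intro q hq
  exact (hq.1.1.mem_or_mem (hq.1.2 hx)).resolve_left (hf q hq)

variable [Module.Flat A B]

/-- Purity for every quotient by an ideal of the base, by induction on the ideal. -/
theorem purityHolds_quotient_map [IsLocalRing (B ⧸ (maximalIdeal A).map (algebraMap A B))]
    (hd : (2 : ℕ∞) ≤ _root_.LocCoh.depth (B ⧸ (maximalIdeal A).map (algebraMap A B)) (B ⧸ (maximalIdeal A).map (algebraMap A B)))
    (h0 : FEt.PurityHolds (B ⧸ (maximalIdeal A).map (algebraMap A B))) :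
    ∀ (I : Ideal A), I ≠ ⊤ → ∀ [IsLocalRing (B ⧸ I.map (algebraMap A B))], FEt.PurityHolds (B ⧸ I.map (algebraMap A B)) := by
  intro I
  induction I using IsNoetherian.induction with
  | hgt I ih =>
    revert ih
    revert I
    intro (I : Ideal A) ih hne _
    haveI : IsLocalRing (A ⧸ I) := by
      haveI : Nontrivial (A ⧸ I) := Ideal.Quotient.nontrivial_iff.2 hne
      exact .of_surjective' _ Ideal.Quotient.mk_surjective
    by_cases hrad : I.radical = I
    · by_cases hm : I = maximalIdeal A
      · exact FEtFF.PurityTransfer.purityHolds_of_ringEquiv (Ideal.quotEquivOfEq (by rw [hm])) h0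
      obtain ⟨f, hfm, hf⟩ := exists_regular_mod (Ideal.radical_eq_iff.1 hrad) hne hm
      have hfI : f ∉ I := fun h => hne ((Ideal.eq_top_iff_one I).2 (hf 1 (by rwa [mul_one])))
      let J := I ⊔ Ideal.span {f}
      have hIJ : I < J := lt_of_le_of_ne le_sup_left fun h => hfI (h ▸ Submodule.mem_sup_right (Ideal.mem_span_singleton_self f))
      have hJ : J ≠ ⊤ := fun h => (maximalIdeal.isMaximal A).ne_top (top_le_iff.1 (h.ge.trans
        (sup_le (IsLocalRing.le_maximalIdeal hne) ((Ideal.span_singleton_le_iff_mem _).2 hfm))))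
      haveI := isLocalRing_quotient_map (B := B) hJ
      have hBJ := ih J hIJ hJ
      let IB := I.map (algebraMap A B)
      let g : B ⧸ IB := Ideal.Quotient.mk IB (algebraMap A B f)
      let e : B ⧸ J.map (algebraMap A B) ≃+* (B ⧸ IB) ⧸ Ideal.span {g} :=
        (Ideal.quotEquivOfEq (show J.map (algebraMap A B) = IB ⊔ Ideal.span {algebraMap A B f} by
          rw [Ideal.map_sup, Ideal.map_span, Set.image_singleton])).trans
          ((DoubleQuot.quotQuotEquivQuotSup IB (Ideal.span {algebraMap A B f})).symm.trans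
            (Ideal.quotEquivOfEq (by rw [Ideal.map_span, Set.image_singleton])))
      haveI : Nontrivial ((B ⧸ IB) ⧸ Ideal.span {g}) := e.symm.toEquiv.nontrivial
      haveI : IsLocalRing ((B ⧸ IB) ⧸ Ideal.span {g}) := .of_surjective' _ Ideal.Quotient.mk_surjective
      haveI : IsLocalHom (Ideal.Quotient.mk IB) := IsLocalHom.of_surjective _ Ideal.Quotient.mk_surjective
      haveI : IsLocalHom (Ideal.Quotient.mk I) := IsLocalHom.of_surjective _ Ideal.Quotient.mk_surjective
      have hgm : g ∈ maximalIdeal (B ⧸ IB) := fun h =>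
        hfm (isUnit_of_map_unit (algebraMap A B) f (isUnit_of_map_unit (Ideal.Quotient.mk IB) _ h))
      haveI : Module.Flat (A ⧸ I) (B ⧸ IB) := CommAlg6.flat_quotient_map I
      haveI : IsLocalHom (algebraMap (A ⧸ I) (B ⧸ IB)) := ⟨fun x hx => by
        obtain ⟨a, rfl⟩ := Ideal.Quotient.mk_surjective x
        exact (isUnit_of_map_unit (algebraMap A B) a (isUnit_of_map_unit (Ideal.Quotient.mk IB) _ hx)).map _⟩
      refine purityHolds_of_hypersurface ?_ g hgm (FEtFF.PurityTransfer.purityHolds_of_ringEquiv e hBJ)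
      -- depth
      have hA1 : (1 : ℕ∞) ≤ _root_.LocCoh.depth (A ⧸ I) (A ⧸ I) := by
        have hreg : IsSMulRegular (A ⧸ I) (Ideal.Quotient.mk I f) := by
          refine isSMulRegular_iff_right_eq_zero_of_smul.2 fun x hx => ?_
          obtain ⟨a, rfl⟩ := Ideal.Quotient.mk_surjective x
          rw [smul_eq_mul, ← map_mul, Ideal.Quotient.eq_zero_iff_mem] at hx
          exact Ideal.Quotient.eq_zero_iff_mem.2 (hf a hx)
        have hm1 : Ideal.Quotient.mk I f ∈ maximalIdeal (A ⧸ I) := fun h =>
          hfm (isUnit_of_map_unit (Ideal.Quotient.mk I) f h)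
        rw [← CAlgH3.depth_quotSMulTop_add_one hm1 hreg]
        exact le_add_self
      have hmm : (maximalIdeal (A ⧸ I)).map (algebraMap (A ⧸ I) (B ⧸ IB)) =
          ((maximalIdeal A).map (algebraMap A B)).map (Ideal.Quotient.mk IB) := by
        rw [← IsLocalRing.map_maximalIdeal_of_surjective (Ideal.Quotient.mk I) Ideal.Quotient.mk_surjective,
          Ideal.map_map, Ideal.map_map]
        rfl
      let e₀ : B ⧸ (maximalIdeal A).map (algebraMap A B) ≃+* (B ⧸ IB) ⧸ (maximalIdeal (A ⧸ I)).map (algebraMap (A ⧸ I) (B ⧸ IB)) :=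
        ((Ideal.quotEquivOfEq hmm).trans (DoubleQuot.quotQuotEquivQuotOfLE
          (Ideal.map_mono (IsLocalRing.le_maximalIdeal hne)))).symm
      haveI : Nontrivial ((B ⧸ IB) ⧸ (maximalIdeal (A ⧸ I)).map (algebraMap (A ⧸ I) (B ⧸ IB))) := e₀.symm.toEquiv.nontrivial
      haveI : IsLocalRing ((B ⧸ IB) ⧸ (maximalIdeal (A ⧸ I)).map (algebraMap (A ⧸ I) (B ⧸ IB))) :=
        .of_surjective' _ Ideal.Quotient.mk_surjective
      refine le_trans ?_ (CAlgH3.depth_add_depth_fibre_le_self (A := A ⧸ I) (B := B ⧸ IB))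
      rw [← CAlgH3.depth_quotient_ring, ← CAlgH3.depth_ringEquiv e₀]
      exact le_trans (by norm_num) (add_le_add hA1 hd)
    · let J := I.radical
      have hIJ : I < J := lt_of_le_of_ne Ideal.le_radical (Ne.symm hrad)
      have hJ : J ≠ ⊤ := fun h => hne (Ideal.radical_eq_top.1 h)
      haveI := isLocalRing_quotient_map (B := B) hJ
      let IB := I.map (algebraMap A B)
      let N := (J.map (algebraMap A B)).map (Ideal.Quotient.mk IB)
      let e : B ⧸ J.map (algebraMap A B) ≃+* (B ⧸ IB) ⧸ N :=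
        (DoubleQuot.quotQuotEquivQuotOfLE (Ideal.map_mono Ideal.le_radical)).symm
      haveI : Nontrivial ((B ⧸ IB) ⧸ N) := e.symm.toEquiv.nontrivial
      haveI : IsLocalRing ((B ⧸ IB) ⧸ N) := .of_surjective' _ Ideal.Quotient.mk_surjective
      refine purityHolds_of_quotient_nilpotent N ?_ (FEtFF.PurityTransfer.purityHolds_of_ringEquiv e (ih J hIJ hJ))
      show (J.map (algebraMap A B)).map (Ideal.Quotient.mk IB) ≤ nilradical (B ⧸ IB)
      rw [Ideal.map_map, Ideal.map_le_iff_le_comap]
      rintro a ⟨n, hn⟩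
      refine ⟨n, ?_⟩
      rw [Ideal.zero_eq_bot, Ideal.mem_bot, ← map_pow]
      exact Ideal.Quotient.eq_zero_iff_mem.2 (Ideal.mem_map_of_mem _ hn)

/-- Purity of a flat local extension with pure closed fibre of depth at least two. -/
theorem purityHolds_of_flat_fibre [IsLocalRing (B ⧸ (maximalIdeal A).map (algebraMap A B))]
    (hd : (2 : ℕ∞) ≤ _root_.LocCoh.depth (B ⧸ (maximalIdeal A).map (algebraMap A B)) (B ⧸ (maximalIdeal A).map (algebraMap A B)))
    (h0 : FEt.PurityHolds (B ⧸ (maximalIdeal A).map (algebraMap A B))) : FEt.PurityHolds B := by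
  haveI := isLocalRing_quotient_map (B := B) (bot_ne_top : (⊥ : Ideal A) ≠ ⊤)
  exact FEtFF.PurityTransfer.purityHolds_of_ringEquiv
    ((Ideal.quotEquivOfEq Ideal.map_bot).trans (RingEquiv.quotientBot B))
    (purityHolds_quotient_map hd h0 ⊥ bot_ne_top)

end Groth.Agent.Purity10
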