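import Groth.Agent.Purity10.CoverSplit
import Groth.Agent.SerreLang10.Kunneth

/-!
# Covers of products dominated by products are constant along rational points
-/

set_option autoImplicit false
set_option linter.style.haveILetI false
set_option linter.overlappingInstances false
set_option backward.isDefEq.respectTransparency.types false
set_option backward.isDefEq.respectTransparency false

universe u

open CategoryTheory CategoryTheory.Limits AlgebraicGeometry TopologicalSpace

namespace Groth.Agent.Purity10.KunnethConst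

open CoverSplit

variable {k : Type u} [Field k] {X Y : Scheme.{u}} (pX : X ⟶ Spec (CommRingCat.of k))
  (pY : Y ⟶ Spec (CommRingCat.of k))

/-- The product cover map. -/
noncomputable abbrev cmap {C : Scheme.{u}} (c : C ⟶ X) : pullback (c ≫ pX) pY ⟶ pullback pX pY :=
  pullback.lift (pullback.fst _ _ ≫ c) (pullback.snd _ _) (by rw [Category.assoc]; exact pullback.condition)

theorem isPullback_cmap {C : Scheme.{u}} (c : C ⟶ X) :
    IsPullback (cmap pX pY c) (pullback.fst (c ≫ pX) pY) (pullback.fst pX pY) c := by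
  refine IsPullback.flip (IsPullback.of_bot ?_ (pullback.lift_fst _ _ _).symm (IsPullback.of_hasPullback pX pY))
  rw [pullback.lift_snd]
  exact IsPullback.of_hasPullback (c ≫ pX) pY

/-- Every point is hit by a product of a connected cover of `X` with `Y`. -/
def Dom {Z : Scheme.{u}} (z : Z ⟶ pullback pX pY) : Prop :=
  ∀ w : Z, ∃ (C : Scheme.{u}) (c : C ⟶ X) (ψ : pullback (c ≫ pX) pY ⟶ Z),
    IsFinite c ∧ Etale c ∧ ConnectedSpace C ∧ ψ ≫ z = cmap pX pY c ∧ w ∈ Set.range ψ

theorem dom_id [IsLocallyNoetherian X] : Dom pX pY (𝟙 _) := by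
  intro w
  let C := comp (pullback.fst pX pY w)
  refine ⟨C.toScheme, C.ι, cmap pX pY C.ι, inferInstanceAs (IsFinite (comp _).ι), inferInstance,
    inferInstanceAs (ConnectedSpace (comp _).toScheme), Category.comp_id _, ?_⟩
  obtain ⟨p, hp, -⟩ := Scheme.exists_preimage_of_isPullback (isPullback_cmap pX pY C.ι) w
    (⟨_, mem_connectedComponent⟩ : C.toScheme) rfl
  exact ⟨p, hp⟩

theorem dom_baseChange [IsLocallyNoetherian X] {Z : Scheme.{u}} {z : Z ⟶ pullback pX pY} (hz : Dom pX pY z)
    {E : Scheme.{u}} (e : E ⟶ X) [IsFinite e] [Etale e] :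
    Dom pX pY (pullback.fst (z ≫ pullback.fst pX pY) e ≫ z) := by
  intro w
  obtain ⟨C, c, ψ, _, _, _, hψ, v, hv⟩ := hz (pullback.fst (z ≫ pullback.fst pX pY) e w)
  let C₃ := pullback c e
  let d : C₃ ⟶ X := pullback.fst c e ≫ c
  haveI : IsFinite d := inferInstanceAs (IsFinite (pullback.fst c e ≫ c))
  haveI : Etale d := inferInstanceAs (Etale (pullback.fst c e ≫ c))
  haveI := LocallyOfFiniteType.isLocallyNoetherian d
  let M : pullback (d ≫ pX) pY ⟶ pullback (c ≫ pX) pY :=
    pullback.lift (pullback.fst _ _ ≫ pullback.fst c e) (pullback.snd _ _) (by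
      simp only [Category.assoc]
      exact (by simpa [d] using pullback.condition (f := d ≫ pX) (g := pY)))
  have hψ1 : ψ ≫ z ≫ pullback.fst pX pY = pullback.fst _ _ ≫ c := by
    rw [reassoc_of% hψ, pullback.lift_fst]
  let Φ : pullback (d ≫ pX) pY ⟶ pullback (z ≫ pullback.fst pX pY) e :=
    pullback.lift (M ≫ ψ) (pullback.fst _ _ ≫ pullback.snd c e) (by
      simp only [Category.assoc, hψ1, M, pullback.lift_fst_assoc, pullback.condition])
  have hM : IsPullback (pullback.fst (d ≫ pX) pY) M (pullback.fst c e) (pullback.fst (c ≫ pX) pY) := by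
    refine IsPullback.of_bot ?_ (pullback.lift_fst _ _ _).symm (IsPullback.of_hasPullback (c ≫ pX) pY)
    rw [pullback.lift_snd]
    simpa [d] using IsPullback.of_hasPullback (d ≫ pX) pY
  have hbig := hM.paste_horiz (IsPullback.of_hasPullback c e).flip
  have hsq : IsPullback Φ M (pullback.fst (z ≫ pullback.fst pX pY) e) ψ := by
    refine IsPullback.of_right ?_ (pullback.lift_fst _ _ _) (IsPullback.of_hasPullback (z ≫ pullback.fst pX pY) e).flip
    rw [pullback.lift_snd, hψ1]
    exact hbig
  obtain ⟨p, hp, -⟩ := Scheme.exists_preimage_of_isPullback hsq w v hv.symm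
  let D := comp (pullback.fst (d ≫ pX) pY p)
  let N : pullback ((D.ι ≫ d) ≫ pX) pY ⟶ pullback (d ≫ pX) pY :=
    pullback.lift (pullback.fst _ _ ≫ D.ι) (pullback.snd _ _) (by
      simpa only [Category.assoc] using pullback.condition (f := (D.ι ≫ d) ≫ pX) (g := pY))
  have hN : IsPullback N (pullback.fst ((D.ι ≫ d) ≫ pX) pY) (pullback.fst (d ≫ pX) pY) D.ι := by
    refine IsPullback.flip (IsPullback.of_bot ?_ (pullback.lift_fst _ _ _).symm (IsPullback.of_hasPullback (d ≫ pX) pY))
    rw [pullback.lift_snd]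
    simpa using IsPullback.of_hasPullback ((D.ι ≫ d) ≫ pX) pY
  obtain ⟨p', hp', -⟩ := Scheme.exists_preimage_of_isPullback hN p
    (⟨_, mem_connectedComponent⟩ : D.toScheme) rfl
  refine ⟨D.toScheme, D.ι ≫ d, N ≫ Φ, inferInstance, inferInstance,
    inferInstanceAs (ConnectedSpace (comp _).toScheme), ?_, p', ?_⟩
  · apply pullback.hom_ext
    · simp [Φ, hψ1, M, N, d, cmap]
    · simp [Φ, reassoc_of% hψ, M, N, d, cmap]
  · rw [Scheme.Hom.comp_apply, hp', hp]

variable (a : Spec (CommRingCat.of k) ⟶ Y) (ha : a ≫ pY = 𝟙 _)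

/-- The section at a rational point. -/
noncomputable abbrev sec : X ⟶ pullback pX pY :=
  pullback.lift (𝟙 X) (pX ≫ a) (by rw [Category.id_comp, Category.assoc, ha, Category.comp_id])

/-- The section of a product cover at a rational point. -/
noncomputable abbrev usec {C : Scheme.{u}} (c : C ⟶ X) : C ⟶ pullback (c ≫ pX) pY :=
  pullback.lift (𝟙 C) (c ≫ pX ≫ a) (by
    rw [Category.id_comp, Category.assoc, Category.assoc, ha, Category.comp_id])

theorem usec_cmap {C : Scheme.{u}} (c : C ⟶ X) : usec pX pY a ha c ≫ cmap pX pY c = c ≫ sec pX pY a ha := by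
  apply pullback.hom_ext
  · rw [Category.assoc, pullback.lift_fst, pullback.lift_fst_assoc, Category.assoc, pullback.lift_fst]
    exact (Category.id_comp c).trans (Category.comp_id c).symm
  · rw [Category.assoc, pullback.lift_snd, pullback.lift_snd, Category.assoc, pullback.lift_snd]

theorem isPullback_usec {C : Scheme.{u}} (c : C ⟶ X) :
    IsPullback (usec pX pY a ha c) c (cmap pX pY c) (sec pX pY a ha) := by
  refine IsPullback.of_right ?_ (usec_cmap pX pY a ha c) (isPullback_cmap pX pY c).flip
  rw [pullback.lift_fst, pullback.lift_fst]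
  exact IsPullback.of_horiz_isIso ⟨(Category.id_comp c).trans (Category.comp_id c).symm⟩

theorem dom_of_iso {Z Z' : Scheme.{u}} {z : Z ⟶ pullback pX pY} (hz : Dom pX pY z) (z' : Z' ⟶ pullback pX pY)
    (m : Z ⟶ Z') [Surjective m] (hm : m ≫ z' = z) : Dom pX pY z' := by
  intro w
  obtain ⟨v, rfl⟩ := m.surjective w
  obtain ⟨C, c, ψ, h1, h2, h3, hψ, p, rfl⟩ := hz v
  exact ⟨C, c, ψ ≫ m, h1, h2, h3, by rw [Category.assoc, hm, hψ], p, Scheme.Hom.comp_apply _ _ _⟩

/-- A finite étale map which is bijective over the section, with all components of the target meeting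
the section, is an isomorphism. -/
theorem isIso_of_meets [IsLocallyNoetherian X]
    (hconn : ∀ (C : Scheme.{u}) (c : C ⟶ X), IsFinite c → Etale c → ConnectedSpace C →
      ConnectedSpace ↥(pullback (c ≫ pX) pY))
    {Z D : Scheme.{u}} (z : Z ⟶ pullback pX pY) (hz : Dom pX pY z) (q : D ⟶ Z) [IsFinite q] [Etale q]
    [IsIso (pullback.snd q (pullback.fst z (sec pX pY a ha)))] : IsIso q := by
  rw [Scheme.Hom.isIso_iff_finrank_eq]
  ext w
  obtain ⟨C, c, ψ, _, _, _, hψ, v, rfl⟩ := hz w
  haveI := hconn C c inferInstance inferInstance inferInstance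
  obtain ⟨x⟩ := (inferInstance : Nonempty C)
  let u := usec pX pY a ha c
  have h1 : q.finrank (ψ v) = q.finrank (ψ (u x)) :=
    ((Scheme.Hom.isLocallyConstant_finrank q).comp_continuous ψ.continuous).apply_eq_of_preconnectedSpace v (u x)
  have hu : (u ≫ ψ) ≫ z = c ≫ sec pX pY a ha := by rw [Category.assoc, hψ, usec_cmap]
  rw [h1, ← Scheme.Hom.comp_apply, ← pullback.lift_fst (u ≫ ψ) c hu, Scheme.Hom.comp_apply, ← Scheme.Hom.finrank_pullback_snd,
    Scheme.Hom.finrank_eq_one_of_isIso]
  rfl

include ha in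
/-- A dominated cover is constant. -/
theorem exists_iso_const [IsLocallyNoetherian X]
    (hconn : ∀ (C : Scheme.{u}) (c : C ⟶ X), IsFinite c → Etale c → ConnectedSpace C →
      ConnectedSpace ↥(pullback (c ≫ pX) pY))
    (Z : FEt.Cat (pullback pX pY)) (hZ : Dom pX pY Z.hom) :
    ∃ N : FEt.Cat X, Nonempty (Z ≅ (FEt.restrict (pullback.fst pX pY)).obj N) := by
  haveI : IsFinite Z.hom := Z.prop.1
  haveI : Etale Z.hom := Z.prop.2
  let z : Z.left ⟶ pullback pX pY := Z.hom
  haveI : IsFinite z := Z.prop.1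
  haveI : Etale z := Z.prop.2
  let fP := pullback.fst pX pY
  let s := sec pX pY a ha
  have hs : s ≫ fP = 𝟙 X := pullback.lift_fst _ _ _
  let n : pullback z s ⟶ X := pullback.snd z s
  haveI : IsFinite n := inferInstanceAs (IsFinite (pullback.snd z s))
  haveI : Etale n := inferInstanceAs (Etale (pullback.snd z s))
  refine ⟨MorphismProperty.Over.mk ⊤ n ⟨inferInstance, inferInstance⟩, ?_⟩
  let t : pullback n fP ⟶ pullback pX pY := pullback.snd n fP
  haveI : IsFinite t := inferInstanceAs (IsFinite (pullback.snd n fP))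
  haveI : Etale t := inferInstanceAs (Etale (pullback.snd n fP))
  have hT : Dom pX pY t := by
    let m : pullback (𝟙 _ ≫ fP) n ⟶ pullback n fP :=
      pullback.lift (pullback.snd _ _) (pullback.fst _ _) (by rw [← pullback.condition, Category.id_comp])
    haveI : Surjective m := ⟨fun w => by
      obtain ⟨v, hv1, hv2⟩ := Scheme.Pullback.exists_preimage_pullback (f := n) (g := fP) (pullback.fst n fP w)
        (pullback.snd n fP w) (by rw [← Scheme.Hom.comp_apply, pullback.condition, Scheme.Hom.comp_apply])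
      let m' : pullback n fP ⟶ pullback (𝟙 _ ≫ fP) n :=
        pullback.lift (pullback.snd _ _) (pullback.fst _ _) (by rw [Category.id_comp, pullback.condition])
      refine ⟨m' w, ?_⟩
      rw [← Scheme.Hom.comp_apply, show m' ≫ m = 𝟙 _ from pullback.hom_ext (by simp [m, m']) (by simp [m, m'])]
      rfl⟩
    exact dom_of_iso pX pY (dom_baseChange pX pY (dom_id pX pY) n) t m (by simp [m, t, fP])
  let pr1 := pullback.fst (z ≫ fP) n
  haveI : IsFinite pr1 := inferInstanceAs (IsFinite (pullback.fst (z ≫ fP) n))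
  haveI : Etale pr1 := inferInstanceAs (Etale (pullback.fst (z ≫ fP) n))
  let h := pr1 ≫ z
  haveI : IsFinite h := inferInstanceAs (IsFinite (pr1 ≫ z))
  haveI : Etale h := inferInstanceAs (Etale (pr1 ≫ z))
  let pr2 : pullback (z ≫ fP) n ⟶ pullback n fP := pullback.lift (pullback.snd _ _) h
    (by simp only [h, pr1, Category.assoc]; exact pullback.condition.symm)
  have hpr2 : pr2 ≫ t = h := pullback.lift_snd _ _ _
  haveI : IsFinite pr2 := by
    haveI : IsFinite (pr2 ≫ t) := by rw [hpr2]; infer_instance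
    exact IsFinite.of_comp pr2 t
  haveI : Etale pr2 := by
    haveI : Etale (pr2 ≫ t) := by rw [hpr2]; infer_instance
    exact Etale.of_comp pr2 t
  have hH : Dom pX pY h := dom_baseChange pX pY hZ n
  -- the graph over the section
  let γ : pullback z s ⟶ pullback (z ≫ fP) n := pullback.lift (pullback.fst z s) (𝟙 _) (by
    rw [Category.id_comp, pullback.condition_assoc, hs, Category.comp_id])
  have hγh : γ ≫ h = n ≫ s := by
    simp only [γ, h, pr1, pullback.lift_fst_assoc]
    exact pullback.condition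
  let γ' : pullback z s ⟶ pullback h s := pullback.lift γ n hγh
  haveI : IsFinite γ' := by
    haveI : IsFinite (γ' ≫ pullback.snd h s) := by rw [pullback.lift_snd]; infer_instance
    exact IsFinite.of_comp γ' (pullback.snd h s)
  haveI : Etale γ' := by
    haveI : Etale (γ' ≫ pullback.snd h s) := by rw [pullback.lift_snd]; infer_instance
    exact Etale.of_comp γ' (pullback.snd h s)
  have hΓ : IsClopen (Set.range γ') := ⟨γ'.isClosedMap.isClosed_range, γ'.isOpenMap.isOpen_range⟩
  have key : ∀ (C : Scheme.{u}) (c : C ⟶ X) (ψ : pullback (c ≫ pX) pY ⟶ pullback (z ≫ fP) n),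
      IsFinite c → Etale c → ConnectedSpace C → ψ ≫ h = cmap pX pY c →
      IsClopen (Set.range ψ) ∧ ∀ p, connectedComponent (ψ p) = Set.range ψ := by
    intro C c ψ hc1 hc2 hc3 hψ
    haveI := hconn C c hc1 hc2 hc3
    haveI : IsFinite (cmap pX pY c) := MorphismProperty.of_isPullback (isPullback_cmap pX pY c).flip hc1
    haveI : Etale (cmap pX pY c) := MorphismProperty.of_isPullback (isPullback_cmap pX pY c).flip hc2
    haveI : IsFinite ψ := by
      haveI : IsFinite (ψ ≫ h) := by rw [hψ]; infer_instance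
      exact IsFinite.of_comp ψ h
    haveI : Etale ψ := by
      haveI : Etale (ψ ≫ h) := by rw [hψ]; infer_instance
      exact Etale.of_comp ψ h
    have hc : IsClopen (Set.range ψ) := ⟨ψ.isClosedMap.isClosed_range, ψ.isOpenMap.isOpen_range⟩
    exact ⟨hc, fun p => (hc.connectedComponent_subset ⟨p, rfl⟩).antisymm
      ((isConnected_range ψ.continuous).subset_connectedComponent ⟨p, rfl⟩)⟩
  let iH : pullback h s ⟶ pullback (z ≫ fP) n := pullback.fst h s
  let S : Set ↥(pullback (z ≫ fP) n) := {x | ∃ p ∈ connectedComponent x, p ∈ iH '' Set.range γ'}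
  have hcc : ∀ x : ↥(pullback (z ≫ fP) n), IsOpen (connectedComponent x) := fun x => by
    obtain ⟨C, c, ψ, hc1, hc2, hc3, hψ, p, rfl⟩ := hH x
    rw [(key C c ψ hc1 hc2 hc3 hψ).2 p]
    exact (key C c ψ hc1 hc2 hc3 hψ).1.isOpen
  have hS : IsClopen S := by
    have hsat : ∀ x y, y ∈ connectedComponent x → (x ∈ S ↔ y ∈ S) := fun x y hy => by
      show (∃ p ∈ connectedComponent x, _) ↔ ∃ p ∈ connectedComponent y, _
      rw [connectedComponent_eq hy]
    refine ⟨⟨isOpen_iff_forall_mem_open.2 fun x hx => ⟨connectedComponent x, fun y hy hyS => hx ((hsat x y hy).2 hyS),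
      hcc x, mem_connectedComponent⟩⟩, isOpen_iff_forall_mem_open.2 fun x hx => ⟨connectedComponent x,
      fun y hy => (hsat x y hy).1 hx, hcc x, mem_connectedComponent⟩⟩
  have hmem : ∀ r : ↥(pullback h s), iH r ∈ S → r ∈ Set.range γ' := by
    intro r hr
    obtain ⟨p, hp, r₀, hr₀, rfl⟩ := hr
    obtain ⟨C, c, ψ, hc1, hc2, hc3, hψ, v, hv⟩ := hH (iH r)
    obtain ⟨-, hcomp⟩ := key C c ψ hc1 hc2 hc3 hψ
    rw [← hv, hcomp] at hp
    let u := usec pX pY a ha c
    let l : C ⟶ pullback h s := pullback.lift (u ≫ ψ) c (by rw [Category.assoc, hψ]; exact usec_cmap pX pY a ha c)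
    have hu : ∀ q : ↥(pullback (c ≫ pX) pY), ∀ r' : ↥(pullback h s), iH r' = ψ q → ∃ x, r' = l x := by
      intro q r' hq
      have hus : IsPullback u c (cmap pX pY c) s := isPullback_usec pX pY a ha c
      have h1 : cmap pX pY c q = s (pullback.snd h s r') := by
        rw [← hψ, Scheme.Hom.comp_apply, ← hq, ← Scheme.Hom.comp_apply, ← Scheme.Hom.comp_apply, pullback.condition]
      obtain ⟨x, hx, -⟩ := Scheme.exists_preimage_of_isPullback hus q _ h1
      refine ⟨x, ?_⟩
      haveI : IsImmersion s := by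
        haveI : IsImmersion (s ≫ fP) := by rw [hs]; infer_instance
        exact IsImmersion.of_comp s fP
      haveI : IsImmersion iH := MorphismProperty.pullback_fst _ _ ‹IsImmersion s›
      apply iH.isEmbedding.injective
      rw [hq, ← hx]
      exact congrArg (fun m : C ⟶ pullback (z ≫ fP) n => m x) (pullback.lift_fst (f := h) (g := s) (u ≫ ψ) c _).symm
    obtain ⟨x, rfl⟩ := hu v r hv.symm
    obtain ⟨q₀, hq₀⟩ := hp
    obtain ⟨x₀, rfl⟩ := hu q₀ r₀ hq₀.symm
    haveI := hc3
    rw [← Set.mem_preimage, (hΓ.preimage l.continuous).eq_univ ⟨x₀, hr₀⟩]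
    trivial
  let D : (pullback (z ≫ fP) n).Opens := ⟨S, hS.isOpen⟩
  haveI : IsClosedImmersion D.ι := .of_isPreimmersion _ (by rw [Scheme.Opens.range_ι]; exact hS.isClosed)
  have hrange : Set.range γ ⊆ Set.range D.ι := by
    rw [Scheme.Opens.range_ι]
    rintro _ ⟨r, rfl⟩
    refine ⟨γ r, mem_connectedComponent, γ' r, ⟨r, rfl⟩, ?_⟩
    rw [← Scheme.Hom.comp_apply, pullback.lift_fst]
  let γD := IsOpenImmersion.lift D.ι γ hrange
  have hγD : γD ≫ D.ι = γ := IsOpenImmersion.lift_fac _ _ _
  have main : ∀ {W : Scheme.{u}} (w : W ⟶ pullback pX pY) (pr : pullback (z ≫ fP) n ⟶ W) [IsFinite pr] [Etale pr],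
      pr ≫ w = h → Dom pX pY w → (σ : pullback z s ⟶ pullback w s) → IsIso σ →
      σ ≫ pullback.fst w s = γ ≫ pr → IsIso (D.ι ≫ pr) := by
    intro W w pr _ _ hpr hw σ _ hσ
    let q := D.ι ≫ pr
    haveI : IsFinite q := inferInstanceAs (IsFinite (D.ι ≫ pr))
    haveI : Etale q := inferInstanceAs (Etale (D.ι ≫ pr))
    let f₁ := pullback.fst w s
    let τ : pullback w s ⟶ pullback q f₁ := pullback.lift (inv σ ≫ γD) (𝟙 _) (by
      simp only [q, Category.assoc, reassoc_of% hγD, ← hσ, IsIso.inv_hom_id_assoc, Category.id_comp, f₁])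
    have hτ : τ ≫ pullback.snd q f₁ = 𝟙 _ := pullback.lift_snd _ _ _
    haveI : IsOpenImmersion τ := FEtSect.isOpenImmersion_sect ⟨τ, hτ⟩
    haveI : Surjective τ := by
      refine ⟨fun p => ?_⟩
      let m : pullback q f₁ ⟶ pullback h s := pullback.lift (pullback.fst q f₁ ≫ D.ι)
        (pullback.snd q f₁ ≫ pullback.snd w s) (by
          rw [Category.assoc, Category.assoc, ← hpr, ← Category.assoc D.ι, show D.ι ≫ pr = q from rfl,
            pullback.condition_assoc, show f₁ ≫ w = _ from pullback.condition])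
      haveI : Mono m := by
        refine ⟨fun g g' e => pullback.hom_ext ?_ ?_⟩
        · rw [← cancel_mono D.ι]
          simpa [m] using congrArg (· ≫ pullback.fst _ _) e
        · apply pullback.hom_ext
          · have h2 := congrArg (· ≫ pullback.fst _ _ ≫ pr) e
            simp only [m, Category.assoc, pullback.lift_fst_assoc] at h2
            rw [show D.ι ≫ pr = q from rfl, pullback.condition] at h2
            simpa using h2
          · simpa [m] using congrArg (· ≫ pullback.snd _ _) e
      obtain ⟨r, hr⟩ := hmem (m p) (by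
        show (m ≫ iH) p ∈ S
        rw [show m ≫ iH = pullback.fst q f₁ ≫ D.ι from pullback.lift_fst _ _ _, Scheme.Hom.comp_apply]
        exact (pullback.fst q f₁ p).2)
      have e : σ ≫ τ ≫ m = γ' := by
        apply pullback.hom_ext
        · simp [m, τ, γ', hγD, iH]
        · have h3 : (σ ≫ pullback.snd w s) ≫ s = n ≫ s := by
            rw [Category.assoc, ← pullback.condition, ← Category.assoc, hσ, Category.assoc, hpr, hγh]
          haveI : IsSplitMono s := IsSplitMono.mk' ⟨fP, hs⟩
          have h4 := (cancel_mono s).mp h3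
          simp only [m, τ, γ', Category.assoc, pullback.lift_snd, pullback.lift_snd_assoc]
          simpa using h4
      refine ⟨σ r, (inferInstance : UniversallyInjective m) |> fun _ => m.injective ?_⟩
      rw [← Scheme.Hom.comp_apply, ← Scheme.Hom.comp_apply, e]
      exact hr
    haveI : Epi τ.base := (TopCat.epi_iff_surjective _).mpr τ.surjective
    haveI : IsIso τ := IsOpenImmersion.isIso τ
    haveI : IsIso (pullback.snd q f₁) := IsIso.of_isIso_fac_left hτ
    exact isIso_of_meets pX pY a ha hconn w hw q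
  haveI : IsIso (D.ι ≫ pr1) := main z pr1 rfl hZ (𝟙 _) inferInstance (by simp [γ, pr1])
  let σ : pullback z s ⟶ pullback t s := pullback.lift (pullback.lift (𝟙 _) (n ≫ s)
    (by rw [Category.id_comp, Category.assoc, hs, Category.comp_id])) n (pullback.lift_snd _ _ _)
  haveI : IsIso σ := ⟨pullback.fst t s ≫ pullback.fst n fP, by simp [σ], by
    have h1 : pullback.fst t s ≫ pullback.fst n fP ≫ n = pullback.snd t s := by
      rw [pullback.condition, ← Category.assoc]
      exact (congrArg (· ≫ fP) (pullback.condition (f := t) (g := s))).trans (by simp [hs])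
    apply pullback.hom_ext
    · apply pullback.hom_ext
      · simp [σ]
      · simp only [σ, Category.assoc, pullback.lift_fst, pullback.lift_snd, reassoc_of% h1, Category.id_comp]
        exact pullback.condition.symm
    · simp [σ, h1]⟩
  haveI : IsIso (D.ι ≫ pr2) := main t pr2 hpr2 hT σ inferInstance (by
    apply pullback.hom_ext <;> simp [σ, pr2, γ, hγh, h, pr1])
  let e : Z.left ≅ pullback n fP := (asIso (D.ι ≫ pr1)).symm ≪≫ asIso (D.ι ≫ pr2)
  refine ⟨MorphismProperty.Over.isoMk e ?_⟩
  show (inv (D.ι ≫ pr1) ≫ D.ι ≫ pr2) ≫ t = z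
  rw [Category.assoc, Category.assoc, hpr2, IsIso.inv_comp_eq, Category.assoc]

end Groth.Agent.Purity10.KunnethConst
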