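import Groth.Agent.Purity10.KunnethPoints

/-!
# Constancy of covers of a product: reduction to connected factors
-/

set_option autoImplicit false
set_option linter.style.haveILetI false
set_option linter.overlappingInstances false
set_option backward.isDefEq.respectTransparency.types false
set_option backward.isDefEq.respectTransparency false

universe u

open CategoryTheory CategoryTheory.Limits AlgebraicGeometry TopologicalSpace

namespace Groth.Agent.Purity10.KunnethConst

open CoverSplit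

/-- Covers isomorphic over every connected component are isomorphic. -/
theorem nonempty_iso_of_comp {X : Scheme.{u}} [IsLocallyNoetherian X] (Z₁ Z₂ : FEt.Cat X)
    (h : ∀ x : X, Nonempty ((FEt.restrict (comp x).ι).obj Z₁ ≅ (FEt.restrict (comp x).ι).obj Z₂)) :
    Nonempty (Z₁ ≅ Z₂) := by
  let I : Type u := {C : X.Opens // ∃ x, C = comp x}
  have hI : ∀ i : I, Nonempty ((FEt.restrict i.1.ι).obj Z₁ ≅ (FEt.restrict i.1.ι).obj Z₂) := fun i => by
    obtain ⟨_, x, rfl⟩ := i
    exact h x
  let e := fun i => (hI i).some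
  have hcol : ∀ Z : FEt.Cat X, Nonempty (IsColimit (Cofan.mk Z.left (fun i : I => pullback.fst Z.hom i.1.ι))) := fun Z => by
    let z : Z.left ⟶ X := Z.hom
    refine nonempty_isColimit_cofanMk_of (X := fun i : I => pullback z i.1.ι) (fun i => pullback.fst z i.1.ι) ?_ ?_
    · ext w
      simp only [Opens.coe_iSup, Set.mem_iUnion, Opens.coe_top, Set.mem_univ, iff_true]
      refine ⟨⟨comp (z w), z w, rfl⟩, ?_⟩
      rw [Scheme.Hom.coe_opensRange, Scheme.Pullback.range_fst, Scheme.Opens.range_ι]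
      exact mem_connectedComponent
    · intro i j hij
      simp only [Function.onFun]
      rw [← Opens.coe_disjoint, Set.disjoint_left]
      intro w hi hj
      rw [Scheme.Hom.coe_opensRange, Scheme.Pullback.range_fst, Scheme.Opens.range_ι] at hi hj
      obtain ⟨_, x, rfl⟩ := i
      obtain ⟨_, x', rfl⟩ := j
      refine hij (Subtype.ext (Opens.ext ?_))
      show connectedComponent x = connectedComponent x'
      rw [connectedComponent_eq hi, connectedComponent_eq hj]
  obtain ⟨h₁⟩ := hcol Z₁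
  obtain ⟨h₂⟩ := hcol Z₂
  let E : Z₁.left ≅ Z₂.left := h₁.coconePointsIsoOfNatIso h₂
    (Discrete.natIso fun i => (MorphismProperty.Over.forget FEt.prop ⊤ _ ⋙ Over.forget _).mapIso (e i.as))
  refine ⟨MorphismProperty.Over.isoMk E ?_⟩
  refine h₁.hom_ext fun ⟨i⟩ => ?_
  show pullback.fst Z₁.hom i.1.ι ≫ E.hom ≫ Z₂.hom = pullback.fst Z₁.hom i.1.ι ≫ Z₁.hom
  have h3 : pullback.fst Z₁.hom i.1.ι ≫ E.hom = (e i).hom.left ≫ pullback.fst Z₂.hom i.1.ι :=
    IsColimit.comp_coconePointsIsoOfNatIso_hom h₁ h₂ _ ⟨i⟩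
  rw [← Category.assoc, h3, Category.assoc, pullback.condition, pullback.condition, ← Category.assoc]
  exact congrArg (· ≫ i.1.ι) (MorphismProperty.Over.w (e i).hom)

variable (k : Type u) [Field k] [IsAlgClosed k] {X Y : Scheme.{u}} (pX : X ⟶ Spec (CommRingCat.of k))
  (pY : Y ⟶ Spec (CommRingCat.of k))

theorem main_connected [IsLocallyNoetherian X] [IsLocallyNoetherian Y] [ConnectedSpace X] [ConnectedSpace Y]
    (hprop : IsProper pX ∨ IsProper pY) (Z : FEt.Cat (pullback pX pY))
    (y y' : Spec (CommRingCat.of k) ⟶ Y) (hy : 𝟙 X ≫ pX = (pX ≫ y) ≫ pY) (hy' : 𝟙 X ≫ pX = (pX ≫ y') ≫ pY) :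
    Nonempty ((FEt.restrict (jmap pX pY y hy)).obj Z ≅ (FEt.restrict (jmap pX pY y' hy')).obj Z) := by
  rcases hprop with hX | hY
  · haveI := hX
    haveI : ConnectedSpace ↥(pullback pX pY) := SerreLang10.connectedSpace_pullback pX pY
    haveI : IsProper (pullback.snd pX pY) := inferInstance
    haveI := LocallyOfFiniteType.isLocallyNoetherian (pullback.snd pX pY)
    refine const_of_connected pX pY (fun C A c a hc1 hc2 ha1 ha2 hC hA => ?_) (fun W _ => ?_) Z y y' hy hy'
    · haveI := hc1; haveI := hC; haveI := hA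
      exact SerreLang10.connectedSpace_pullback (c ≫ pX) (a ≫ pY)
    · exact SerreLang10.exists_dominated pX pY W
  · haveI := hY
    haveI : ConnectedSpace ↥(pullback pX pY) := by
      haveI := SerreLang10.connectedSpace_pullback pY pX
      exact (pullbackSymmetry pY pX).hom.surjective.connectedSpace (pullbackSymmetry pY pX).hom.continuous
    haveI : IsProper (pullback.fst pX pY) := inferInstance
    haveI := LocallyOfFiniteType.isLocallyNoetherian (pullback.fst pX pY)
    refine const_of_connected pX pY (fun C A c a hc1 hc2 ha1 ha2 hC hA => ?_) (fun W hW => ?_) Z y y' hy hy'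
    · haveI := ha1; haveI := hC; haveI := hA
      haveI := SerreLang10.connectedSpace_pullback (a ≫ pY) (c ≫ pX)
      exact (pullbackSymmetry (a ≫ pY) (c ≫ pX)).hom.surjective.connectedSpace
        (pullbackSymmetry (a ≫ pY) (c ≫ pX)).hom.continuous
    · let w : W.left ⟶ pullback pX pY := W.hom
      haveI : IsFinite w := W.prop.1
      haveI : Etale w := W.prop.2
      let W' : FEt.Cat (pullback pY pX) :=
        MorphismProperty.Over.mk ⊤ (w ≫ (pullbackSymmetry pX pY).hom) ⟨inferInstance, inferInstance⟩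
      haveI : ConnectedSpace W'.left := hW
      obtain ⟨Y', X', φ, hφ, hφs⟩ := SerreLang10.exists_dominated pY pX W'
      let sy := (pullbackSymmetry (X'.hom ≫ pX) (Y'.hom ≫ pY)).hom
      let φ' : pullback (Y'.hom ≫ pY) (X'.hom ≫ pX) ⟶ W.left := φ
      haveI : Surjective φ' := hφs
      refine ⟨X', Y', sy ≫ φ', ?_, inferInstanceAs (Surjective (sy ≫ φ'))⟩
      have h1 : φ' ≫ w = pullback.map (Y'.hom ≫ pY) (X'.hom ≫ pX) pY pX Y'.hom X'.hom (𝟙 _)
          (Category.comp_id _) (Category.comp_id _) ≫ (pullbackSymmetry pX pY).inv := by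
        rw [Iso.eq_comp_inv, Category.assoc]
        exact hφ
      show (sy ≫ φ') ≫ w = _
      rw [Category.assoc, h1]
      apply pullback.hom_ext <;> simp [sy]

theorem main [IsLocallyNoetherian X] [IsLocallyNoetherian Y] [ConnectedSpace Y]
    (hprop : IsProper pX ∨ IsProper pY) (Z : FEt.Cat (pullback pX pY))
    (y y' : Spec (CommRingCat.of k) ⟶ Y) (hy : 𝟙 X ≫ pX = (pX ≫ y) ≫ pY) (hy' : 𝟙 X ≫ pX = (pX ≫ y') ≫ pY) :
    Nonempty ((FEt.restrict (jmap pX pY y hy)).obj Z ≅ (FEt.restrict (jmap pX pY y' hy')).obj Z) := by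
  refine nonempty_iso_of_comp _ _ fun x => ?_
  let i := (comp x).ι
  haveI : IsLocallyNoetherian (comp x).toScheme := isLocallyNoetherian_of_isOpenImmersion i
  haveI : ConnectedSpace ↥(comp x).toScheme := inferInstanceAs (ConnectedSpace (comp x).toScheme)
  let m : pullback (i ≫ pX) pY ⟶ pullback pX pY :=
    pullback.lift (pullback.fst _ _ ≫ i) (pullback.snd _ _) (by rw [Category.assoc]; exact pullback.condition)
  have hc : ∀ (y₁ : Spec (CommRingCat.of k) ⟶ Y), 𝟙 X ≫ pX = (pX ≫ y₁) ≫ pY →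
      𝟙 _ ≫ (i ≫ pX) = ((i ≫ pX) ≫ y₁) ≫ pY := fun y₁ h => by
    rw [Category.id_comp, Category.assoc, Category.assoc, ← Category.assoc pX, ← h, Category.id_comp]
  have hj : ∀ (y₁ : Spec (CommRingCat.of k) ⟶ Y) (h : 𝟙 X ≫ pX = (pX ≫ y₁) ≫ pY),
      jmap (i ≫ pX) pY y₁ (hc y₁ h) ≫ m = i ≫ jmap pX pY y₁ h := fun y₁ h => by
    apply pullback.hom_ext
    · simp [m, jmap]; exact Category.id_comp _
    · simp [m, jmap]
  obtain ⟨e⟩ := main_connected k (i ≫ pX) pY
    (hprop.imp (fun h => by haveI := h; infer_instance) id) ((FEt.restrict m).obj Z) y y' (hc y hy) (hc y' hy')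
  exact ⟨((FEtStein.restrictCompIso i (jmap pX pY y hy) _ rfl).app Z).symm ≪≫
    (FEtStein.restrictCompIso (jmap (i ≫ pX) pY y (hc y hy)) m _ (hj y hy)).app Z ≪≫ e ≪≫
    ((FEtStein.restrictCompIso (jmap (i ≫ pX) pY y' (hc y' hy')) m _ (hj y' hy')).app Z).symm ≪≫
    (FEtStein.restrictCompIso i (jmap pX pY y' hy') _ rfl).app Z⟩

end Groth.Agent.Purity10.KunnethConst
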