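import Groth.Agent.Purity10.KunnethConst

/-!
# Constancy of covers of a product along rational points
-/

set_option autoImplicit false
set_option linter.style.haveILetI false
set_option linter.overlappingInstances false
set_option backward.isDefEq.respectTransparency.types false
set_option backward.isDefEq.respectTransparency false

universe u

open CategoryTheory CategoryTheory.Limits AlgebraicGeometry TopologicalSpace

namespace Groth.Agent.Purity10.KunnethConst

open CoverSplit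

variable {k : Type u} [Field k] [IsAlgClosed k] {X Y : Scheme.{u}} (pX : X ⟶ Spec (CommRingCat.of k))
  (pY : Y ⟶ Spec (CommRingCat.of k))

/-- The point map of a rational point. -/
noncomputable abbrev jmap (y : Spec (CommRingCat.of k) ⟶ Y) (hy : 𝟙 X ≫ pX = (pX ≫ y) ≫ pY) :
    X ⟶ pullback pX pY := pullback.lift (𝟙 X) (pX ≫ y) hy

theorem eq_id_of_nonempty [Nonempty X] (y : Spec (CommRingCat.of k) ⟶ Y) (hy : 𝟙 X ≫ pX = (pX ≫ y) ≫ pY) :
    y ≫ pY = 𝟙 _ := by
  rw [Category.id_comp, Category.assoc] at hy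
  obtain ⟨x⟩ := (inferInstance : Nonempty X)
  obtain ⟨Ω, _, _, η, -⟩ := FEtQuot.exists_geometric_point x
  obtain ⟨φ, hφ⟩ := Spec.map_surjective (η ≫ pX)
  obtain ⟨ψ, hψ⟩ := Spec.map_surjective (y ≫ pY)
  have h := congrArg (η ≫ ·) hy
  simp only [← Category.assoc] at h
  rw [Category.assoc (η ≫ pX), ← hφ, ← hψ, ← Spec.map_comp] at h
  have h2 := Spec.map_injective h
  rw [← hψ, ← Spec.map_id]
  congr 1
  ext r
  exact φ.hom.injective (congrArg (fun m : CommRingCat.of k ⟶ CommRingCat.of Ω => m r) h2).symm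

theorem const_of_connected [IsLocallyNoetherian X] [IsLocallyNoetherian Y] [ConnectedSpace X] [ConnectedSpace Y]
    [IsLocallyNoetherian (pullback pX pY)] [ConnectedSpace ↥(pullback pX pY)]
    (hK : ∀ (C A : Scheme.{u}) (c : C ⟶ X) (a : A ⟶ Y), IsFinite c → Etale c → IsFinite a → Etale a →
      ConnectedSpace C → ConnectedSpace A → ConnectedSpace ↥(pullback (c ≫ pX) (a ≫ pY)))
    (hdom : ∀ (W : FEt.Cat (pullback pX pY)) [ConnectedSpace W.left],
      ∃ (X' : FEt.Cat X) (Y' : FEt.Cat Y) (φ : pullback (X'.hom ≫ pX) (Y'.hom ≫ pY) ⟶ W.left),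
        φ ≫ W.hom = pullback.map (X'.hom ≫ pX) (Y'.hom ≫ pY) pX pY X'.hom Y'.hom (𝟙 _)
          (Category.comp_id _) (Category.comp_id _) ∧ Surjective φ)
    (Z : FEt.Cat (pullback pX pY))
    (y y' : Spec (CommRingCat.of k) ⟶ Y) (hy : 𝟙 X ≫ pX = (pX ≫ y) ≫ pY) (hy' : 𝟙 X ≫ pX = (pX ≫ y') ≫ pY) :
    Nonempty ((FEt.restrict (jmap pX pY y hy)).obj Z ≅ (FEt.restrict (jmap pX pY y' hy')).obj Z) := by
  let z : Z.left ⟶ pullback pX pY := Z.hom
  haveI : IsFinite z := Z.prop.1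
  haveI : Etale z := Z.prop.2
  haveI : IsLocallyNoetherian Z.left := LocallyOfFiniteType.isLocallyNoetherian z
  obtain ⟨p₀⟩ := (inferInstance : Nonempty ↥(pullback pX pY))
  haveI : Finite ↥(z ⁻¹' {p₀}) := (z.finite_preimage_singleton p₀).to_subtype
  letI : Fintype ↥(z ⁻¹' {p₀}) := Fintype.ofFinite _
  let Wv : ↥(z ⁻¹' {p₀}) → FEt.Cat (pullback pX pY) := fun v =>
    MorphismProperty.Over.mk ⊤ ((comp (v : Z.left)).ι ≫ z) ⟨inferInstance, inferInstance⟩
  haveI : ∀ v, ConnectedSpace (Wv v).left := fun v => inferInstanceAs (ConnectedSpace (comp (v : Z.left)).toScheme)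
  choose X' Y' φ hφ hφs using fun v => hdom (Wv v)
  haveI : ∀ v, IsFinite (Y' v).hom := fun v => (Y' v).prop.1
  haveI : ∀ v, Etale (Y' v).hom := fun v => (Y' v).prop.2
  obtain ⟨A, a, hA, _, _, hsplit⟩ := exists_split fun v => (show (Y' v).left ⟶ Y from (Y' v).hom)
  haveI := hA
  let M : pullback pX (a ≫ pY) ⟶ pullback pX pY :=
    pullback.lift (pullback.fst _ _) (pullback.snd _ _ ≫ a) (by rw [Category.assoc]; exact pullback.condition)
  have hM : IsPullback (pullback.snd pX (a ≫ pY)) M a (pullback.snd pX pY) := by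
    refine IsPullback.of_bot ?_ (pullback.lift_snd _ _ _).symm (IsPullback.of_hasPullback pX pY).flip
    rw [pullback.lift_fst]
    exact (IsPullback.of_hasPullback pX (a ≫ pY)).flip
  let ZA := (FEt.restrict M).obj Z
  have hZA : Dom pX (a ≫ pY) ZA.hom := by
    intro w
    let w₀ : Z.left := pullback.fst z M w
    obtain ⟨v₁, hv₁, hzv⟩ : ∃ v₁ ∈ connectedComponent w₀, z v₁ = p₀ := by
      haveI : IsFinite ((comp w₀).ι ≫ z) := inferInstance
      haveI : Etale ((comp w₀).ι ≫ z) := inferInstance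
      have hc : IsClopen (Set.range ((comp w₀).ι ≫ z)) :=
        ⟨((comp w₀).ι ≫ z).isClosedMap.isClosed_range, ((comp w₀).ι ≫ z).isOpenMap.isOpen_range⟩
      obtain ⟨q, hq⟩ : p₀ ∈ Set.range ((comp w₀).ι ≫ z) := by rw [hc.eq_univ (Set.range_nonempty _)]; trivial
      exact ⟨q.1, q.2, hq⟩
    let v : ↥(z ⁻¹' {p₀}) := ⟨v₁, hzv⟩
    haveI := hφs v
    have hw : w₀ ∈ (comp (v : Z.left) : Set Z.left) := by
      show w₀ ∈ connectedComponent v₁
      rw [← connectedComponent_eq hv₁]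
      exact mem_connectedComponent
    obtain ⟨x, hx⟩ := (φ v).surjective (⟨w₀, hw⟩ : (comp (v : Z.left)).toScheme)
    let xc : (X' v).left ⟶ X := (X' v).hom
    let yc : (Y' v).left ⟶ Y := (Y' v).hom
    haveI : IsFinite xc := (X' v).prop.1
    haveI : Etale xc := (X' v).prop.2
    haveI := LocallyOfFiniteType.isLocallyNoetherian xc
    let E := pullback (xc ≫ pX) (pullback.snd yc a ≫ a ≫ pY)
    let M'' : E ⟶ pullback (xc ≫ pX) (yc ≫ pY) := pullback.lift (pullback.fst _ _) (pullback.snd _ _ ≫ pullback.fst yc a) (by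
      rw [Category.assoc, pullback.condition_assoc]; exact pullback.condition)
    let χ : E ⟶ pullback pX (a ≫ pY) := pullback.lift (pullback.fst _ _ ≫ xc) (pullback.snd _ _ ≫ pullback.snd yc a) (by
      simpa only [Category.assoc] using pullback.condition (f := xc ≫ pX) (g := pullback.snd yc a ≫ a ≫ pY))
    let G : pullback (xc ≫ pX) (yc ≫ pY) ⟶ Z.left := φ v ≫ (comp (v : Z.left)).ι
    have hG : G ≫ z = pullback.map (xc ≫ pX) (yc ≫ pY) pX pY xc yc (𝟙 _) (Category.comp_id _) (Category.comp_id _) :=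
      (Category.assoc _ _ _).trans (hφ v)
    have hM'' : IsPullback (pullback.snd (xc ≫ pX) (pullback.snd yc a ≫ a ≫ pY)) M'' (pullback.fst yc a)
        (pullback.snd (xc ≫ pX) (yc ≫ pY)) := by
      refine IsPullback.of_bot ?_ (pullback.lift_snd _ _ _).symm (IsPullback.of_hasPullback (xc ≫ pX) (yc ≫ pY)).flip
      rw [pullback.lift_fst, pullback.condition_assoc]
      exact (IsPullback.of_hasPullback (xc ≫ pX) _).flip
    have hχ : IsPullback χ M'' M (G ≫ z) := by
      refine IsPullback.of_right ?_ ?_ hM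
      · rw [pullback.lift_snd, hG, pullback.lift_snd]
        exact hM''.paste_horiz (IsPullback.of_hasPullback yc a).flip
      · rw [hG]
        apply pullback.hom_ext <;> simp [χ, M, M'', pullback.condition]
    let Φ : E ⟶ pullback z M := pullback.lift (M'' ≫ G) χ (by rw [Category.assoc]; exact hχ.w.symm)
    have hΦ : IsPullback Φ M'' (pullback.fst z M) G := by
      refine IsPullback.of_right ?_ (pullback.lift_fst _ _ _) (IsPullback.of_hasPullback z M).flip
      rw [pullback.lift_snd]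
      exact hχ
    obtain ⟨p, hp, -⟩ := Scheme.exists_preimage_of_isPullback hΦ w x (by
      show w₀ = G x
      rw [Scheme.Hom.comp_apply, hx]
      rfl)
    obtain ⟨σ, hσ⟩ := hsplit v (pullback.snd (xc ≫ pX) (pullback.snd yc a ≫ a ≫ pY) p)
    obtain ⟨t, ht⟩ := hσ
    let N₁ : pullback (xc ≫ pX) (a ≫ pY) ⟶ E := pullback.lift (pullback.fst _ _) (pullback.snd _ _ ≫ σ.1) (by
      rw [Category.assoc, reassoc_of% σ.2]; exact pullback.condition)
    have hN₁ : IsPullback N₁ (pullback.snd (xc ≫ pX) (a ≫ pY))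
        (pullback.snd (xc ≫ pX) (pullback.snd yc a ≫ a ≫ pY)) σ.1 := by
      refine IsPullback.flip (IsPullback.of_bot ?_ (pullback.lift_snd _ _ _).symm
        (IsPullback.of_hasPullback (xc ≫ pX) (pullback.snd yc a ≫ a ≫ pY)).flip)
      rw [pullback.lift_fst, reassoc_of% σ.2]
      exact (IsPullback.of_hasPullback (xc ≫ pX) (a ≫ pY)).flip
    obtain ⟨p₁, hp₁, -⟩ := Scheme.exists_preimage_of_isPullback hN₁ p t ht.symm
    let D := comp (pullback.fst (xc ≫ pX) (a ≫ pY) p₁)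
    let N₂ : pullback ((D.ι ≫ xc) ≫ pX) (a ≫ pY) ⟶ pullback (xc ≫ pX) (a ≫ pY) :=
      pullback.lift (pullback.fst _ _ ≫ D.ι) (pullback.snd _ _) (by
        simpa only [Category.assoc] using pullback.condition (f := (D.ι ≫ xc) ≫ pX) (g := a ≫ pY))
    have hN₂ : IsPullback N₂ (pullback.fst ((D.ι ≫ xc) ≫ pX) (a ≫ pY)) (pullback.fst (xc ≫ pX) (a ≫ pY)) D.ι := by
      refine IsPullback.flip (IsPullback.of_bot ?_ (pullback.lift_fst _ _ _).symm (IsPullback.of_hasPullback (xc ≫ pX) (a ≫ pY)))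
      rw [pullback.lift_snd]
      simpa using IsPullback.of_hasPullback ((D.ι ≫ xc) ≫ pX) (a ≫ pY)
    obtain ⟨p₂, hp₂, -⟩ := Scheme.exists_preimage_of_isPullback hN₂ p₁
      (⟨_, mem_connectedComponent⟩ : D.toScheme) rfl
    refine ⟨D.toScheme, D.ι ≫ xc, N₂ ≫ N₁ ≫ Φ, inferInstance, inferInstance,
      inferInstanceAs (ConnectedSpace (comp _).toScheme), ?_, p₂, ?_⟩
    · show (N₂ ≫ N₁ ≫ Φ) ≫ pullback.snd z M = _
      simp only [Category.assoc, Φ, pullback.lift_snd]
      apply pullback.hom_ext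
      · simp [χ, N₁, N₂, cmap]
      · simp only [χ, N₁, N₂, cmap, Category.assoc, pullback.lift_snd, pullback.lift_snd_assoc]
        erw [σ.2]
        exact Category.comp_id _
    · rw [Scheme.Hom.comp_apply, hp₂, Scheme.Hom.comp_apply, hp₁]
      exact hp
  have hlift : ∀ y₁ : Spec (CommRingCat.of k) ⟶ Y, ∀ hy₁ : 𝟙 X ≫ pX = (pX ≫ y₁) ≫ pY,
      ∃ (b : Spec (CommRingCat.of k) ⟶ A) (hb : b ≫ a ≫ pY = 𝟙 _), sec pX (a ≫ pY) b hb ≫ M = jmap pX pY y₁ hy₁ := by
    intro y₁ hy₁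
    haveI : Nonempty ↥(pullback a y₁) := by
      obtain ⟨x₀⟩ := (inferInstance : Nonempty A)
      obtain ⟨s₀⟩ := (inferInstance : Nonempty ↥(Spec (CommRingCat.of k)))
      have hc : IsClopen (Set.range a) := ⟨a.isClosedMap.isClosed_range, a.isOpenMap.isOpen_range⟩
      obtain ⟨t, ht⟩ : y₁ s₀ ∈ Set.range a := by rw [hc.eq_univ ⟨_, x₀, rfl⟩]; trivial
      obtain ⟨q, -, -⟩ := Scheme.Pullback.exists_preimage_pullback (f := a) (g := y₁) t s₀ ht
      exact ⟨q⟩
    obtain ⟨b₀, hb₀⟩ := FEtStein.exists_section_sepClosed (pullback.snd a y₁)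
    have hba : (b₀ ≫ pullback.fst a y₁) ≫ a = y₁ := by
      rw [Category.assoc, pullback.condition, reassoc_of% hb₀]
    refine ⟨b₀ ≫ pullback.fst a y₁, by rw [← Category.assoc, hba, eq_id_of_nonempty pX pY y₁ hy₁], ?_⟩
    apply pullback.hom_ext
    · simp [M, sec, jmap]
    · simp only [M, sec, jmap, Category.assoc, pullback.lift_snd, pullback.lift_snd_assoc]
      rw [← Category.assoc b₀] 
      simpa using congrArg (pX ≫ ·) hba
  obtain ⟨b, hb, hj⟩ := hlift y hy
  obtain ⟨b', hb', hj'⟩ := hlift y' hy'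
  obtain ⟨N, ⟨e⟩⟩ := exists_iso_const pX (a ≫ pY) b hb (fun C c h1 h2 h3 => hK C A c a h1 h2 inferInstance inferInstance h3 hA) ZA hZA
  let R := fun (b : Spec (CommRingCat.of k) ⟶ A) (hb : b ≫ a ≫ pY = 𝟙 _) (j : X ⟶ pullback pX pY)
      (hj : sec pX (a ≫ pY) b hb ≫ M = j) =>
    (FEtStein.restrictCompIso (sec pX (a ≫ pY) b hb) M j hj).app Z ≪≫
      (FEt.restrict (sec pX (a ≫ pY) b hb)).mapIso e ≪≫
      ((FEtStein.restrictCompIso (sec pX (a ≫ pY) b hb) (pullback.fst pX (a ≫ pY)) (𝟙 X) (pullback.lift_fst _ _ _)).app N).symm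
  exact ⟨R b hb _ hj ≪≫ (R b' hb' _ hj').symm⟩

end Groth.Agent.Purity10.KunnethConst
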