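import Groth.Agent.Purity10.PowerSeriesCore
import Groth.Agent.CAlgH3.FlatDepth

/-! # Purity for power series rings in several variables over a local ring of depth at least two -/

set_option autoImplicit false
universe u

open IsLocalRing

namespace Groth.Agent.Purity10

variable {A : Type u} [CommRing A] [IsNoetherianRing A] [IsLocalRing A]

theorem depth_le_depth_mvPowerSeries (n : ℕ) :
    _root_.LocCoh.depth A A ≤ _root_.LocCoh.depth (MvPowerSeries (Fin n) A) (MvPowerSeries (Fin n) A) := by
  haveI : Module.Flat A (MvPowerSeries (Fin n) A) := CommAlg6.flat_mvPowerSeries (Fin n) A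
  haveI : IsLocalHom (algebraMap A (MvPowerSeries (Fin n) A)) := ⟨fun a ha => by
    have := ha.map (MvPowerSeries.constantCoeff (σ := Fin n) (R := A))
    simpa [MvPowerSeries.algebraMap_apply] using this⟩
  exact le_self_add.trans (CAlgH3.depth_add_depth_fibre_le_self (A := A) (B := MvPowerSeries (Fin n) A))

theorem purityHolds_mvPowerSeries (hA : (2 : ℕ∞) ≤ _root_.LocCoh.depth A A) (n : ℕ) :
    FEt.PurityHolds (MvPowerSeries (Fin (n + 1)) A) :=
  FEtFF.PurityTransfer.purityHolds_of_ringEquiv (MvPowerSeries.finSuccEquiv A n).toRingEquiv.symm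
    (purityHolds_powerSeries (hA.trans (depth_le_depth_mvPowerSeries n)))

end Groth.Agent.Purity10
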