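import Groth.Agent.Purity10.Descend
import Groth.Agent.Lef23.NhdDualizing
import Groth.Agent.CAlgH.PicPunctHyp
import Groth.Agent.CAlgH.PowerSeriesEval
import Groth.Agent.CommAlg6.PowerSeriesBase
import Groth.Agent.CAlgH3.Depth
import Groth.Agent.S0261
import Mathlib.RingTheory.Ideal.KrullsHeightTheorem

/-!
# Purity for power series rings in one variable over a local ring of depth at least two

A cover of the punctured spectrum of `R⟦X⟧` agrees near `X = 0` with the pullback of its restriction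
`Y₀` to the punctured spectrum of `R`. Since it is defined at a prime `P` lying minimally over the
maximal ideal of `R`, this restriction extends after the faithfully flat base change to the local
ring at `P`, hence extends, and so does the cover.
-/

set_option autoImplicit false
set_option linter.style.haveILetI false
set_option backward.isDefEq.respectTransparency.types false
set_option backward.isDefEq.respectTransparency false
universe u

open CategoryTheory CategoryTheory.Limits AlgebraicGeometry TopologicalSpace IsLocalRing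

noncomputable section

namespace Groth.Agent.Purity10

variable {R : Type u} [CommRing R] [IsLocalRing R]

theorem constantCoeff_comp_C : (PowerSeries.constantCoeff (R := R)).comp (PowerSeries.C (R := R)) = RingHom.id R :=
  RingHom.ext fun r => PowerSeries.constantCoeff_C r

theorem ker_constantCoeff :
    RingHom.ker (PowerSeries.constantCoeff (R := R)) = Ideal.span {(PowerSeries.X : PowerSeries R)} := by
  ext f; rw [RingHom.mem_ker, Ideal.mem_span_singleton, PowerSeries.X_dvd_iff]

instance isLocalHom_C : IsLocalHom (PowerSeries.C (R := R)) :=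
  ⟨fun r hr => by simpa using hr.map (PowerSeries.constantCoeff (R := R))⟩

theorem mem_maximalIdeal_powerSeries (f : PowerSeries R) :
    f ∈ maximalIdeal (PowerSeries R) ↔ PowerSeries.constantCoeff f ∈ maximalIdeal R := by
  rw [mem_maximalIdeal, mem_maximalIdeal, mem_nonunits_iff, mem_nonunits_iff, PowerSeries.isUnit_iff_constantCoeff]

/-- A prime minimally over the maximal ideal of the base and avoiding the variable. -/
theorem exists_prime_X_notMem : ∃ P : Ideal (PowerSeries R),
    P ∈ ((maximalIdeal R).map (PowerSeries.C (R := R))).minimalPrimes ∧ (PowerSeries.X : PowerSeries R) ∉ P := by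
  let ψ := PowerSeries.map (residue R)
  haveI : (RingHom.ker ψ).IsPrime := RingHom.ker_isPrime ψ
  have hle : (maximalIdeal R).map (PowerSeries.C (R := R)) ≤ RingHom.ker ψ := by
    rw [Ideal.map_le_iff_le_comap]
    intro r hr
    rw [Ideal.mem_comap, RingHom.mem_ker, PowerSeries.map_C, (residue_eq_zero_iff r).2 hr, map_zero]
  obtain ⟨P, hP, hPle⟩ := Ideal.exists_minimalPrimes_le hle
  refine ⟨P, hP, fun h => ?_⟩
  have h0 := RingHom.mem_ker.1 (hPle h)
  rw [PowerSeries.map_X] at h0
  exact PowerSeries.X_ne_zero h0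

variable [IsNoetherianRing R]

/-- Below a non-maximal prime not containing `X`, a non-maximal prime containing `X` lies above every prime. -/
theorem exists_prime_containing {B : Type u} [CommRing B] [IsNoetherianRing B] [IsLocalRing B] {x : B}
    (hx : x ∈ maximalIdeal B) (q P : Ideal B) [q.IsPrime] [P.IsPrime] (hqP : q < P) (hP : P ≠ maximalIdeal B) :
    ∃ r : Ideal B, r.IsPrime ∧ q ≤ r ∧ x ∈ r ∧ r ≠ maximalIdeal B := by
  by_contra hcon
  push Not at hcon
  let D := B ⧸ q
  let π := Ideal.Quotient.mk q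
  haveI hM : ((maximalIdeal B).map π).IsPrime :=
    Ideal.map_isPrime_of_surjective Ideal.Quotient.mk_surjective (by
      rw [Ideal.mk_ker]; exact le_maximalIdeal (Ideal.IsPrime.ne_top ‹q.IsPrime›))
  haveI hP' : (P.map π).IsPrime := Ideal.map_isPrime_of_surjective Ideal.Quotient.mk_surjective (by
      rw [Ideal.mk_ker]; exact hqP.le)
  have hcomap : ∀ J : Ideal B, q ≤ J → (J.map π).comap π = J := fun J hJ => by
    rw [Ideal.comap_map_of_surjective π Ideal.Quotient.mk_surjective, ← RingHom.ker_eq_comap_bot, Ideal.mk_ker,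
      sup_eq_left.2 hJ]
  have hmin : (maximalIdeal B).map π ∈ (Ideal.span {π x}).minimalPrimes := by
    refine ⟨⟨hM, (Ideal.span_singleton_le_iff_mem _).2 (Ideal.mem_map_of_mem _ hx)⟩, fun J hJ _ => ?_⟩
    haveI := hJ.1
    have h1 : q ≤ J.comap π := fun b hb => by
      rw [Ideal.mem_comap, Ideal.Quotient.eq_zero_iff_mem.2 hb]; exact zero_mem _
    have h2 : x ∈ J.comap π := hJ.2 (Ideal.mem_span_singleton_self _)
    have h3 := hcon (J.comap π) inferInstance h1 h2
    rw [← h3]
    exact Ideal.map_comap_le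
  have hh := Ideal.height_le_one_of_isPrincipal_of_mem_minimalPrimes (Ideal.span {π x}) _ hmin
  have hlt1 : (⊥ : Ideal D) < P.map π := bot_lt_iff_ne_bot.2 fun e => hqP.ne (by
    have := hcomap P hqP.le
    rw [e, ← RingHom.ker_eq_comap_bot, Ideal.mk_ker] at this
    exact this)
  have hlt2 : P.map π < (maximalIdeal B).map π :=
    lt_of_le_of_ne (Ideal.map_mono (le_maximalIdeal (Ideal.IsPrime.ne_top ‹P.IsPrime›))) fun e => hP (by
      rw [← hcomap P hqP.le, e, hcomap _ (le_maximalIdeal (Ideal.IsPrime.ne_top ‹q.IsPrime›))])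
  haveI : IsDomain D := Ideal.Quotient.isDomain q
  haveI : (⊥ : Ideal D).IsPrime := Ideal.isPrime_bot
  have a1 : 1 ≤ (P.map π).height := le_trans le_add_self (Ideal.height_add_one_le_of_lt_of_isPrime hlt1)
  have b := (Ideal.height_add_one_le_of_lt_of_isPrime hlt2).trans hh
  exact absurd ((add_le_add_left a1 1).trans b) (by norm_num)

/-- Purity for one power series variable over a local ring of depth at least two. -/
theorem purityHolds_powerSeries (hR : (2 : ℕ∞) ≤ _root_.LocCoh.depth R R) :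
    FEt.PurityHolds (PowerSeries R) := by
  let B := PowerSeries R
  let x : B := PowerSeries.X
  have hxM : x ∈ maximalIdeal B := (mem_maximalIdeal_powerSeries _).2 (by simp [x])
  have hnz : ∀ b : B, x * b = 0 → b = 0 := fun b hb => PowerSeries.ext fun n => by
    have := congrArg (PowerSeries.coeff (n + 1)) hb
    rw [PowerSeries.coeff_succ_X_mul] at this
    simpa using this
  haveI hcompl : IsAdicComplete (Ideal.span {x}) B := by
    have := CAlgH.isAdicComplete_mvPowerSeries Unit R
    rwa [Set.range_unique] at this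
  haveI : Nontrivial (B ⧸ Ideal.span {x}) := Ideal.Quotient.nontrivial_iff.2 fun e =>
    (maximalIdeal.isMaximal B).ne_top (top_le_iff.1 (e ▸ (Ideal.span_singleton_le_iff_mem _).2 hxM))
  haveI : IsLocalRing (B ⧸ Ideal.span {x}) := .of_surjective' _ Ideal.Quotient.mk_surjective
  let eR : B ⧸ Ideal.span {x} ≃+* R :=
    (Ideal.quotEquivOfEq ker_constantCoeff.symm).trans
      (RingHom.quotientKerEquivOfSurjective PowerSeries.constantCoeff_surj)
  have hd2 : (2 : ℕ∞) ≤ _root_.LocCoh.depth B (B ⧸ Ideal.span {x}) := by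
    rw [← CAlgH3.depth_quotient_ring, CAlgH3.depth_ringEquiv eR]
    exact hR
  have hd3 : (3 : ℕ∞) ≤ _root_.LocCoh.depth B B := by
    rw [← CAlgH3.depth_quotSMulTop_add_one hxM (isSMulRegular_iff_right_eq_zero_of_smul.2 hnz)]
    have e : QuotSMulTop x B ≃ₗ[B] B ⧸ Ideal.span {x} := Submodule.quotEquivOfEq _ _ (by
      rw [← Submodule.ideal_span_singleton_smul, Ideal.smul_eq_mul, Ideal.mul_top])
    rw [CAlgH3.depth_congr e]
    exact le_trans (show (3 : ℕ∞) ≤ 2 + 1 by norm_num) (by gcongr)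
  -- the maps
  let π : Spec (CommRingCat.of B) ⟶ Spec (CommRingCat.of R) := Spec.map (CommRingCat.ofHom (PowerSeries.C (R := R)))
  let σ : Spec (CommRingCat.of R) ⟶ Spec (CommRingCat.of B) :=
    Spec.map (CommRingCat.ofHom (PowerSeries.constantCoeff (R := R)))
  haveI : IsClosedImmersion σ := IsClosedImmersion.spec_of_surjective _ PowerSeries.constantCoeff_surj
  have hσπ : σ ≫ π = 𝟙 _ := by
    rw [← Spec.map_comp, ← CommRingCat.ofHom_comp, constantCoeff_comp_C]
    exact Spec.map_id _
  let UR := FEt.puncturedSpec R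
  let UB := FEt.puncturedSpec B
  let V' := π ⁻¹ᵁ UR
  have hπM : π (closedPoint B) = closedPoint R := comap_closedPoint (PowerSeries.C (R := R))
  have hV'UB : V' ≤ UB := fun p hp e => hp (by rw [Set.mem_singleton_iff.1 e]; exact hπM)
  have hk : Set.range (UR.ι ≫ σ) ⊆ Set.range V'.ι := by
    rw [Scheme.Opens.range_ι]
    rintro _ ⟨p, rfl⟩
    show π ((UR.ι ≫ σ) p) ∈ UR
    rw [← Scheme.Hom.comp_apply, Category.assoc, hσπ, Category.comp_id]
    exact p.2
  let k : (UR : Scheme.{u}) ⟶ V' := IsOpenImmersion.lift V'.ι (UR.ι ≫ σ) hk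
  have hkι : k ≫ V'.ι = UR.ι ≫ σ := IsOpenImmersion.lift_fac _ _ _
  haveI : IsPreimmersion (k ≫ V'.ι) := by rw [hkι]; infer_instance
  haveI : IsPreimmersion k := IsPreimmersion.of_comp k V'.ι
  have hrσ : ∀ p : PrimeSpectrum B, x ∈ p.asIdeal → ∃ r : PrimeSpectrum R, σ r = p := fun p hp => by
    have : p ∈ Set.range (PrimeSpectrum.comap (PowerSeries.constantCoeff (R := R))) := by
      rw [range_comap_of_surjective _ _ PowerSeries.constantCoeff_surj, ker_constantCoeff,
        PrimeSpectrum.zeroLocus_span, PrimeSpectrum.mem_zeroLocus, Set.singleton_subset_iff]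
      exact hp
    exact this
  have hV'X : ∀ p : PrimeSpectrum B, p ≠ closedPoint B → x ∈ p.asIdeal → p ∈ V' := fun p hp hx h => hp (by
    obtain ⟨r, rfl⟩ := hrσ p hx
    have h' : π (σ r) = r := by rw [← Scheme.Hom.comp_apply, hσπ]; rfl
    rw [show r = closedPoint R from h'.symm.trans h]
    haveI : IsLocalHom (PowerSeries.constantCoeff (R := R)) := IsLocalHom.of_surjective _ PowerSeries.constantCoeff_surj
    exact comap_closedPoint (PowerSeries.constantCoeff (R := R)))
  have hclosed : ∀ p : PrimeSpectrum B, maximalIdeal B ≤ p.asIdeal → p = closedPoint B := fun p h =>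
    PrimeSpectrum.ext (le_antisymm (le_maximalIdeal p.2.ne_top) h)
  have hrk : Set.range k = {p | x ∈ (V'.ι p).asIdeal} := Set.ext fun p => by
    constructor
    · rintro ⟨r, rfl⟩
      show x ∈ (V'.ι (k r)).asIdeal
      rw [← Scheme.Hom.comp_apply, hkι]
      show PowerSeries.constantCoeff x ∈ (UR.ι r).asIdeal
      simp [x]
    · intro hp
      obtain ⟨r, hr⟩ := hrσ _ hp
      have hrU : r ∈ UR := fun e => p.2 (show π (V'.ι p) = closedPoint R by
        rw [← hr, ← Scheme.Hom.comp_apply, hσπ]; exact e)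
      refine ⟨⟨r, hrU⟩, V'.ι.injective ?_⟩
      rw [← Scheme.Hom.comp_apply, hkι, Scheme.Hom.comp_apply]
      exact hr
  -- clopen subsets lift near `X = 0`
  have h1 : Module.Finite B (_root_.LocCoh.H (maximalIdeal B) 1 (ModuleCat.of B (B ⧸ Ideal.span ({x} : Set B)))) := by
    haveI : Subsingleton (_root_.LocCoh.H (maximalIdeal B) 1 (ModuleCat.of B (B ⧸ Ideal.span ({x} : Set B)))) :=
      (LocCoh.natCast_le_idealDepth_iff_H (I := maximalIdeal B) (M := B ⧸ Ideal.span ({x} : Set B)) (n := 2)).1 hd2 1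
        one_lt_two
    infer_instance
  have hN : Lef23.NhdDescent.Lifts k :=
    Lef23.NhdDualizing.lifts_open (R := CommRingCat.of B) x hnz (maximalIdeal B) h1 V'
      (fun p hp h => hV'UB hp (hclosed p h)) (fun p hp hx => hV'X p (fun e => hp (by rw [e]; exact le_rfl)) hx) k hrk
  refine ⟨fun V => ?_⟩
  -- the restriction to the punctured spectrum of `R`
  let s : (UR : Scheme.{u}) ⟶ UB := k ≫ (Spec (CommRingCat.of B)).homOfLE hV'UB
  let Y₀ : FEt.Cat (UR : Scheme.{u}) := (FEt.restrict s).obj V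
  let πV : (V' : Scheme.{u}) ⟶ UR := π ∣_ UR
  have hkπ : k ≫ πV = 𝟙 _ := by
    rw [← cancel_mono UR.ι, Category.assoc, morphismRestrict_ι, reassoc_of% hkι, hσπ, Category.comp_id,
      Category.id_comp]
  let φ : (FEt.restrict k).obj ((FEt.restrict ((Spec (CommRingCat.of B)).homOfLE hV'UB)).obj V) ≅
      (FEt.restrict k).obj ((FEt.restrict πV).obj Y₀) :=
    resComp k _ s rfl V ≪≫
      (resComp (k ≫ πV) s s (by rw [hkπ, Category.id_comp]) V).symm ≪≫ (resComp k πV _ rfl Y₀).symm
  obtain ⟨W, j, _, hjk, ⟨ψ⟩⟩ := exists_iso_nhd k hN φ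
  -- the local ring at `P`
  obtain ⟨P, hP, hxP⟩ := exists_prime_X_notMem (R := R)
  haveI : P.IsPrime := hP.1.1
  have hPM : P ≠ maximalIdeal B := fun e => hxP (e ▸ hxM)
  have hC : algebraMap R B = PowerSeries.C (R := R) := RingHom.ext fun r => rfl
  let BP := Localization.AtPrime P
  haveI : Module.Flat R B := CommAlg6.flat_mvPowerSeries Unit R
  haveI : Module.Flat B BP := IsLocalization.flat _ P.primeCompl
  haveI : Module.Flat R BP := Module.Flat.trans R B BP
  have hPR : P.comap (algebraMap R B) = maximalIdeal R := le_antisymm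
    (le_maximalIdeal (Ideal.comap_ne_top _ (Ideal.IsPrime.ne_top inferInstance)))
    (Ideal.map_le_iff_le_comap.1 (hC.symm ▸ hP.1.2))
  haveI : IsLocalHom (algebraMap R BP) := by
    refine ((IsLocalRing.local_hom_TFAE (algebraMap R BP)).out 2 0).1 ?_
    rw [IsScalarTower.algebraMap_eq R B BP]
    rw [← Ideal.map_map, ← IsLocalization.AtPrime.map_eq_maximalIdeal P BP]
    exact Ideal.map_mono (Ideal.map_le_iff_le_comap.2 hPR.ge)
  haveI : Module.FaithfullyFlat R BP := Module.FaithfullyFlat.of_flat_of_isLocalHom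
  have hrad : maximalIdeal BP ≤ ((maximalIdeal R).map (algebraMap R BP)).radical := by
    rw [Ideal.radical_eq_sInf]
    refine le_sInf fun Q hQ => ?_
    haveI := hQ.2
    have h2 : Q.comap (algebraMap B BP) ≤ P := fun b hb =>
      (IsLocalization.AtPrime.to_map_mem_maximal_iff BP P b).1 (le_maximalIdeal hQ.2.ne_top hb)
    have h3 : (maximalIdeal R).map (algebraMap R B) ≤ Q.comap (algebraMap B BP) := by
      rw [← Ideal.map_le_iff_le_comap, Ideal.map_map, ← IsScalarTower.algebraMap_eq]; exact hQ.1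
    have h4 : P ≤ Q.comap (algebraMap B BP) := hP.2 ⟨inferInstance, hC ▸ h3⟩ h2
    rw [← IsLocalization.AtPrime.map_eq_maximalIdeal P BP]
    exact Ideal.map_le_iff_le_comap.2 h4
  obtain ⟨kP, HP⟩ := FEtFF.PurityTransfer.exists_punctured_square (algebraMap R BP) hrad
  let UP := FEt.puncturedSpec BP
  let ρ : Spec (CommRingCat.of BP) ⟶ Spec (CommRingCat.of B) := Spec.map (CommRingCat.ofHom (algebraMap B BP))
  have hρP : ∀ p : PrimeSpectrum BP, (ρ p).asIdeal ≤ P := fun p b hb =>
    (IsLocalization.AtPrime.to_map_mem_maximal_iff BP P b).1 (le_maximalIdeal p.2.ne_top hb)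
  have hg : Set.range ρ ⊆ Set.range UB.ι := by
    rw [Scheme.Opens.range_ι]
    rintro _ ⟨p, rfl⟩ e
    refine hPM (le_antisymm (le_maximalIdeal (Ideal.IsPrime.ne_top ‹P.IsPrime›)) ?_)
    have := hρP p
    rw [Set.mem_singleton_iff.1 e] at this
    exact this
  let g : Spec (CommRingCat.of BP) ⟶ UB := IsOpenImmersion.lift UB.ι ρ hg
  have hgι : g ≫ UB.ι = ρ := IsOpenImmersion.lift_fac _ _ _
  have hρπ : ρ ≫ π = Spec.map (CommRingCat.ofHom (algebraMap R BP)) := by
    rw [← Spec.map_comp, ← CommRingCat.ofHom_comp, ← hC, ← IsScalarTower.algebraMap_eq]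
  -- punctured `Spec B_P` lands in the neighbourhood
  have ht : Set.range (UP.ι ≫ ρ) ⊆ Set.range (j ≫ V'.ι) := by
    rintro _ ⟨p, rfl⟩
    let q : PrimeSpectrum B := (UP.ι ≫ ρ) p
    have hqR : π q ≠ closedPoint R := by
      have h : (UP.ι ≫ ρ ≫ π) p = (kP ≫ UR.ι) p := by rw [hρπ, HP.w]
      intro e
      rw [Scheme.Hom.comp_apply, Scheme.Hom.comp_apply] at h
      exact (kP p).2 ((h.symm.trans (by rw [← Scheme.Hom.comp_apply, Category.assoc] at e; exact e)) : UR.ι (kP p) = _)
    have hqV : q ∈ V' := hqR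
    have hqP : q.asIdeal < P := lt_of_le_of_ne (hρP _) fun e => hqR (PrimeSpectrum.ext (by
      show q.asIdeal.comap (PowerSeries.C (R := R)) = maximalIdeal R
      rw [← hC]
      rw [e, hPR]))
    obtain ⟨r, hr, hqr, hxr, hrM⟩ := exists_prime_containing hxM q.asIdeal P hqP hPM
    have hrV : (⟨r, hr⟩ : PrimeSpectrum B) ∈ V' := hV'X _ (fun e => hrM (congrArg PrimeSpectrum.asIdeal e)) hxr
    obtain ⟨w, hw⟩ : ⟨⟨r, hr⟩, hrV⟩ ∈ Set.range j := hjk (hrk.ge hxr)
    have hspec : (⟨q, hqV⟩ : (V' : Scheme.{u})) ⤳ ⟨⟨r, hr⟩, hrV⟩ :=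
      (V'.ι.isEmbedding.isInducing.specializes_iff).1 ((PrimeSpectrum.le_iff_specializes q ⟨r, hr⟩).1 hqr)
    obtain ⟨w', hw'⟩ := hspec.mem_open j.isOpenEmbedding.isOpen_range ⟨w, hw⟩
    exact ⟨w', by rw [Scheme.Hom.comp_apply, hw']; rfl⟩
  let t : (UP : Scheme.{u}) ⟶ W := IsOpenImmersion.lift (j ≫ V'.ι) (UP.ι ≫ ρ) ht
  have htι : t ≫ j ≫ V'.ι = UP.ι ≫ ρ := IsOpenImmersion.lift_fac _ _ _
  have htπ : (t ≫ j) ≫ πV = kP := by
    rw [← cancel_mono UR.ι, Category.assoc, morphismRestrict_ι, Category.assoc, reassoc_of% htι, hρπ, HP.w]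
  have htB : (t ≫ j) ≫ (Spec (CommRingCat.of B)).homOfLE hV'UB = UP.ι ≫ g := by
    rw [← cancel_mono UB.ι, Category.assoc, Scheme.homOfLE_ι, Category.assoc, htι, Category.assoc, hgι]
  obtain ⟨Ybar, ⟨eYbar⟩⟩ := exists_extension_of_faithfullyFlat hR HP Y₀ ((FEt.restrict g).obj V)
    ((resComp (t ≫ j) πV kP htπ Y₀).symm ≪≫ (resComp t j _ rfl _).symm ≪≫ (FEt.restrict t).mapIso ψ.symm ≪≫
      resComp t j _ rfl _ ≪≫ resSquare (t ≫ j) _ UP.ι g htB V)
  -- extension from the hypersurface
  let q := Spec.map (CommRingCat.ofHom (Ideal.Quotient.mk (Ideal.span ({x} : Set B))))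
  let ρ₀ : Spec (CommRingCat.of (B ⧸ Ideal.span ({x} : Set B))) ⟶ Spec (CommRingCat.of R) :=
    Spec.map (CommRingCat.ofHom eR.symm.toRingHom)
  have hρσ : ρ₀ ≫ σ = q := by
    rw [← Spec.map_comp, ← CommRingCat.ofHom_comp]
    congr 2
    exact RingHom.ext fun b => by
      show eR.symm (PowerSeries.constantCoeff b) = Ideal.Quotient.mk _ b
      rw [eR.symm_apply_eq]
      rfl
  let F := pullback.fst UB.ι q
  let S := pullback.snd UB.ι q
  have hqM : ∀ z : ↥(pullback UB.ι q), q (S z) ≠ closedPoint B := fun z e => (F z).2 (by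
    rw [← Scheme.Hom.comp_apply, ← pullback.condition, Scheme.Hom.comp_apply] at e
    exact e)
  have hθ : Set.range (S ≫ ρ₀) ⊆ Set.range UR.ι := by
    rw [Scheme.Opens.range_ι]
    rintro _ ⟨z, rfl⟩ e
    refine hqM z ((congrArg (fun f => f (S z)) hρσ).symm.trans ?_)
    show (ρ₀ ≫ σ) (S z) = _
    rw [Scheme.Hom.comp_apply, ← Scheme.Hom.comp_apply S, Set.mem_singleton_iff.1 e]
    haveI : IsLocalHom (PowerSeries.constantCoeff (R := R)) := IsLocalHom.of_surjective _ PowerSeries.constantCoeff_surj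
    exact comap_closedPoint (PowerSeries.constantCoeff (R := R))
  let θ : pullback UB.ι q ⟶ UR := IsOpenImmersion.lift UR.ι (S ≫ ρ₀) hθ
  have hθι : θ ≫ UR.ι = S ≫ ρ₀ := IsOpenImmersion.lift_fac _ _ _
  have hθs : θ ≫ s = F := by
    rw [← cancel_mono UB.ι, Category.assoc, Category.assoc, Scheme.homOfLE_ι, hkι, reassoc_of% hθι, hρσ]
    exact pullback.condition.symm
  obtain ⟨Y, hY⟩ := Groth.Agent.S0261.result B hd3 x hxM V ⟨(FEt.restrict ρ₀).obj Ybar,
    ⟨resSquare S ρ₀ θ UR.ι hθι.symm Ybar ≪≫ (FEt.restrict θ).mapIso eYbar ≪≫ resComp θ s F hθs V⟩⟩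
  exact ⟨Y, hY⟩

end Groth.Agent.Purity10
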