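import Groth.Agent.Et18.SeriesDiv
import Groth.Agent.CAlgH.PowerSeriesEval
import Groth.Agent.LocCoh.DepthLocal
import Groth.Agent.LocCoh.NonVanishing

/-!
# Regular pairs of power series with regular constant terms
-/

set_option autoImplicit false
set_option linter.style.haveILetI false

universe u

open MvPowerSeries Finsupp IsLocalRing RingTheory.Sequence

namespace Groth.Agent.Purity10.PSDepth

open Et18

variable {A : Type u} [CommRing A] {d : ℕ}

local notation "PS" => MvPowerSeries (Fin d) A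
local notation "JX" => RingHom.ker (MvPowerSeries.constantCoeff : MvPowerSeries (Fin d) A →+* A)

theorem mem_pow_iff {n : ℕ} {p : PS} : p ∈ JX ^ n ↔ OrdGE n p := by
  induction n generalizing p with
  | zero => simp [OrdGE]
  | succ n ih =>
    refine ⟨fun h => ?_, fun h => ?_⟩
    · rw [pow_succ] at h
      exact Submodule.mul_induction_on h
        (fun a ha b hb => (ih.1 ha).mul (ordGE_one_iff.2 (RingHom.mem_ker.1 hb))) fun a b ha hb => ha.add hb
    · rw [← sum_X_mul_divVar p (ordGE_one_iff.1 (h.mono (by omega))), pow_succ']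
      exact Ideal.sum_mem _ fun i _ => Ideal.mul_mem_mul (RingHom.mem_ker.2 (constantCoeff_X i)) (ih.2 (h.divVar i))

theorem ker_eq_span : JX = Ideal.span (Set.range (MvPowerSeries.X : Fin d → PS)) :=
  le_antisymm (fun p hp => by
    rw [← sum_X_mul_divVar p (RingHom.mem_ker.1 hp)]
    exact Ideal.sum_mem _ fun i _ => Ideal.mul_mem_right _ _ (Ideal.subset_span ⟨i, rfl⟩))
    (Ideal.span_le.2 fun _ ⟨i, hi⟩ => hi ▸ RingHom.mem_ker.2 (constantCoeff_X i))

theorem isAdicComplete_ker [IsNoetherianRing A] : IsAdicComplete JX PS := by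
  rw [ker_eq_span]
  exact CAlgH.isAdicComplete_mvPowerSeries (Fin d) A

theorem coeff_mul_of_ordGE {a x : PS} {n : ℕ} (hx : OrdGE n x) {m : Fin d →₀ ℕ} (hm : degree m ≤ n) :
    coeff m (a * x) = constantCoeff a * coeff m x := by
  classical
  rw [coeff_mul]
  refine (Finset.sum_eq_single ((0 : Fin d →₀ ℕ), m) (fun z hz hne => ?_) (fun h => absurd (by simp) h)).trans ?_
  · have hz : z.1 + z.2 = m := Finset.HasAntidiagonal.mem_antidiagonal.1 hz
    rcases lt_or_ge (degree z.2) n with h | h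
    · rw [hx _ h, mul_zero]
    · have hdeg : degree z.1 + degree z.2 = degree m := by rw [← map_add, hz]
      have h0 : z.1 = 0 := (Finsupp.degree_eq_zero_iff _).1 (by omega)
      rw [h0, zero_add] at hz
      exact absurd (Prod.ext h0 hz) hne
  · rw [coeff_zero_eq_constantCoeff_apply]

theorem ordGE_of_mul {a x : PS} (ha : ∀ c : A, constantCoeff a * c = 0 → c = 0) {n : ℕ}
    (h : OrdGE n (a * x)) : OrdGE n x := by
  induction n with
  | zero => exact fun m hm => absurd hm (Nat.not_lt_zero _)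
  | succ n ih =>
    have hx := ih (h.mono (by omega))
    intro m hm
    exact ha _ ((coeff_mul_of_ordGE hx (by omega)).symm.trans (h m hm))

/-- The second element is regular modulo the first, on every thickening. -/
theorem exists_approx {a b : PS} (ha : ∀ c : A, constantCoeff a * c = 0 → c = 0)
    (hab : ∀ x y : A, constantCoeff b * x = constantCoeff a * y → ∃ w, x = constantCoeff a * w)
    (n : ℕ) : ∀ x v : PS, OrdGE n (b * x - a * v) → ∃ u, OrdGE n (x - a * u) := by
  induction n with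
  | zero => exact fun x v _ => ⟨0, fun m hm => absurd hm (Nat.not_lt_zero _)⟩
  | succ n ih =>
    intro x v h
    obtain ⟨u, hu⟩ := ih x v (h.mono (by omega))
    have hv : OrdGE n (v - b * u) := by
      refine ordGE_of_mul ha ?_
      have : a * (v - b * u) = b * (x - a * u) - (b * x - a * v) := by ring
      rw [this]
      have hb0 : OrdGE 0 b := fun m hm => absurd hm (Nat.not_lt_zero _)
      have h1 := hb0.mul hu
      rw [zero_add] at h1
      exact h1.sub (h.mono (by omega))
    have hkey : ∀ m : Fin d →₀ ℕ, degree m = n → ∃ w, coeff m (x - a * u) = constantCoeff a * w := fun m hm => by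
      refine hab _ (coeff m (v - b * u)) ?_
      have := h m (by omega)
      rw [show b * x - a * v = b * (x - a * u) - a * (v - b * u) by ring, map_sub, sub_eq_zero,
        coeff_mul_of_ordGE hu hm.le, coeff_mul_of_ordGE hv hm.le] at this
      exact this
    choose w hw using hkey
    let q : PS := fun m => if hm : degree m = n then w m hm else 0
    have hq : ∀ m, coeff m q = if hm : degree m = n then w m hm else 0 := fun m => rfl
    have hqo : OrdGE n q := fun m hm => by rw [hq, dif_neg (by omega)]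
    refine ⟨u + q, fun m hm => ?_⟩
    rw [mul_add, ← sub_sub, map_sub, coeff_mul_of_ordGE hqo (by omega), hq]
    rcases lt_or_eq_of_le (Nat.lt_succ_iff.1 hm) with h' | h'
    · rw [hu m h', dif_neg (by omega), mul_zero, sub_zero]
    · rw [dif_pos h', ← hw m h', sub_self]

/-- A regular pair, from its two defining conditions. -/
theorem two_le_idealDepth {R M : Type u} [CommRing R] [AddCommGroup M] [Module R M] {I : Ideal R} {a b : R}
    (ha : a ∈ I) (hb : b ∈ I) (h1 : ∀ x : M, a • x = 0 → x = 0)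
    (h2 : ∀ x y : M, b • x = a • y → ∃ w, x = a • w) : (2 : ℕ∞) ≤ _root_.LocCoh.idealDepth I M := by
  rw [_root_.LocCoh.idealDepth]
  split_ifs
  · exact le_top
  refine le_iSup₂_of_le [a, b] ⟨?_, by simp [ha, hb]⟩ le_rfl
  refine (isWeaklyRegular_cons_iff M a [b]).2 ⟨isSMulRegular_iff_right_eq_zero_of_smul.2 h1, ?_⟩
  refine (isWeaklyRegular_cons_iff _ b []).2 ⟨isSMulRegular_iff_right_eq_zero_of_smul.2 fun z hz => ?_, IsWeaklyRegular.nil _ _⟩
  obtain ⟨x, rfl⟩ := Submodule.Quotient.mk_surjective _ z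
  rw [← Submodule.Quotient.mk_smul, Submodule.Quotient.mk_eq_zero] at hz
  obtain ⟨y, -, hy⟩ := (Submodule.mem_smul_pointwise_iff_exists _ _ _).1 hz
  obtain ⟨w, rfl⟩ := h2 x y hy.symm
  exact (Submodule.Quotient.mk_eq_zero _).2 (Submodule.smul_mem_pointwise_smul w a ⊤ trivial)

variable [IsNoetherianRing A] [IsLocalRing A]

/-- An ideal of power series whose constant terms form an `m`-primary ideal has depth two on the power
series ring and on its thickenings. -/
theorem depth_bounds (hA : (2 : ℕ∞) ≤ _root_.LocCoh.depth A A) (𝔞 : Ideal PS)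
    (hrad : (𝔞.map (constantCoeff : PS →+* A)).radical = maximalIdeal A) :
    (2 : ℕ∞) ≤ _root_.LocCoh.idealDepth 𝔞 PS ∧
      ∀ n : ℕ, (2 : ℕ∞) ≤ _root_.LocCoh.idealDepth 𝔞 (PS ⧸ JX ^ (n + 1)) := by
  let c : PS →+* A := constantCoeff
  let 𝔞0 := 𝔞.map c
  have hne : 𝔞0 • (⊤ : Submodule A A) ≠ ⊤ := by
    rw [show 𝔞0 • (⊤ : Submodule A A) = 𝔞0 by simp]
    intro h
    exact (maximalIdeal.isMaximal A).ne_top (hrad ▸ Ideal.radical_eq_top.2 h)
  have h2 : ((2 : ℕ) : ℕ∞) ≤ _root_.LocCoh.idealDepth 𝔞0 A := by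
    rw [LocCoh.natCast_le_idealDepth_iff_H]
    intro i hi
    obtain ⟨e⟩ := LocCoh.nonempty_H_equiv_of_radical (I := 𝔞0) (J := maximalIdeal A)
      (hrad.trans (Ideal.IsMaximal.isPrime inferInstance).radical.symm) i A
    haveI := (LocCoh.natCast_le_idealDepth_iff_H (maximalIdeal A) A 2).1 hA i hi
    exact e.toEquiv.subsingleton
  obtain ⟨rs, hlen, hmem, hreg⟩ := (LocCoh.natCast_le_idealDepth_iff_exists 𝔞0 A hne 2).1 h2
  obtain ⟨a0, b0, t, rfl⟩ : ∃ a0 b0 t, rs = a0 :: b0 :: t := by
    match rs, hlen with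
    | x :: y :: t, _ => exact ⟨x, y, t, rfl⟩
  obtain ⟨hw1, hw2⟩ := (isWeaklyRegular_cons_iff A a0 (b0 :: t)).1 hreg.toIsWeaklyRegular
  obtain ⟨hw3, -⟩ := (isWeaklyRegular_cons_iff _ b0 t).1 hw2
  have hc : Function.Surjective c := fun r => ⟨C r, constantCoeff_C r⟩
  obtain ⟨a, ha, hca⟩ := (Ideal.mem_map_iff_of_surjective c hc).1 (hmem a0 (by simp))
  obtain ⟨b, hb, hcb⟩ := (Ideal.mem_map_iff_of_surjective c hc).1 (hmem b0 (by simp))
  change constantCoeff a = a0 at hca
  change constantCoeff b = b0 at hcb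
  subst hca hcb
  have hreg1 : ∀ r : A, constantCoeff a * r = 0 → r = 0 := fun r h => hw1.right_eq_zero_of_smul h
  have hreg2 : ∀ x y : A, constantCoeff b * x = constantCoeff a * y → ∃ w, x = constantCoeff a * w := by
    intro x y h
    have h0 : Submodule.Quotient.mk x = (0 : QuotSMulTop (constantCoeff a) A) := by
      refine hw3.right_eq_zero_of_smul ?_
      rw [← Submodule.Quotient.mk_smul, Submodule.Quotient.mk_eq_zero, smul_eq_mul, h]
      exact Submodule.smul_mem_pointwise_smul y _ ⊤ trivial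
    obtain ⟨w, -, hw⟩ := (Submodule.mem_smul_pointwise_iff_exists _ _ _).1 ((Submodule.Quotient.mk_eq_zero _).1 h0)
    exact ⟨w, hw.symm⟩
  haveI := isAdicComplete_ker (A := A) (d := d)
  refine ⟨two_le_idealDepth ha hb (fun x hx => ?_) (fun x y hxy => ?_), fun n => two_le_idealDepth ha hb ?_ ?_⟩
  · ext m
    rw [map_zero]
    exact ordGE_of_mul hreg1 (n := degree m + 1) (fun m' _ => by rw [show a * x = 0 from hx, map_zero]) m (by omega)
  · simp only [smul_eq_mul] at hxy ⊢
    have hmem : ∀ n : ℕ, x ∈ Ideal.span {a} ⊔ JX ^ n := fun n => by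
      obtain ⟨u, hu⟩ := exists_approx hreg1 hreg2 n x y (fun m _ => by rw [hxy, sub_self, map_zero])
      rw [← add_sub_cancel (a * u) x]
      exact add_mem (Ideal.mem_sup_left (Ideal.mem_span_singleton'.2 ⟨u, mul_comm _ _⟩))
        (Ideal.mem_sup_right (mem_pow_iff.2 hu))
    have hjac : JX ≤ (⊥ : Ideal PS).jacobson := IsAdicComplete.le_jacobson_bot _
    haveI : IsHausdorff JX (PS ⧸ Ideal.span {a}) := IsHausdorff.of_le_jacobson _ _ hjac
    have h0 : Ideal.Quotient.mk (Ideal.span {a}) x = 0 := IsHausdorff.haus (I := JX) (M := PS ⧸ Ideal.span {a}) inferInstance _ fun n => by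
      rw [SModEq.zero]
      obtain ⟨s, hs, t', ht, hst⟩ := Submodule.mem_sup.1 (hmem n)
      rw [← hst, map_add, Ideal.Quotient.eq_zero_iff_mem.2 hs, zero_add]
      have : Ideal.Quotient.mk (Ideal.span {a}) t' = t' • (1 : PS ⧸ Ideal.span {a}) :=
        (congrArg (Ideal.Quotient.mk (Ideal.span {a})) (mul_one t')).symm
      rw [this]
      exact Submodule.smul_mem_smul ht trivial
    obtain ⟨w, hw⟩ := Ideal.mem_span_singleton'.1 (Ideal.Quotient.eq_zero_iff_mem.1 h0)
    exact ⟨w, by rw [← hw, mul_comm]⟩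
  · intro z hz
    obtain ⟨x, rfl⟩ := Ideal.Quotient.mk_surjective z
    exact Ideal.Quotient.eq_zero_iff_mem.2 (mem_pow_iff.2 (ordGE_of_mul hreg1
      (mem_pow_iff.1 (Ideal.Quotient.eq_zero_iff_mem.1 hz))))
  · intro z z' hz
    obtain ⟨x, rfl⟩ := Ideal.Quotient.mk_surjective z
    obtain ⟨y, rfl⟩ := Ideal.Quotient.mk_surjective z'
    obtain ⟨u, hu⟩ := exists_approx hreg1 hreg2 (n + 1) x y (mem_pow_iff.1 (Ideal.Quotient.eq.1 hz))
    exact ⟨Ideal.Quotient.mk _ u, (Ideal.Quotient.eq.2 (mem_pow_iff.2 hu) :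
      Ideal.Quotient.mk (JX ^ (n + 1)) x = Ideal.Quotient.mk (JX ^ (n + 1)) (a * u))⟩

end Groth.Agent.Purity10.PSDepth
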