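import Groth.Prelude.Def_Pi1
import Groth.Agent.FEtStein.Homotopy
import Mathlib.AlgebraicGeometry.Morphisms.Finite
import Mathlib.AlgebraicGeometry.Limits
import Mathlib.AlgebraicGeometry.PullbackCarrier

/-!
# Split morphisms described by families of sections
-/

set_option autoImplicit false
set_option linter.style.haveILetI false
set_option linter.overlappingInstances false
set_option backward.isDefEq.respectTransparency.types false
set_option backward.isDefEq.respectTransparency false

universe u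

open CategoryTheory CategoryTheory.Limits AlgebraicGeometry TopologicalSpace

namespace Groth.Agent.Purity10.SplitData

/-- `p` has finitely many sections which are open immersions with disjoint ranges covering the source. -/
def HasSplitting {Y T : Scheme.{u}} (p : Y ⟶ T) : Prop :=
  ∃ (ι : Type u) (_ : Finite ι) (s : ι → (T ⟶ Y)), (∀ i, s i ≫ p = 𝟙 T) ∧
    (∀ i, IsOpenImmersion (s i)) ∧ (∀ y, ∃ i, y ∈ Set.range (s i)) ∧
    ∀ i j y, y ∈ Set.range (s i) → y ∈ Set.range (s j) → i = j

theorem HasSplitting.isSplit {T : Scheme.{u}} {Y : FEt.Cat T} (h : HasSplitting Y.hom) : Pi1.IsSplit Y := by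
  obtain ⟨ι, hι, s, hs, hop, hcov, hdisj⟩ := h
  haveI := hop
  obtain ⟨hcol⟩ := nonempty_isColimit_cofanMk_of (X := fun _ : ι => T) s
    (by
      ext z
      simp only [Opens.coe_iSup, Set.mem_iUnion, Opens.coe_top, Set.mem_univ, iff_true]
      exact hcov z)
    (fun i j hij => by
      simp only [Function.onFun]
      rw [← Opens.coe_disjoint, Set.disjoint_left]
      exact fun z hi hj => hij (hdisj i j z hi hj))
  refine ⟨ι, hι, hcol.coconePointUniqueUpToIso (coproductIsCoproduct _), fun i => ?_⟩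
  have : Sigma.ι (fun _ : ι => T) i ≫
      (hcol.coconePointUniqueUpToIso (coproductIsCoproduct _)).inv = s i :=
    IsColimit.comp_coconePointUniqueUpToIso_inv hcol (coproductIsCoproduct fun _ : ι => T) ⟨i⟩
  rw [← Category.assoc, this]
  exact hs i

theorem hasSplitting_of_isSplit {T : Scheme.{u}} {Y : FEt.Cat T} (h : Pi1.IsSplit Y) : HasSplitting Y.hom := by
  obtain ⟨ι, hι, e, he⟩ := h
  refine ⟨ι, hι, fun i => Sigma.ι (fun _ : ι => T) i ≫ e.inv,
    fun i => (Category.assoc _ _ _).trans (he i), fun i => inferInstance, fun y => ?_, fun i j y hi hj => ?_⟩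
  · obtain ⟨⟨i, x⟩, hx⟩ := (sigmaMk fun _ : ι => T).surjective (e.hom y)
    rw [AlgebraicGeometry.sigmaMk_mk] at hx
    refine ⟨i, x, ?_⟩
    show e.inv ((Sigma.ι (fun _ : ι => T) i) x) = y
    refine (congrArg e.inv hx).trans ?_
    rw [← Scheme.Hom.comp_apply, Iso.hom_inv_id]
    rfl
  · obtain ⟨a, ha⟩ := hi
    obtain ⟨b, hb⟩ := hj
    rw [← hb, Scheme.Hom.comp_apply, Scheme.Hom.comp_apply] at ha
    have h1 := (sigmaι_eq_iff (fun _ : ι => T) i j a b).1 (e.inv.isOpenEmbedding.injective ha)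
    exact congrArg Sigma.fst h1

theorem HasSplitting.of_isPullback {Y T Y' T' : Scheme.{u}} {p : Y ⟶ T} {p' : Y' ⟶ T'} {a : Y' ⟶ Y}
    {b : T' ⟶ T} (sq : IsPullback a p' p b) (h : HasSplitting p) : HasSplitting p' := by
  obtain ⟨ι, hι, s, hs, hop, hcov, hdisj⟩ := h
  let s' : ι → (T' ⟶ Y') := fun i => sq.lift (b ≫ s i) (𝟙 _) (by rw [Category.assoc, hs, Category.comp_id, Category.id_comp])
  have h1 : ∀ i, s' i ≫ p' = 𝟙 T' := fun i => sq.lift_snd _ _ _
  have h2 : ∀ i, s' i ≫ a = b ≫ s i := fun i => sq.lift_fst _ _ _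
  have hsq : ∀ i, IsPullback (s' i) b a (s i) := fun i => by
    refine IsPullback.of_right ?_ (h2 i) sq.flip
    rw [h1, hs]
    exact IsPullback.of_horiz_isIso ⟨by simp⟩
  haveI := hop
  have hrange : ∀ i, Set.range (s' i) = a ⁻¹' Set.range (s i) := fun i => by
    rw [← Scheme.Pullback.range_fst, ← (hsq i).isoPullback_hom_fst]
    ext z
    constructor
    · rintro ⟨x, rfl⟩; exact ⟨(hsq i).isoPullback.hom x, (Scheme.Hom.comp_apply _ _ _).symm⟩
    · rintro ⟨x, rfl⟩
      exact ⟨(hsq i).isoPullback.inv x, by rw [← Scheme.Hom.comp_apply, Iso.inv_hom_id_assoc]⟩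
  refine ⟨ι, hι, s', h1, fun i => MorphismProperty.of_isPullback (P := @IsOpenImmersion) (hsq i).flip (hop i),
    fun y => ?_, fun i j y hi hj => ?_⟩
  · obtain ⟨i, hi⟩ := hcov (a y)
    exact ⟨i, by rw [hrange]; exact hi⟩
  · rw [hrange] at hi hj
    exact hdisj i j (a y) hi hj

/-- A finite étale scheme over an algebraically closed field is split. -/
theorem hasSplitting_algClosed {K : Type u} [Field K] [IsAlgClosed K] {Z : Scheme.{u}}
    (d : Z ⟶ Spec (CommRingCat.of K)) [IsFinite d] [Etale d] : HasSplitting d := by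
  haveI : Finite Z := by
    have h := d.finite_preimage_singleton (IsLocalRing.closedPoint K)
    exact Set.finite_univ_iff.mp (h.subset fun z _ => Subsingleton.elim (α := PrimeSpectrum K) _ _)
  haveI : DiscreteTopology Z := by
    have h := d.isDiscrete_preimage_singleton (IsLocalRing.closedPoint K)
    rw [Set.eq_univ_of_forall (s := d ⁻¹' {IsLocalRing.closedPoint K})
      fun z => Subsingleton.elim (α := PrimeSpectrum K) _ _] at h
    exact isDiscrete_univ_iff.mp h
  let O : Z → Z.Opens := fun z => ⟨{z}, isOpen_discrete _⟩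
  haveI : ∀ z, IsClosedImmersion (O z).ι := fun z =>
    IsClosedImmersion.of_isPreimmersion _ (by rw [Scheme.Opens.range_ι]; exact isClosed_discrete _)
  haveI : ∀ z, ConnectedSpace ↥(O z : Scheme.{u}) := fun z =>
    Subtype.connectedSpace isConnected_singleton
  haveI : IsSepClosed (IsLocalRing.ResidueField K) := by
    haveI := IsAlgClosed.of_ringEquiv K (IsLocalRing.ResidueField K) (RingEquiv.ofBijective (IsLocalRing.residue K) ⟨(IsLocalRing.residue K).injective, IsLocalRing.residue_surjective⟩)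
    infer_instance
  haveI : ∀ z, IsIso ((O z).ι ≫ d) := fun z => FEtStein.isIso_of_strictlyHenselian _
  refine ⟨ULift.{u} Z, inferInstance, fun z => inv ((O z.down).ι ≫ d) ≫ (O z.down).ι,
    fun z => by simp, fun z => inferInstance, fun y => ⟨⟨y⟩, ?_⟩, fun i j y hi hj => ?_⟩
  · let z : ↥(O y : Scheme.{u}) := ⟨y, Set.mem_singleton y⟩
    refine ⟨((O y).ι ≫ d) z, ?_⟩
    show ((inv ((O y).ι ≫ d) ≫ (O y).ι)) (((O y).ι ≫ d) z) = y
    rw [← Scheme.Hom.comp_apply, IsIso.hom_inv_id_assoc]
    rfl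
  · obtain ⟨a, rfl⟩ := hi
    obtain ⟨b, hb⟩ := hj
    have ha' : ((inv ((O i.down).ι ≫ d) ≫ (O i.down).ι) a) = i.down :=
      ((inv ((O i.down).ι ≫ d)) a).2
    have hb' : ((inv ((O j.down).ι ≫ d) ≫ (O j.down).ι) b) = j.down :=
      ((inv ((O j.down).ι ≫ d)) b).2
    exact ULift.ext _ _ (ha'.symm.trans (hb.symm.trans hb'))

end Groth.Agent.Purity10.SplitData
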