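import Groth.Agent.ASBun8.GenPt
import Groth.Agent.Coherent.ProjSpaceBase
import Groth.Agent.SerreLang10.Kunneth
import Groth.Agent.S7810
import Groth.Agent.NoName5.Stable
import Groth.Agent.NeronLib.Regular
import Groth.Agent.P1Lib24.Basic
import Groth.Agent.CurveLib.ProjLine
import Groth.Agent.Purity10.SplitData
import Groth.Agent.Purity10.CoverSplit
import Groth.Agent.BiratPi1H10.Basic
import Groth.Agent.FEtStein.CoupleFF
import Groth.Prelude.Def_Milnor

/-!
# Rational proper normal varieties are simply connected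
-/

set_option autoImplicit false
set_option linter.style.haveILetI false
set_option linter.overlappingInstances false
set_option backward.isDefEq.respectTransparency.types false
set_option backward.isDefEq.respectTransparency false

universe u

open CategoryTheory CategoryTheory.Limits AlgebraicGeometry TopologicalSpace
open Groth.Agent.ASBun8

namespace Groth.Agent.Purity10.RationalSC

variable (k : Type u) [Field k]

/-- Every connected finite étale cover is trivial. -/
def SC (M : Scheme.{u}) : Prop := ∀ (W : FEt.Cat M) [ConnectedSpace W.left], IsIso W.hom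

theorem isIso_of_section {M : Scheme.{u}} {W : Scheme.{u}} (w : W ⟶ M) [IsFinite w] [Etale w] [ConnectedSpace W]
    (σ : M ⟶ W) (hσ : σ ≫ w = 𝟙 M) [Nonempty M] : IsIso w := by
  haveI : IsOpenImmersion σ := FEtSect.isOpenImmersion_sect ⟨σ, hσ⟩
  have hc : IsClopen (Set.range σ) := ⟨FEtSect.isClosed_range_sect ⟨σ, hσ⟩, σ.isOpenEmbedding.isOpen_range⟩
  haveI : Epi σ.base := (TopCat.epi_iff_surjective _).mpr fun x => by
    rw [← Set.mem_range, hc.eq_univ (Set.range_nonempty _)]; trivial
  haveI : IsIso σ := IsOpenImmersion.isIso σ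
  exact IsIso.of_isIso_fac_left hσ

theorem exists_lift_of_SC {X : Scheme.{u}} [IsLocallyNoetherian X] (hX : SC X) (X' : FEt.Cat X) (x : X'.left) :
    ∃ σ : X ⟶ X'.left, σ ≫ X'.hom = 𝟙 X ∧ x ∈ Set.range σ := by
  let h : X'.left ⟶ X := X'.hom
  haveI : IsFinite h := X'.prop.1
  haveI : Etale h := X'.prop.2
  haveI := LocallyOfFiniteType.isLocallyNoetherian h
  let C := CoverSplit.comp x
  let c := C.ι ≫ h
  haveI : ConnectedSpace C.toScheme := inferInstanceAs (ConnectedSpace (CoverSplit.comp x).toScheme)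
  haveI : IsFinite c := inferInstanceAs (IsFinite ((CoverSplit.comp x).ι ≫ h))
  haveI : Etale c := inferInstanceAs (Etale ((CoverSplit.comp x).ι ≫ h))
  let Cc : FEt.Cat X := MorphismProperty.Over.mk ⊤ c ⟨inferInstance, inferInstance⟩
  haveI : ConnectedSpace Cc.left := ‹ConnectedSpace C.toScheme›
  haveI : IsIso c := hX Cc
  refine ⟨inv c ≫ C.ι, (Category.assoc _ _ _).trans (IsIso.inv_hom_id c), c ⟨x, mem_connectedComponent⟩, ?_⟩
  rw [← Scheme.Hom.comp_apply, IsIso.hom_inv_id_assoc]
  rfl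

theorem SC.prod [IsAlgClosed k] {X Y : Scheme.{u}} (pX : X ⟶ Spec (CommRingCat.of k))
    (pY : Y ⟶ Spec (CommRingCat.of k)) [IsProper pX] [ConnectedSpace X] [IsLocallyNoetherian Y] [ConnectedSpace Y]
    (hX : SC X) (hY : SC Y) : SC (pullback pX pY) := by
  intro W _
  haveI := SerreLang10.connectedSpace_pullback pX pY
  haveI : IsLocallyNoetherian X := LocallyOfFiniteType.isLocallyNoetherian pX
  obtain ⟨X', Y', φ, hφ, hφs⟩ := SerreLang10.exists_dominated pX pY W
  let w : W.left ⟶ pullback pX pY := W.hom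
  haveI : IsFinite w := W.prop.1
  haveI : Etale w := W.prop.2
  obtain ⟨z⟩ := (inferInstance : Nonempty W.left)
  obtain ⟨p, -⟩ := hφs.surj z
  let f' : pullback (X'.hom ≫ pX) (Y'.hom ≫ pY) ⟶ X'.left := pullback.fst (X'.hom ≫ pX) (Y'.hom ≫ pY)
  let s' : pullback (X'.hom ≫ pX) (Y'.hom ≫ pY) ⟶ Y'.left := pullback.snd (X'.hom ≫ pX) (Y'.hom ≫ pY)
  obtain ⟨σ, hσ, -⟩ := exists_lift_of_SC hX X' (f' p)
  obtain ⟨τ, hτ, -⟩ := exists_lift_of_SC hY Y' (s' p)
  let χ : pullback pX pY ⟶ pullback (X'.hom ≫ pX) (Y'.hom ≫ pY) :=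
    pullback.lift (pullback.fst _ _ ≫ σ) (pullback.snd _ _ ≫ τ) (by
      rw [Category.assoc, Category.assoc, reassoc_of% hσ, reassoc_of% hτ]
      exact pullback.condition)
  haveI : ConnectedSpace W.left := ‹_›
  refine isIso_of_section w (χ ≫ φ) ?_
  rw [Category.assoc, hφ]
  apply pullback.hom_ext <;> simp [χ, hσ, hτ]

theorem SC.projLine [IsAlgClosed k] : SC (CohB1.ProjSpace 1 k) := by
  intro W _
  haveI : IsFinite W.hom := W.prop.1
  haveI : Etale W.hom := W.prop.2
  let w : W.left ⟶ CohB1.ProjSpace 1 k := W.hom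
  haveI : IsFinite w := W.prop.1
  haveI : Etale w := W.prop.2
  haveI : IsProper (CohB1.ProjSpace.toSpec 1 k) := CurveLib.isProper_projSpace k 1
  haveI : GeometricallyConnected (w ≫ CohB1.ProjSpace.toSpec 1 k) := FEtStein.geometricallyConnected_of_isSepClosed _
  exact S7810.result k w

theorem SC.specField [IsAlgClosed k] : SC (Spec (CommRingCat.of k)) := by
  intro W _
  let w : W.left ⟶ Spec (CommRingCat.of k) := W.hom
  haveI : IsFinite w := W.prop.1
  haveI : Etale w := W.prop.2
  haveI : ConnectedSpace W.left := ‹_›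
  obtain ⟨σ, hσ⟩ := FEtStein.exists_section_sepClosed w
  haveI : Nonempty ↥(Spec (CommRingCat.of k)) := inferInstanceAs (Nonempty (PrimeSpectrum k))
  exact isIso_of_section w σ hσ

/-- A smooth proper simply connected model of the field of rational functions. -/
theorem exists_model [IsAlgClosed k] (r : ℕ) :
    ∃ (M : Scheme.{u}) (p : M ⟶ Spec (CommRingCat.of k)), IsProper p ∧ Smooth p ∧ ConnectedSpace M ∧ SC M ∧
      ∃ (L : Type u) (_ : Field L) (_ : Algebra k L) (a : Spec (CommRingCat.of L) ⟶ M), GenPt.Good a ∧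
        a ≫ p = Spec.map (CommRingCat.ofHom (algebraMap k L)) ∧ Nonempty (L ≃ₐ[k] InvFld.Fld (Fin r) k) := by
  induction r with
  | zero =>
    refine ⟨Spec (CommRingCat.of k), 𝟙 _, inferInstance, inferInstance, inferInstanceAs (ConnectedSpace (PrimeSpectrum k)),
      SC.specField k, k, inferInstance, inferInstance, 𝟙 _, GenPt.good_of_isIso _, ?_, ⟨?_⟩⟩
    · rw [Algebra.algebraMap_self, CommRingCat.ofHom_id, Spec.map_id]; simp
    · exact (FractionRing.algEquiv k k).symm.trans
        (IsFractionRing.algEquivOfAlgEquiv (MvPolynomial.isEmptyAlgEquiv k (Fin 0)).symm)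
  | succ r ih =>
    obtain ⟨M, p, hp, hs, hM, hSC, L, _, _, a, ha, hap, ⟨e⟩⟩ := ih
    haveI := hp; haveI := hs; haveI := hM
    haveI : IsProper (CohB1.ProjSpace.toSpec 1 k) := CurveLib.isProper_projSpace k 1
    haveI : Smooth (CohB1.ProjSpace.toSpec 1 k) := P1Lib24.smooth_projLine k
    haveI := CurveLib.isIntegral_projSpace k 1
    haveI : ConnectedSpace ↥(CohB1.ProjSpace 1 k) := inferInstance
    haveI : IsLocallyNoetherian (CohB1.ProjSpace 1 k) := LocallyOfFiniteType.isLocallyNoetherian (CohB1.ProjSpace.toSpec 1 k)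
    let g := CohB1.ProjSpace.toSpec 1 k
    obtain ⟨c, hc, hc'⟩ := GenPt.exists_good_projSpace 1 L
    let j : CohB1.ProjSpace 1 L ⟶ pullback p g :=
      pullback.lift (CohB1.ProjSpace.toSpec 1 L ≫ a) (Proj.map (Coherent.polyGradedMap 1 k L) (Coherent.polyGradedMap_irrelevant 1 k L)) (by
        rw [Category.assoc, hap]; exact (Coherent.isPullback_projSpace 1 k L).w.symm)
    have hP : IsPullback j (CohB1.ProjSpace.toSpec 1 L) (pullback.fst p g) a := by
      refine IsPullback.of_right ?_ (pullback.lift_fst _ _ _) (IsPullback.of_hasPullback p g).flip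
      rw [pullback.lift_snd, hap]
      exact Coherent.isPullback_projSpace 1 k L
    haveI := GenPt.flat_of_good ha
    haveI := GenPt.surjectiveOnStalks_of_good ha
    haveI : UniversallyOpen g := inferInstance
    haveI : UniversallyOpen (pullback.fst p g) := inferInstance
    have hj : GenPt.Good j := GenPt.good_fst ha (pullback.fst p g).isOpenMap hP
    refine ⟨pullback p g, pullback.fst p g ≫ p, inferInstance, inferInstance,
      SerreLang10.connectedSpace_pullback p g, SC.prod k p g hSC (SC.projLine k),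
      InvFld.Fld (Fin 1) L, inferInstance, inferInstance, c ≫ j, hc.comp hj, ?_, ?_⟩
    · rw [Category.assoc, reassoc_of% hP.w, hap, reassoc_of% hc', ← Spec.map_comp, ← CommRingCat.ofHom_comp,
        ← IsScalarTower.algebraMap_eq]
    · obtain ⟨x⟩ := NoName5.nonempty_fld_congr (k := k) (Fin 1) e
      obtain ⟨y⟩ := NoName5.nonempty_fld_fld (k := k) (Fin 1) (Fin r)
      let z : MvPolynomial (Fin 1 ⊕ Fin r) k ≃ₐ[k] MvPolynomial (Fin (r + 1)) k :=
        MvPolynomial.renameEquiv k ((Equiv.sumComm _ _).trans finSumFinEquiv)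
      exact ⟨(x.trans y).trans (IsFractionRing.algEquivOfAlgEquiv z)⟩

theorem hasSplitting_of_SC {M : Scheme.{u}} [IsLocallyNoetherian M] [ConnectedSpace M] (hM : SC M)
    (Z : FEt.Cat M) : SplitData.HasSplitting Z.hom := by
  let z : Z.left ⟶ M := Z.hom
  haveI : IsFinite z := Z.prop.1
  haveI : Etale z := Z.prop.2
  obtain ⟨m⟩ := (inferInstance : Nonempty M)
  let S := FEtSect.Sect z
  haveI : Finite S := (FEtSect.finite_card_le (p := z) (n := z.finrank m) (fun t => CoverSplit.finrank_eq_const z m t)).1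
  refine ⟨S, inferInstance, fun s => s.1, fun s => s.2, fun s => FEtSect.isOpenImmersion_sect s, fun y => ?_, ?_⟩
  · obtain ⟨σ, hσ, hy⟩ := exists_lift_of_SC hM Z y
    exact ⟨⟨σ, hσ⟩, hy⟩
  · rintro s s' y ⟨t, rfl⟩ ⟨t', ht'⟩
    refine FEtSect.sect_ext (t := t) ?_
    have e1 : z (s.1 t) = t := by rw [← Scheme.Hom.comp_apply, s.2]; rfl
    have e2 : z (s'.1 t') = t' := by rw [← Scheme.Hom.comp_apply, s'.2]; rfl
    have h2 : t' = t := e2.symm.trans ((congrArg (z ·) ht').trans e1)
    exact ht'.symm.trans (congrArg _ h2)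

/-- Split over a nonempty open implies split, for normal integral schemes. -/
theorem hasSplitting_of_open {X : Scheme.{u}} [IsIntegral X] (hN : Pi1.IsNormalScheme X) (V : X.Opens)
    (hV : (V : Set X).Nonempty) (Y : FEt.Cat X) (h : SplitData.HasSplitting ((FEt.restrict V.ι).obj Y).hom) :
    SplitData.HasSplitting Y.hom := by
  obtain ⟨ι, hι, s, hs, hop, hcov, hdisj⟩ := h
  haveI : IsFinite Y.hom := Y.prop.1
  haveI : Etale Y.hom := Y.prop.2
  let y : Y.left ⟶ X := Y.hom
  haveI : IsFinite y := Y.prop.1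
  haveI : Etale y := Y.prop.2
  obtain ⟨hfull, -⟩ := FEtFF.restrict_open hN V hV
  let T : FEt.Cat X := MorphismProperty.Over.mk ⊤ (𝟙 X) ⟨inferInstance, inferInstance⟩
  haveI : Nonempty V.toScheme := hV.to_subtype
  let b : ι → ((FEt.restrict V.ι).obj T ⟶ (FEt.restrict V.ι).obj Y) := fun i =>
    MorphismProperty.Over.homMk (pullback.snd (𝟙 X) V.ι ≫ s i) (by
      show (pullback.snd (𝟙 X) V.ι ≫ s i) ≫ _ = pullback.snd (𝟙 X) V.ι
      exact (Category.assoc _ _ _).trans ((congrArg (pullback.snd (𝟙 X) V.ι ≫ ·) (hs i)).trans (Category.comp_id _)))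
  let σ : ι → FEtSect.Sect y := fun i => ⟨((FEt.restrict V.ι).preimage (b i)).left,
    MorphismProperty.Over.w ((FEt.restrict V.ι).preimage (b i))⟩
  have hres : ∀ i, V.ι ≫ (σ i).1 = s i ≫ pullback.fst y V.ι := by
    intro i
    have h1 := congrArg (fun m => m.left ≫ pullback.fst y V.ι) ((FEt.restrict V.ι).map_preimage (b i))
    let v : V.toScheme ⟶ pullback (𝟙 X) V.ι := pullback.lift V.ι (𝟙 _) (by simp)
    have h2 : v ≫ pullback.fst (𝟙 X) V.ι ≫ (σ i).1 = v ≫ (pullback.snd (𝟙 X) V.ι ≫ s i) ≫ pullback.fst y V.ι :=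
      congrArg (v ≫ ·) ((FEtStein.restrict_map_fst' V.ι ((FEt.restrict V.ι).preimage (b i))).symm.trans h1)
    rw [pullback.lift_fst_assoc] at h2
    refine h2.trans ?_
    exact (Category.assoc _ _ _).symm.trans (congrArg (· ≫ pullback.fst y V.ι) ((Category.assoc _ _ _).symm.trans ((congrArg (· ≫ s i) (pullback.lift_snd _ _ _)).trans (Category.id_comp _))))
  haveI : ∀ i, IsOpenImmersion (σ i).1 := fun i => FEtSect.isOpenImmersion_sect (σ i)
  refine ⟨ι, hι, fun i => (σ i).1, fun i => (σ i).2, fun i => inferInstance, fun w => ?_, ?_⟩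
  · by_contra hw
    push Not at hw
    let O : Set Y.left := (⋃ i, Set.range (σ i).1)ᶜ
    have hO : IsOpen O := (isClosed_iUnion_of_finite fun i => FEtSect.isClosed_range_sect (σ i)).isOpen_compl
    obtain ⟨_, ⟨w', hw', rfl⟩, hw'V⟩ := V.2.dense hV |>.inter_open_nonempty (y '' O) (y.isOpenMap _ hO)
      ⟨y w, w, by simpa [O] using hw, rfl⟩
    obtain ⟨q, hq, -⟩ := Scheme.Pullback.exists_preimage_pullback (f := y) (g := V.ι) w' ⟨_, hw'V⟩ rfl
    obtain ⟨i, t, ht⟩ := hcov q
    refine hw' (Set.mem_iUnion.2 ⟨i, V.ι t, ?_⟩)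
    rw [← Scheme.Hom.comp_apply, hres, Scheme.Hom.comp_apply]
    exact (congrArg (fun r => pullback.fst y V.ι r) ht).trans hq
  · rintro i j w ⟨t, rfl⟩ ⟨t', ht'⟩
    have htt : t' = t := by
      have e1 : y ((σ i).1 t) = t := by rw [← Scheme.Hom.comp_apply, (σ i).2]; rfl
      have e2 : y ((σ j).1 t') = t' := by rw [← Scheme.Hom.comp_apply, (σ j).2]; rfl
      exact e2.symm.trans ((congrArg (y ·) ht').trans e1)
    subst htt
    have he : σ j = σ i := FEtSect.sect_ext (t := t') ht'
    obtain ⟨v⟩ := (inferInstance : Nonempty V.toScheme)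
    have hsj : s j = s i := pullback.hom_ext ((hres j).symm.trans ((congrArg (fun z => V.ι ≫ z.1) he).trans (hres i)))
      ((hs j).trans (hs i).symm)
    exact hdisj i j (s i v) ⟨v, rfl⟩ ⟨v, by rw [hsj]⟩

theorem main [IsAlgClosed k] (X : Scheme.{u}) [X.Over (Spec (CommRingCat.of k))]
    [IsProper (X ↘ Spec (CommRingCat.of k))] [IsIntegral X] (hN : Pi1.IsNormalScheme X)
    (r : ℕ)
    (e : letI := Curv2.stalkAlgebra k X (genericPoint X)
      X.presheaf.stalk (genericPoint X) ≃ₐ[k] FractionRing (MvPolynomial (Fin r) k))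
    (Y : FEt.Cat X) : Pi1.IsSplit Y := by
  letI := Curv2.stalkAlgebra k X (genericPoint X)
  obtain ⟨M, p, hp, hs, hM, hSC, L, _, _, a, ha, hap, ⟨ε⟩⟩ := exists_model k r
  haveI := hp; haveI := hs; haveI := hM
  let q := X ↘ Spec (CommRingCat.of k)
  haveI : IsLocallyNoetherian M := LocallyOfFiniteType.isLocallyNoetherian p
  haveI : CompactSpace M := QuasiCompact.compactSpace_of_compactSpace p
  haveI : IsNoetherian M := { }
  have hreg : ∀ x : M, IsRegularLocalRing (M.presheaf.stalk x) := NeronLib.isRegularLocalRing_stalk_of_smooth p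
  let K := X.presheaf.stalk (genericPoint X)
  letI : Field K := inferInstanceAs (Field X.functionField)
  let θ : L ≃ₐ[k] K := ε.trans e.symm
  let a₁ : Spec (CommRingCat.of L) ⟶ X := Spec.map (CommRingCat.ofHom θ.symm.toAlgHom.toRingHom) ≫ X.fromSpecStalk (genericPoint X)
  haveI : IsIso (Spec.map (CommRingCat.ofHom θ.symm.toAlgHom.toRingHom)) := by
    haveI : IsIso (CommRingCat.ofHom θ.symm.toAlgHom.toRingHom) :=
      (ConcreteCategory.isIso_iff_bijective _).2 θ.symm.bijective
    infer_instance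
  have hg : GenPt.Good (X.fromSpecStalk (genericPoint X)) := by
    obtain ⟨U, hU, hxU, -⟩ :=
      exists_isAffineOpen_mem_and_subset (show genericPoint X ∈ (⊤ : X.Opens) from trivial)
    haveI : Nonempty (U : Scheme.{u}) := ⟨(⟨_, hxU⟩ : U)⟩
    haveI : Nonempty ↥U := ⟨⟨_, hxU⟩⟩
    haveI := functionField_isFractionRing_of_isAffineOpen X U hU
    rw [← hU.fromSpecStalk_eq_fromSpecStalk hxU, IsAffineOpen.fromSpecStalk]
    haveI : Nonempty ↥(Spec Γ(X, U)) := inferInstanceAs (Nonempty (PrimeSpectrum Γ(X, U)))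
    exact (GenPt.good_specMap_fraction Γ(X, U) X.functionField).comp (GenPt.good_of_isOpenImmersion hU.fromSpec)
  have hgen : X.fromSpecStalk (genericPoint X) ≫ q = Spec.map (CommRingCat.ofHom (algebraMap k K)) := by
    exact (CurveLib.specMap_stalkMap k X (genericPoint X)).symm
  have hcomm : a ≫ p = a₁ ≫ q := by
    rw [hap, Category.assoc, hgen, ← Spec.map_comp, ← CommRingCat.ofHom_comp]
    congr 2
    exact θ.symm.toAlgHom.comp_algebraMap.symm
  haveI : LocallyOfFinitePresentation q := LocallyOfFinitePresentation.iff_locallyOfFiniteType.2 inferInstance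
  obtain ⟨P, hP⟩ := GenPt.birationalOver p q ha ((GenPt.good_of_isIso _).comp hg) hcomm
  obtain ⟨F, ⟨α⟩⟩ := BiratPi1H10.exists_functor hreg p q P.source P.dense_source (P.iso.hom ≫ P.target.ι)
    (by rw [Category.assoc]; exact hP)
  have h1 : SplitData.HasSplitting ((FEt.restrict P.source.ι).obj (F.obj Y)).hom :=
    SplitData.HasSplitting.of_isPullback (IsPullback.of_hasPullback (F.obj Y).hom P.source.ι) (hasSplitting_of_SC hSC (F.obj Y))
  let i1 : (FEt.restrict P.source.ι).obj (F.obj Y) ≅ (FEt.restrict P.iso.hom).obj ((FEt.restrict P.target.ι).obj Y) :=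
    α.app Y ≪≫ (FEtStein.restrictCompIso P.iso.hom P.target.ι _ rfl).app Y
  let YV := (FEt.restrict P.target.ι).obj Y
  have h2 : SplitData.HasSplitting YV.hom := by
    let l := (MorphismProperty.Over.forget FEt.prop ⊤ _ ⋙ Over.forget _).mapIso i1
    have h3 : SplitData.HasSplitting (pullback.snd YV.hom P.iso.hom) :=
      SplitData.HasSplitting.of_isPullback (IsPullback.of_horiz_isIso (fst := l.inv) (g := 𝟙 _)
        ⟨(MorphismProperty.Over.w i1.inv).trans (Category.comp_id _).symm⟩) h1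
    haveI : IsIso (pullback.fst YV.hom P.iso.hom) := inferInstance
    exact SplitData.HasSplitting.of_isPullback (IsPullback.of_horiz_isIso (fst := inv (pullback.fst YV.hom P.iso.hom))
      (g := P.iso.inv) ⟨by rw [IsIso.inv_comp_eq, ← Category.assoc, pullback.condition, Category.assoc, Iso.hom_inv_id, Category.comp_id]⟩) h3
  have hne : (P.target : Set X).Nonempty := P.dense_target.nonempty
  exact (hasSplitting_of_open hN P.target hne Y h2).isSplit

end Groth.Agent.Purity10.RationalSC
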