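import Groth.Agent.Purity10.AdicSmoothPurity
import Groth.Agent.FEtFF.PurityExtend
import Groth.Agent.FEtQuot.FieldLimit
import Groth.Agent.H8Lim.NoetherianModel
import Groth.Agent.H8Lim.BaseChange
import Groth.Agent.CAlgH.Popescu

/-!
# Purity for ind-smooth local algebras over local rings of depth at least two

A cover of the punctured spectrum is defined over a finitely generated subring, which maps into a
smooth algebra; there it extends by purity for smooth algebras.
-/

set_option autoImplicit false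
set_option linter.style.haveILetI false
set_option backward.isDefEq.respectTransparency.types false
set_option backward.isDefEq.respectTransparency false
universe u

open CategoryTheory CategoryTheory.Limits AlgebraicGeometry TopologicalSpace IsLocalRing

noncomputable section

namespace Groth.Agent.Purity10

/-- The closed fibre of a formally smooth local algebra is a domain. -/
theorem isPrime_map_maximalIdeal {A B : Type u} [CommRing A] [CommRing B] [IsNoetherianRing A] [IsLocalRing A]
    [IsNoetherianRing B] [IsLocalRing B] [Algebra A B] [IsLocalHom (algebraMap A B)]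
    (h : CAlgX.IsAdicFormallySmooth A B (maximalIdeal B)) : ((maximalIdeal A).map (algebraMap A B)).IsPrime := by
  let mB := (maximalIdeal A).map (algebraMap A B)
  have hmB : mB ≤ maximalIdeal B := IsLocalRing.map_maximalIdeal_le _
  haveI : Nontrivial (B ⧸ mB) :=
    Ideal.Quotient.nontrivial_iff.mpr (ne_top_of_le_ne_top (maximalIdeal.isMaximal B).ne_top hmB)
  haveI : IsLocalRing (B ⧸ mB) := IsLocalRing.of_surjective' (Ideal.Quotient.mk mB) Ideal.Quotient.mk_surjective
  let j : ResidueField A →+* B ⧸ mB := Ideal.Quotient.lift (maximalIdeal A)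
    ((Ideal.Quotient.mk mB).comp (algebraMap A B))
    (fun a ha => Ideal.Quotient.eq_zero_iff_mem.mpr (Ideal.mem_map_of_mem _ ha))
  letI : Algebra (ResidueField A) (B ⧸ mB) := j.toAlgebra
  have hfib := CAlgH.AdicSmooth.fibre (residue A) residue_surjective (Ideal.Quotient.mk mB)
    Ideal.Quotient.mk_surjective (by rw [Ideal.mk_ker, ker_residue]) (RingHom.ext fun a => rfl) h
  haveI : IsLocalHom (Ideal.Quotient.mk mB) := IsLocalHom.of_surjective _ Ideal.Quotient.mk_surjective
  rw [IsLocalRing.map_maximalIdeal_of_surjective _ Ideal.Quotient.mk_surjective] at hfib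
  haveI := CAlgH.AdicSmooth.isRegularLocalRing_of_adicSmooth hfib
  haveI := CAlgH3.isDomain_of_isRegularLocalRing (B ⧸ mB)
  exact (Ideal.Quotient.isDomain_iff_prime mB).1 inferInstance

/-- Purity for a smooth (localized) algebra at a prime in the closed fibre which is not its generic point. -/
theorem purityHolds_localization {A S : Type u} [CommRing A] [IsNoetherianRing A] [IsLocalRing A]
    [CommRing S] [IsNoetherianRing S] [Algebra A S] [Algebra.FormallySmooth A S] [Algebra.EssFiniteType A S]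
    (hA : (2 : ℕ∞) ≤ _root_.LocCoh.depth A A) (Q : Ideal S) [Q.IsPrime]
    (hQ : Q.comap (algebraMap A S) = maximalIdeal A) (hne : ∀ _ : ((maximalIdeal A).map (algebraMap A S)).IsPrime,
      Q ≠ (maximalIdeal A).map (algebraMap A S))
    (hprime : ((maximalIdeal A).map (algebraMap A S)).IsPrime) :
    FEt.PurityHolds (Localization.AtPrime Q) := by
  let SQ := Localization.AtPrime Q
  haveI : Algebra.FormallySmooth S SQ := Algebra.FormallySmooth.of_isLocalization Q.primeCompl
  haveI : Algebra.FormallySmooth A SQ := Algebra.FormallySmooth.comp A S SQ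
  haveI : Algebra.EssFiniteType S SQ := Algebra.EssFiniteType.of_isLocalization SQ Q.primeCompl
  haveI : Algebra.EssFiniteType A SQ := Algebra.EssFiniteType.comp A S SQ
  haveI : IsNoetherianRing SQ := IsLocalization.isNoetherianRing Q.primeCompl _ inferInstance
  haveI : IsLocalHom (algebraMap A SQ) := by
    refine ((IsLocalRing.local_hom_TFAE (algebraMap A SQ)).out 2 0).1 ?_
    rw [IsScalarTower.algebraMap_eq A S SQ, ← Ideal.map_map, ← IsLocalization.AtPrime.map_eq_maximalIdeal Q SQ]
    exact Ideal.map_mono (Ideal.map_le_iff_le_comap.2 hQ.ge)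
  haveI : Algebra.EssFiniteType (ResidueField A) (ResidueField SQ) := by
    haveI : Algebra.EssFiniteType SQ (ResidueField SQ) :=
      RingHom.essFiniteType_algebraMap.1 (RingHom.FiniteType.of_surjective _ residue_surjective).essFiniteType
    haveI : Algebra.EssFiniteType A (ResidueField SQ) := Algebra.EssFiniteType.comp A SQ (ResidueField SQ)
    exact Algebra.EssFiniteType.of_comp A (ResidueField A) (ResidueField SQ)
  refine purityHolds_of_adicSmooth_essFiniteType hA (CAlgH.AdicSmooth.of_formallySmooth) fun hle => hne hprime ?_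
  refine le_antisymm ?_ (Ideal.map_le_iff_le_comap.2 hQ.ge)
  have h := Ideal.comap_mono (f := algebraMap S SQ) hle
  rw [IsScalarTower.algebraMap_eq A S SQ, ← Ideal.map_map, ← IsLocalization.AtPrime.map_eq_maximalIdeal Q SQ] at h
  intro x hx
  have h2 := h (Ideal.mem_map_of_mem _ hx)
  haveI := hprime
  have hd : Disjoint (Q.primeCompl : Set S) ((maximalIdeal A).map (algebraMap A S)) :=
    Set.disjoint_left.2 fun s hs hs' => hs (Ideal.map_le_iff_le_comap.2 hQ.ge hs')
  have he := IsLocalization.comap_map_of_isPrime_disjoint Q.primeCompl SQ hprime hd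
  exact he.le h2

set_option maxHeartbeats 1000000 in
/-- Purity for local ind-smooth algebras whose closed fibre is not Artinian. -/
theorem purityHolds_of_indSmooth {A L : Type u} [CommRing A] [IsNoetherianRing A] [IsLocalRing A]
    [CommRing L] [IsNoetherianRing L] [IsLocalRing L] [Algebra A L] [IsLocalHom (algebraMap A L)]
    (hA : (2 : ℕ∞) ≤ _root_.LocCoh.depth A A) (hind : Smoothing.IndSmooth A L)
    (hP : ∃ P : Ideal L, P.IsPrime ∧ (maximalIdeal A).map (algebraMap A L) ≤ P ∧ P ≠ maximalIdeal L) :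
    FEt.PurityHolds L := by
  classical
  refine ⟨fun V => ?_⟩
  haveI : IsFinite V.hom := V.prop.1
  haveI : Etale V.hom := V.prop.2
  obtain ⟨γ₀, hγ₀⟩ := IsNoetherian.noetherian (maximalIdeal L)
  obtain ⟨α, hα⟩ := IsNoetherian.noetherian (maximalIdeal A)
  let γ : Finset L := γ₀ ∪ α.image (algebraMap A L)
  have hγ : Ideal.span (γ : Set L) = maximalIdeal L := by
    refine le_antisymm (Ideal.span_le.2 fun x hx => ?_) (hγ₀.ge.trans (Ideal.span_mono fun x hx => ?_))
    · rcases Finset.mem_union.1 hx with hx | hx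
      · exact hγ₀.le (Ideal.subset_span hx)
      · obtain ⟨a, ha, rfl⟩ := Finset.mem_image.1 hx
        exact IsLocalRing.map_maximalIdeal_le (algebraMap A L) (Ideal.mem_map_of_mem _ (hα.le (Ideal.subset_span ha)))
    · exact Finset.mem_union_left _ hx
  let D := H8Lim.fgSpecDiagram L
  let c := H8Lim.fgSpecCone L
  have hc := H8Lim.isLimitFgSpecCone L
  let i₀ : (Finset L)ᵒᵖ := Opposite.op γ
  let R₀ := H8Lim.fgSub L γ
  let Z₀ : Set R₀ := {x | (x : L) ∈ γ}
  let U₀ : (Spec (CommRingCat.of R₀)).Opens :=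
    ⟨(PrimeSpectrum.zeroLocus Z₀)ᶜ, (PrimeSpectrum.isClosed_zeroLocus Z₀).isOpen_compl⟩
  let f₀ : (U₀ : Scheme.{u}) ⟶ D.obj i₀ := U₀.ι
  haveI : IsNoetherianRing R₀ := inferInstanceAs (IsNoetherianRing (H8Lim.fgSub L γ))
  haveI : IsNoetherian (Spec (CommRingCat.of R₀)) := inferInstance
  haveI : IsOpenImmersion f₀ := inferInstanceAs (IsOpenImmersion U₀.ι)
  haveI : CompactSpace U₀.toScheme :=
    isCompact_iff_compactSpace.1 (NoetherianSpace.isCompact _)
  haveI : QuasiSeparatedSpace U₀.toScheme := inferInstance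
  let UL := FEt.puncturedSpec L
  have hpre : c.π.app i₀ ⁻¹ᵁ U₀ = UL := by
    refine Opens.ext (Set.ext fun p => not_congr ⟨fun h => ?_, fun h => ?_⟩)
    · refine PrimeSpectrum.ext (le_antisymm (le_maximalIdeal (R := L) p.2.ne_top) ?_)
      show maximalIdeal L ≤ p.asIdeal
      rw [← hγ, Ideal.span_le]
      intro x hx
      exact h (show (⟨x, Algebra.subset_adjoin hx⟩ : R₀) ∈ Z₀ from hx)
    · intro x hx
      have h' : p.asIdeal = maximalIdeal L := congrArg (fun t : PrimeSpectrum L => t.asIdeal) h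
      show (x : L) ∈ p.asIdeal
      rw [h']
      rw [← hγ]
      exact Ideal.subset_span hx
  obtain ⟨q, sq⟩ : ∃ q : (UL : Scheme.{u}) ⟶ U₀, IsPullback q UL.ι f₀ (c.π.app i₀) := by
    rw [← hpre]
    exact ⟨_, isPullback_morphismRestrict _ _⟩
  let hlim := H8Lim.isLimitStageCone f₀ q UL.ι sq hc
  obtain ⟨l, W₀, w₀, qW, _, _, sqW⟩ := FEtQuot.FieldLimit.exists_stage_finEt (D := H8Lim.stage D f₀) hlim V.hom
  let W : FEt.Cat ((H8Lim.stage D f₀).obj l) := MorphismProperty.Over.mk ⊤ w₀ ⟨‹_›, ‹_›⟩
  -- the smooth algebra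
  let s : Finset L := l.left.unop
  have hγs : γ ⊆ s := CategoryTheory.leOfHom l.hom.unop
  let C₀ := Algebra.adjoin A (s : Set L)
  haveI : Algebra.FiniteType A C₀ := .adjoin_of_finite s.finite_toSet
  haveI : Algebra.FinitePresentation A C₀ := Algebra.FinitePresentation.of_finiteType.1 inferInstance
  obtain ⟨C, _, _, hC, g, h, hgh⟩ := hind C₀ inferInstance C₀.val
  haveI := hC
  let incl : H8Lim.fgSub L s →+* C₀ :=
    { toFun := fun x => ⟨x.1, (Algebra.adjoin_le (S := C₀.restrictScalars ℤ) Algebra.subset_adjoin) x.2⟩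
      map_one' := rfl, map_mul' := fun _ _ => rfl, map_zero' := rfl, map_add' := fun _ _ => rfl }
  let q₀ := (maximalIdeal L).comap h.toRingHom
  haveI : q₀.IsPrime := Ideal.comap_isPrime _ _
  let S := Localization.AtPrime q₀
  haveI : IsNoetherianRing C := Algebra.FiniteType.isNoetherianRing A C
  haveI : IsNoetherianRing S := IsLocalization.isNoetherianRing q₀.primeCompl _ inferInstance
  have hu : ∀ y : q₀.primeCompl, IsUnit (h.toRingHom y) := fun y => by
    by_contra hy
    exact y.2 ((mem_maximalIdeal _).2 hy)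
  let hS : S →+* L := IsLocalization.lift hu
  have hhS : ∀ x : C, hS (algebraMap C S x) = h x := fun x => IsLocalization.lift_eq hu x
  have hSA : ∀ a : A, hS (algebraMap A S a) = algebraMap A L a := fun a => by
    rw [IsScalarTower.algebraMap_apply A C S, hhS, AlgHom.commutes]
  haveI : IsLocalHom hS := ((IsLocalRing.local_hom_TFAE hS).out 4 0).1 (by
    refine le_antisymm (le_maximalIdeal (Ideal.comap_ne_top _ (maximalIdeal.isMaximal L).ne_top)) ?_
    rw [← IsLocalization.AtPrime.map_eq_maximalIdeal q₀ S, Ideal.map_le_iff_le_comap]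
    intro x hx
    rw [Ideal.mem_comap, Ideal.mem_comap, hhS]
    exact hx)
  let ε : H8Lim.fgSub L s →+* S := (algebraMap C S).comp (g.toRingHom.comp incl)
  have hεL : hS.comp ε = (H8Lim.fgSub L s).val.toRingHom := RingHom.ext fun x => by
    show hS (algebraMap C S (g (incl x))) = x.1
    rw [hhS]
    exact DFunLike.congr_fun hgh (incl x)
  let ν : Spec (CommRingCat.of L) ⟶ Spec (CommRingCat.of S) := Spec.map (CommRingCat.ofHom hS)
  let μ : Spec (CommRingCat.of S) ⟶ D.obj l.left := Spec.map (CommRingCat.ofHom ε)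
  have hνμ : ν ≫ μ = c.π.app l.left := by
    show Spec.map _ ≫ Spec.map _ = Spec.map _
    rw [← Spec.map_comp, ← CommRingCat.ofHom_comp, hεL]
    rfl
  let σ := H8Lim.stageSnd D f₀ l
  haveI : IsOpenImmersion σ := MorphismProperty.of_isPullback (H8Lim.isPullback_stage D f₀ l) inferInstance
  let UC : (Spec (CommRingCat.of S)).Opens := μ ⁻¹ᵁ σ.opensRange
  haveI : IsNoetherian (Spec (CommRingCat.of S)) := inferInstance
  let t : (UC : Scheme.{u}) ⟶ (H8Lim.stage D f₀).obj l := IsOpenImmersion.lift σ (UC.ι ≫ μ) (by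
    rintro _ ⟨z, rfl⟩
    exact z.2)
  have htσ : t ≫ σ = UC.ι ≫ μ := IsOpenImmersion.lift_fac _ _ _
  -- purity outside `UC`
  haveI : IsLocalHom (algebraMap A S) := ⟨fun a ha => isUnit_of_map_unit (algebraMap A L) a (hSA a ▸ ha.map hS)⟩
  haveI : Algebra.FormallySmooth C S := Algebra.FormallySmooth.of_isLocalization q₀.primeCompl
  haveI : Algebra.FormallySmooth A S := Algebra.FormallySmooth.comp A C S
  haveI : Algebra.EssFiniteType C S := Algebra.EssFiniteType.of_isLocalization S q₀.primeCompl
  haveI : Algebra.EssFiniteType A S := Algebra.EssFiniteType.comp A C S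
  have hprime := isPrime_map_maximalIdeal (A := A) (B := S) CAlgH.AdicSmooth.of_formallySmooth
  have hmem : ∀ Q : PrimeSpectrum S, Q ∉ UC → ∀ x : H8Lim.fgSub L s, (x : L) ∈ γ → ε x ∈ Q.asIdeal := by
    intro Q hQ x hx
    by_contra hxQ
    have hy : (D.map l.hom) (μ Q) ∈ U₀ := fun h0 =>
      hxQ (h0 (show (⟨x.1, Algebra.subset_adjoin hx⟩ : R₀) ∈ Z₀ from hx))
    obtain ⟨w, -, hw⟩ := Scheme.Pullback.exists_preimage_pullback (f := f₀) (g := D.map l.hom) ⟨_, hy⟩ (μ Q) rfl
    exact hQ ⟨w, hw⟩
  have hpur : ∀ Q : Spec (CommRingCat.of S), Q ∉ UC → FEt.PurityHolds ((Spec (CommRingCat.of S)).presheaf.stalk Q) := by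
    intro Q hQ
    have hcont : Q.asIdeal.comap (algebraMap A S) = maximalIdeal A := by
      refine le_antisymm (le_maximalIdeal (Ideal.comap_ne_top _ Q.2.ne_top)) (hα.ge.trans (Ideal.span_le.2 fun a ha => ?_))
      have hx : algebraMap A L a ∈ γ := Finset.mem_union_right _ (Finset.mem_image_of_mem _ ha)
      have h1 := hmem Q hQ ⟨_, Algebra.subset_adjoin (hγs hx)⟩ hx
      have e : incl ⟨algebraMap A L a, Algebra.subset_adjoin (hγs hx)⟩ = algebraMap A C₀ a := Subtype.ext rfl
      show algebraMap A S a ∈ Q.asIdeal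
      rw [IsScalarTower.algebraMap_apply A C S, ← g.commutes a, ← e]
      exact h1
    refine FEtFF.PurityTransfer.purityHolds_of_ringEquiv
      ((StructureSheaf.stalkIso S Q).toRingEquiv : Localization.AtPrime Q.asIdeal ≃+* _) ?_
    refine purityHolds_localization hA Q.asIdeal hcont (fun _ e => ?_) hprime
    obtain ⟨P, hPp, hPle, hPne⟩ := hP
    refine hPne (le_antisymm (le_maximalIdeal hPp.ne_top) ?_)
    rw [← hγ, Ideal.span_le]
    intro x hx
    have h1 := hmem Q hQ ⟨x, Algebra.subset_adjoin (hγs hx)⟩ hx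
    rw [e] at h1
    have h2 : hS (ε ⟨x, Algebra.subset_adjoin (hγs hx)⟩) ∈ ((maximalIdeal A).map (algebraMap A S)).map hS :=
      Ideal.mem_map_of_mem _ h1
    rw [Ideal.map_map, show hS.comp (algebraMap A S) = algebraMap A L from RingHom.ext hSA, ← RingHom.comp_apply, hεL] at h2
    exact hPle h2
  haveI := FEtFF.PurityExtend.essSurj_of_purity_noetherian UC hpur
  let Wbar := (FEt.restrict UC.ι).objPreimage ((FEt.restrict t).obj W)
  have eW := (FEt.restrict UC.ι).objObjPreimageIso ((FEt.restrict t).obj W)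
  -- back to `L`
  let π := H8Lim.stageProj f₀ c q UL.ι sq l
  have hπσ : π ≫ σ = (UL.ι ≫ ν) ≫ μ := by
    rw [Category.assoc, hνμ]
    exact H8Lim.stageProj_snd f₀ c q UL.ι sq l
  have hr : Set.range (UL.ι ≫ ν) ⊆ Set.range UC.ι := by
    rw [Scheme.Opens.range_ι]
    rintro _ ⟨z, rfl⟩
    exact ⟨π z, by rw [← Scheme.Hom.comp_apply, hπσ]; rfl⟩
  let u : (UL : Scheme.{u}) ⟶ UC := IsOpenImmersion.lift UC.ι (UL.ι ≫ ν) hr
  have huι : u ≫ UC.ι = UL.ι ≫ ν := IsOpenImmersion.lift_fac _ _ _
  have hut : u ≫ t = π := by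
    rw [← cancel_mono σ, Category.assoc, htσ, reassoc_of% huι, hπσ, Category.assoc]
  refine ⟨(FEt.restrict ν).obj Wbar, ⟨resSquare UL.ι ν u UC.ι huι.symm Wbar ≪≫
    (FEt.restrict u).mapIso eW ≪≫ resComp u t π hut W ≪≫ ?_⟩⟩
  exact MorphismProperty.Over.isoMk sqW.isoPullback.symm sqW.isoPullback_inv_snd

end Groth.Agent.Purity10
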