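import Groth.Agent.Purity10.AdicSmoothPurity
import Groth.Agent.FEtFF.Punctured
import Groth.Agent.FEtFF.PurityGlobal
import Groth.Agent.EGA43.ConnCount.ComplNowhereDense
import Groth.Agent.FlatMorNoethFib.Basic
import Groth.Agent.S5021

/-! # Purity along smooth morphisms over bases of depth at least two -/

set_option autoImplicit false
set_option linter.style.haveILetI false
set_option backward.isDefEq.respectTransparency false
universe u

open CategoryTheory CategoryTheory.Limits AlgebraicGeometry IsLocalRing TopologicalSpace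

namespace Groth.Agent.Purity10

/-- A point in the closure of an open of the fibre generizes within the fibre into the open. -/
theorem exists_generization_in_fibre {X S : Scheme.{u}} (f : X ⟶ S) [LocallyOfFiniteType f] (U : X.Opens) (s : S)
    {x : X} (hxs : f x = s) (hx : x ∈ closure ((U : Set X) ∩ f ⁻¹' {s})) : ∃ z ∈ U, z ⤳ x ∧ f z = s := by
  let ι := f.fiberι s
  haveI : LocallyOfFiniteType (f.fiberToSpecResidueField s) :=
    (inferInstance : LocallyOfFiniteType (Limits.pullback.snd f (S.fromSpecResidueField s)))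
  haveI : IsLocallyNoetherian (f.fiber s) := LocallyOfFiniteType.isLocallyNoetherian (f.fiberToSpecResidueField s)
  have hr : Set.range ι = f ⁻¹' {s} := f.range_fiberι s
  obtain ⟨x', hx'⟩ := hr.ge hxs
  have hcl : x' ∈ closure (ι ⁻¹' (U : Set X)) := by
    rw [ι.isEmbedding.closure_eq_preimage_closure_image, Set.mem_preimage, Set.image_preimage_eq_inter_range, hr, hx']
    exact hx
  obtain ⟨z', hz', hzx⟩ := EGA43.ConnCount.exists_mem_specializes_of_mem_closure (fun p => by
      obtain ⟨W, hW, hpW, -⟩ := exists_isAffineOpen_mem_and_subset (x := p) (U := ⊤) trivial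
      haveI : IsAffine W.toScheme := hW
      haveI : AlgebraicGeometry.IsNoetherian W.toScheme := {}
      exact ⟨W, W.2.mem_nhds hpW, (inferInstanceAs (NoetherianSpace W.toScheme))⟩)
    (U.2.preimage ι.continuous) hcl
  exact ⟨ι z', hz', hx' ▸ hzx.map ι.continuous, hr.le ⟨z', rfl⟩⟩

/-- Local rings of smooth schemes over points of depth at least two, off the generic points of the fibres, are pure. -/
theorem purityHolds_stalk_of_smooth {X S : Scheme.{u}} (f : X ⟶ S) [Smooth f] [IsLocallyNoetherian S] (x : X)
    (hdepth : (2 : ℕ∞) ≤ _root_.LocCoh.depth (S.presheaf.stalk (f x)) (S.presheaf.stalk (f x)))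
    (hgen : ∃ z : X, z ⤳ x ∧ f z = f x ∧ z ≠ x) :
    (2 : ℕ∞) ≤ _root_.LocCoh.depth (X.presheaf.stalk x) (X.presheaf.stalk x) ∧
      FEt.PurityHolds (X.presheaf.stalk x) := by
  haveI : IsLocallyNoetherian X := LocallyOfFiniteType.isLocallyNoetherian f
  let A := S.presheaf.stalk (f x)
  let B := X.presheaf.stalk x
  letI : Algebra A B := (f.stalkMap x).hom.toAlgebra
  haveI : IsLocalHom (algebraMap A B) := inferInstanceAs (IsLocalHom (f.stalkMap x).hom)
  haveI : Module.Flat A B := Flat.stalkMap f x
  haveI : Algebra.FormallySmooth A B := S5021.formallySmooth_stalk_of_smooth f x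
  refine ⟨hdepth.trans (le_self_add.trans (CAlgH3.depth_add_depth_fibre_le_self (A := A) (B := B))), ?_⟩
  have hfs : CAlgX.IsAdicFormallySmooth A B (maximalIdeal B) := CAlgH.AdicSmooth.of_formallySmooth
  haveI : Algebra.EssFiniteType (ResidueField A) (ResidueField B) := by
    rw [← RingHom.essFiniteType_algebraMap]
    exact FlatMorNoethFib.essFiniteType_residueFieldMap f x
  refine purityHolds_of_adicSmooth_essFiniteType hdepth hfs fun hle => ?_
  obtain ⟨z, hzx, hfz, hne⟩ := hgen
  obtain ⟨q, hq⟩ := Scheme.range_fromSpecStalk.ge hzx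
  refine hne (hq.symm.trans ?_)
  have hqc : Spec.map (f.stalkMap x) q = closedPoint A := by
    refine (S.fromSpecStalk (f x)).isEmbedding.injective ?_
    rw [← Scheme.Hom.comp_apply, Scheme.SpecMap_stalkMap_fromSpecStalk, Scheme.Hom.comp_apply, hq, hfz,
      Scheme.fromSpecStalk_closedPoint]
  rw [show q = closedPoint B from PrimeSpectrum.ext (le_antisymm (le_maximalIdeal q.2.ne_top)
    (hle.trans (Ideal.map_le_iff_le_comap.2 (congrArg PrimeSpectrum.asIdeal hqc).ge))), Scheme.fromSpecStalk_closedPoint]

end Groth.Agent.Purity10
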