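import Groth.Agent.FEtFF.PurityDescent
import Mathlib.AlgebraicGeometry.Morphisms.WeaklyEtale

/-!
# Descent of finite étale extensions along weakly étale covers

As `FEtFF.PurityDescent`, with the extension property of morphisms as a hypothesis.
-/

set_option autoImplicit false
set_option linter.style.haveILetI false
set_option backward.isDefEq.respectTransparency.types false
set_option backward.isDefEq.respectTransparency false
universe u

namespace Groth.Agent.Purity10.SplitDescent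
open CategoryTheory CategoryTheory.Limits AlgebraicGeometry

variable {X U X₁ : Scheme.{u}} (j : U ⟶ X) [IsOpenImmersion j] [QuasiCompact j]
  (f : X₁ ⟶ X) [WeaklyEtale f] [Surjective f] [QuasiCompact f]
  {E : Scheme.{u}} (e : E ⟶ U) {A : Scheme.{u}} (a : A ⟶ X₁) [IsFinite a] [Etale a]
  (w : pullback (a ≫ f) j ⟶ E) (Hw : IsPullback (pullback.fst (a ≫ f) j ≫ a) w f (e ≫ j))
  (huniq : ∀ {Z : Scheme.{u}} (h : Z ⟶ X) (m : Z ⟶ X₁) [WeaklyEtale m], m ≫ f = h →
    ∀ b b' : Z ⟶ A, b ≫ a = m → b' ≫ a = m →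
      pullback.fst h j ≫ b = pullback.fst h j ≫ b' → b = b')
  (hex : ∀ {Z : Scheme.{u}} (h : Z ⟶ X) (m : Z ⟶ X₁) [WeaklyEtale m], m ≫ f = h →
    ∀ c : pullback h j ⟶ A, c ≫ a = pullback.fst h j ≫ m →
      ∃ b : Z ⟶ A, b ≫ a = m ∧ pullback.fst h j ≫ b = c)

/-- The part of a morphism to `A` lying over the open. -/
noncomputable def res {T : Scheme.{u}} (t : T ⟶ X) (b : T ⟶ A) (hb : b ≫ a ≫ f = t) :
    pullback t j ⟶ pullback (a ≫ f) j :=
  pullback.lift (pullback.fst t j ≫ b) (pullback.snd t j) (by rw [Category.assoc, hb, pullback.condition])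

include huniq Hw in
/-- A morphism into `A` from a scheme weakly étale over `X₁` is determined by its image in `E`. -/
theorem ext_of_weaklyEtale {Z : Scheme.{u}} (h : Z ⟶ X) (m : Z ⟶ X₁) [WeaklyEtale m] (hm : m ≫ f = h) (b b' : Z ⟶ A) (hb : b ≫ a = m)
    (hb' : b' ≫ a = m) (h1 : b ≫ a ≫ f = h) (h2 : b' ≫ a ≫ f = h)
    (he : res j f a h b h1 ≫ w = res j f a h b' h2 ≫ w) : b = b' := by
  refine huniq h m hm b b' hb hb' ?_
  have : res j f a h b h1 = res j f a h b' h2 := Hw.hom_ext (by simp [res, hb, hb']) he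
  simpa [res] using congrArg (· ≫ pullback.fst (a ≫ f) j) this

include huniq hex Hw in
/-- The descended cover. -/
theorem exists_extension [IsFinite e] [Etale e] :
    ∃ (V : Scheme.{u}) (v : V ⟶ X) (_ : IsFinite v) (_ : Etale v) (i : pullback v j ≅ E),
      i.hom ≫ e = pullback.snd v j := by
  -- the universal gluing morphism
  let Z := pullback (a ≫ f) f
  let z₀ : Z ⟶ A := pullback.fst (a ≫ f) f
  let z₁ : Z ⟶ X₁ := pullback.snd (a ≫ f) f
  let h : Z ⟶ X := z₀ ≫ a ≫ f
  have hz : z₁ ≫ f = h := pullback.condition.symm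
  let c : pullback h j ⟶ pullback (a ≫ f) j :=
    Hw.lift (pullback.fst h j ≫ z₁) (res j f a h z₀ rfl ≫ w) (by
      have h0 : res j f a h z₀ rfl ≫ pullback.fst (a ≫ f) j = pullback.fst h j ≫ z₀ := pullback.lift_fst _ _ _
      rw [Category.assoc (res j f a h z₀ rfl) w, ← Hw.w, Category.assoc, hz, Category.assoc, reassoc_of% h0])
  have hc1 : (c ≫ pullback.fst (a ≫ f) j) ≫ a = pullback.fst h j ≫ z₁ := by
    rw [Category.assoc]; exact Hw.lift_fst _ _ _
  obtain ⟨b, hb, hbc⟩ := hex h z₁ hz (c ≫ pullback.fst (a ≫ f) j) hc1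
  have hbf : b ≫ a ≫ f = h := by rw [← Category.assoc, hb, hz]
  have hbw : res j f a h b hbf ≫ w = res j f a h z₀ rfl ≫ w := by
    have : res j f a h b hbf = c := by
      rw [← cancel_mono (pullback.fst (a ≫ f) j), res, pullback.lift_fst, hbc]
    rw [this]
    exact Hw.lift_snd _ _ _
  -- pulling the universal morphism back
  let z : ∀ {T : Scheme.{u}} (x₁ : T ⟶ X₁) (v : T ⟶ A), v ≫ a ≫ f = x₁ ≫ f → (T ⟶ Z) :=
    fun x₁ v hv => pullback.lift v x₁ hv
  have hba : ∀ {T : Scheme.{u}} (x₁ : T ⟶ X₁) (v : T ⟶ A) (hv : v ≫ a ≫ f = x₁ ≫ f),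
      (z x₁ v hv ≫ b) ≫ a = x₁ := fun x₁ v hv => by
    rw [Category.assoc, hb]; exact pullback.lift_snd _ _ _
  have hw : ∀ {T : Scheme.{u}} (t : T ⟶ X) (x₁ : T ⟶ X₁) (v : T ⟶ A) (hv : v ≫ a ≫ f = x₁ ≫ f)
      (h1 : (z x₁ v hv ≫ b) ≫ a ≫ f = t) (h2 : v ≫ a ≫ f = t),
      res j f a t (z x₁ v hv ≫ b) h1 ≫ w = res j f a t v h2 ≫ w := fun {T} t x₁ v hv h1 h2 => by
    have hzh : z x₁ v hv ≫ h = t := by
      show z x₁ v hv ≫ z₀ ≫ a ≫ f = t
      rw [← Category.assoc, pullback.lift_fst, h2]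
    let k : pullback t j ⟶ pullback h j :=
      pullback.lift (pullback.fst t j ≫ z x₁ v hv) (pullback.snd t j) (by rw [Category.assoc, hzh, pullback.condition])
    have e1 : res j f a t (z x₁ v hv ≫ b) h1 = k ≫ res j f a h b hbf := by
      apply pullback.hom_ext <;> simp [res, k]
    have e2 : res j f a t v h2 = k ≫ res j f a h z₀ rfl := by
      apply pullback.hom_ext <;> simp [res, k, z, z₀]
    rw [e1, e2, Category.assoc, Category.assoc, hbw]
  -- the cocycle identities
  have hself : z a (𝟙 A) (Category.id_comp _) ≫ b = 𝟙 A := by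
    refine ext_of_weaklyEtale j f e a w Hw huniq (a ≫ f) a rfl _ _ (hba _ _ _) (Category.id_comp a) ?_ (Category.id_comp _) ?_
    · rw [← Category.assoc, hba]
    · exact hw _ _ _ _ _ _
  let Z₃ := pullback h f
  let p : Z₃ ⟶ Z := pullback.fst h f
  let x₂ : Z₃ ⟶ X₁ := pullback.snd h f
  have h02 : (p ≫ z₀) ≫ a ≫ f = x₂ ≫ f := by rw [Category.assoc]; exact pullback.condition
  have h12 : (p ≫ b) ≫ a ≫ f = x₂ ≫ f := by rw [Category.assoc, hbf]; exact pullback.condition
  have hcomp : z x₂ (p ≫ b) h12 ≫ b = z x₂ (p ≫ z₀) h02 ≫ b := by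
    refine ext_of_weaklyEtale j f e a w Hw huniq (x₂ ≫ f) x₂ rfl _ _ (hba _ _ _) (hba _ _ _) ?_ ?_ ?_
    · rw [← Category.assoc, hba]
    · rw [← Category.assoc, hba]
    · rw [hw (x₂ ≫ f) x₂ (p ≫ b) h12 _ h12, hw (x₂ ≫ f) x₂ (p ≫ z₀) h02 _ h02]
      let k : pullback (x₂ ≫ f) j ⟶ pullback h j :=
        pullback.lift (pullback.fst (x₂ ≫ f) j ≫ p) (pullback.snd _ j)
          (by rw [Category.assoc, pullback.condition (f := h) (g := f)]; exact pullback.condition)
      have e1 : res j f a (x₂ ≫ f) (p ≫ b) h12 = k ≫ res j f a h b hbf := by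
        apply pullback.hom_ext <;> simp [res, k]
      have e2 : res j f a (x₂ ≫ f) (p ≫ z₀) h02 = k ≫ res j f a h z₀ rfl := by
        apply pullback.hom_ext <;> simp [res, k]
      rw [e1, e2, Category.assoc, Category.assoc, hbw]
  have hv₀ : ∀ {T : Scheme.{u}} {x₀ x₁ : T ⟶ X₁} (_ : x₀ ≫ f = x₁ ≫ f) (v : Desc.Lifts (Over.mk a) x₀),
      v.1 ≫ a ≫ f = x₁ ≫ f := fun hx v => by
    rw [← Category.assoc, show v.1 ≫ a = _ from v.2, hx]
  let gl : ∀ {T : Scheme.{u}} (x₀ x₁ : T ⟶ X₁), x₀ ≫ f = x₁ ≫ f → Desc.Lifts (Over.mk a) x₀ →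
      Desc.Lifts (Over.mk a) x₁ :=
    fun x₀ x₁ hx v => ⟨z x₁ v.1 (hv₀ hx v) ≫ b, hba _ _ _⟩
  have gl_self : ∀ {T : Scheme.{u}} (x : T ⟶ X₁) (v : Desc.Lifts (Over.mk a) x), gl x x rfl v = v :=
    fun x v => Subtype.ext (by
      show z x v.1 _ ≫ b = v.1
      calc z x v.1 _ ≫ b = v.1 ≫ z a (𝟙 A) (Category.id_comp _) ≫ b := by
            rw [← Category.assoc]
            congr 1
            apply pullback.hom_ext
            · simp [z]
            · simp only [z, Category.assoc, pullback.lift_snd]; exact v.2.symm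
        _ = v.1 := by rw [hself]; exact Category.comp_id _)
  have gl_comp : ∀ {T : Scheme.{u}} (y₀ y₁ y₂ : T ⟶ X₁) (h₀₁ : y₀ ≫ f = y₁ ≫ f) (h₁₂ : y₁ ≫ f = y₂ ≫ f)
      (v : Desc.Lifts (Over.mk a) y₀), gl y₁ y₂ h₁₂ (gl y₀ y₁ h₀₁ v) = gl y₀ y₂ (h₀₁.trans h₁₂) v :=
    fun {T} y₀ y₁ y₂ h₀₁ h₁₂ v => Subtype.ext (by
      show z y₂ (z y₁ v.1 _ ≫ b) _ ≫ b = z y₂ v.1 _ ≫ b
      let k : T ⟶ Z₃ := pullback.lift (z y₁ v.1 (hv₀ h₀₁ v)) y₂ (by
        show z y₁ v.1 _ ≫ z₀ ≫ a ≫ f = _
        rw [← Category.assoc, pullback.lift_fst, hv₀ (h₀₁.trans h₁₂) v])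
      have hkp : k ≫ p = z y₁ v.1 (hv₀ h₀₁ v) := pullback.lift_fst _ _ _
      have hkx : k ≫ x₂ = y₂ := pullback.lift_snd _ _ _
      have e1 : z y₂ (z y₁ v.1 (hv₀ h₀₁ v) ≫ b) (by rw [← Category.assoc, hba, h₁₂]) = k ≫ z x₂ (p ≫ b) h12 := by
        apply pullback.hom_ext
        · simp only [z, Category.assoc, pullback.lift_fst]
          rw [← Category.assoc k, hkp]
        · simp only [z, Category.assoc, pullback.lift_snd]; exact hkx.symm
      have e2 : z y₂ v.1 (hv₀ (h₀₁.trans h₁₂) v) = k ≫ z x₂ (p ≫ z₀) h02 := by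
        apply pullback.hom_ext
        · simp only [z, Category.assoc, pullback.lift_fst]
          rw [← Category.assoc k, hkp, pullback.lift_fst]
        · simp only [z, Category.assoc, pullback.lift_snd]; exact hkx.symm
      rw [e1, e2, Category.assoc, Category.assoc, hcomp])
  let D : Desc.SchDD f :=
    { obj := Over.mk a
      φ := fun T x₀ x₁ hx =>
        { toFun := gl x₀ x₁ hx
          invFun := gl x₁ x₀ hx.symm
          left_inv := fun v => (gl_comp x₀ x₁ x₀ hx hx.symm v).trans (gl_self x₀ v)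
          right_inv := fun v => (gl_comp x₁ x₀ x₁ hx.symm hx v).trans (gl_self x₁ v) }
      φ_natural := fun T T' g x₀ x₁ hx hx' v v' hv' => by
        show z (g ≫ x₁) v'.1 _ ≫ b = g ≫ z x₁ v.1 _ ≫ b
        rw [← Category.assoc g]
        congr 1
        apply pullback.hom_ext <;> simp [z, hv']
      φ_self := fun T x v => gl_self x v
      φ_comp := fun T x₀ x₁ x₂ h₀₁ h₁₂ v => gl_comp x₀ x₁ x₂ h₀₁ h₁₂ v }
  haveI : QuasiCompact D.obj.hom := inferInstanceAs (QuasiCompact a)
  haveI : IsSeparated D.obj.hom := inferInstanceAs (IsSeparated a)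
  haveI : Etale D.obj.hom := inferInstanceAs (Etale a)
  obtain ⟨V, hVq, hVs, hVe, ⟨ε⟩⟩ := FEtDesc.exists_descend f D
  let i₁ : pullback f V.hom ≅ A :=
    { hom := ε.hom.hom.left
      inv := ε.inv.hom.left
      hom_inv_id := congrArg (fun k => k.hom.left) ε.hom_inv_id
      inv_hom_id := congrArg (fun k => k.hom.left) ε.inv_hom_id }
  have hi : i₁.hom ≫ a = pullback.fst f V.hom := Over.w ε.hom.hom
  haveI : IsIso i₁.hom := i₁.isIso_hom
  haveI : IsIso i₁.inv := i₁.isIso_inv
  haveI : IsFinite (pullback.fst f V.hom) := by rw [← hi]; infer_instance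
  haveI := FEtFF.PurityDescent.isFinite_descends f V.hom
  refine ⟨V.left, V.hom, inferInstance, hVe, ?_⟩
  -- the restriction is `E`
  let p₀ := pullback.snd V.hom j ≫ j
  let W := pullback p₀ f
  let r : W ⟶ A := pullback.lift (pullback.snd p₀ f) (pullback.fst p₀ f ≫ pullback.fst V.hom j) (by
    rw [Category.assoc, pullback.condition (f := V.hom), ← pullback.condition (f := p₀)]) ≫ i₁.hom
  have hra : r ≫ a = pullback.snd p₀ f := by rw [Category.assoc, hi, pullback.lift_fst]
  let s : W ⟶ pullback (a ≫ f) j := pullback.lift r (pullback.fst p₀ f ≫ pullback.snd V.hom j) (by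
    rw [← Category.assoc, hra, ← pullback.condition, Category.assoc])
  have hwe : w ≫ e = pullback.snd (a ≫ f) j := by
    rw [← cancel_mono j, Category.assoc, ← Hw.w, Category.assoc, pullback.condition]
  let f' : W ⟶ pullback (e ≫ j) f := pullback.lift (s ≫ w) (pullback.snd p₀ f) (by
    rw [Category.assoc, ← Category.assoc w, hwe, ← Category.assoc, pullback.lift_snd, Category.assoc]
    exact pullback.condition)
  have hs : s ≫ pullback.fst (a ≫ f) j ≫ a = pullback.snd p₀ f := by
    rw [← Category.assoc, pullback.lift_fst, hra]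
  obtain ⟨u, ⟨hu1, hu2⟩, -⟩ := FEtDesc.existsUnique_hom_descend f (FEtFF.PurityDescent.univSubmersive_of_flat f) p₀ (e ≫ j) f'
    (pullback.lift_snd _ _ _) (fun {T} x y hxy => by
      have hxa : ∀ q : T ⟶ W, (q ≫ r) ≫ a = q ≫ pullback.snd p₀ f := fun q => by rw [Category.assoc, hra]
      have hxy' : (x ≫ pullback.snd p₀ f) ≫ f = (y ≫ pullback.snd p₀ f) ≫ f := by
        rw [Category.assoc, Category.assoc, ← pullback.condition, ← Category.assoc, hxy, Category.assoc]
      let v : Desc.Lifts (Over.mk (pullback.fst f V.hom)) (x ≫ pullback.snd p₀ f) :=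
        ⟨x ≫ pullback.lift (pullback.snd p₀ f) (pullback.fst p₀ f ≫ pullback.fst V.hom j) (by
          rw [Category.assoc, pullback.condition (f := V.hom), ← pullback.condition (f := p₀)]),
          by show (_ ≫ _) ≫ pullback.fst f V.hom = _; rw [Category.assoc, pullback.lift_fst]⟩
      have hφ := ε.hom.comm (x ≫ pullback.snd p₀ f) (y ≫ pullback.snd p₀ f) hxy' v
        ⟨x ≫ r, hxa x⟩ (Category.assoc _ _ _).symm
      have hyr : z (y ≫ pullback.snd p₀ f) (x ≫ r) (hv₀ hxy' ⟨x ≫ r, hxa x⟩) ≫ b = y ≫ r := by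
        refine hφ.trans ?_
        show (Desc.canMap f V _ _ hxy' v).1 ≫ i₁.hom = y ≫ _ ≫ i₁.hom
        rw [← Category.assoc y]
        congr 1
        apply pullback.hom_ext
        · simp
        · simp [v, reassoc_of% hxy]
      let t : T ⟶ X := x ≫ s ≫ pullback.snd (a ≫ f) j ≫ j
      have ht1 : (x ≫ r) ≫ a ≫ f = t := by
        simp only [t]
        rw [← pullback.condition, ← Category.assoc s, pullback.lift_fst, Category.assoc]
      have ht2 : (y ≫ r) ≫ a ≫ f = t := by
        rw [← ht1, ← Category.assoc _ a, ← Category.assoc _ a, hxa, hxa, hxy']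
      have key : res j f a t (y ≫ r) ht2 ≫ w = res j f a t (x ≫ r) ht1 ≫ w := by
        have := hw t (y ≫ pullback.snd p₀ f) (x ≫ r) (hv₀ hxy' ⟨x ≫ r, hxa x⟩) (by rw [hyr, ht2]) ht1
        simp only [hyr] at this
        exact this
      let σ : T ⟶ pullback t j := pullback.lift (𝟙 T) (x ≫ s ≫ pullback.snd (a ≫ f) j) (by simp [t])
      have hσ : ∀ (q : T ⟶ W) (ht : (q ≫ r) ≫ a ≫ f = t),
          q ≫ pullback.fst p₀ f = x ≫ pullback.fst p₀ f → σ ≫ res j f a t (q ≫ r) ht = q ≫ s := fun q ht hq => by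
        apply pullback.hom_ext
        · simp [σ, res, s]
          exact Category.id_comp _
        · simp [σ, res, s, reassoc_of% hq]
      simp only [f', pullback.lift_fst]
      rw [← Category.assoc, ← Category.assoc, ← hσ x ht1 rfl, ← hσ y ht2 hxy.symm, Category.assoc, Category.assoc,
        key])
  rw [pullback.lift_fst] at hu2
  have hue : u ≫ e = pullback.snd V.hom j := by
    rw [← cancel_mono j, Category.assoc, hu1]
  haveI : Etale u := by
    haveI : Etale (u ≫ e) := hue ▸ inferInstance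
    exact Etale.of_comp u e
  -- `W` is the base change of `E`
  have HW : IsPullback (pullback.snd p₀ f) (s ≫ w) f (e ≫ j) := by
    haveI : IsIso s := by
      let q : pullback (a ≫ f) j ⟶ pullback V.hom j :=
        pullback.lift (pullback.fst (a ≫ f) j ≫ i₁.inv ≫ pullback.snd f V.hom) (pullback.snd (a ≫ f) j) (by
          have : i₁.inv ≫ pullback.fst f V.hom = a := by rw [Iso.inv_comp_eq, hi]
          rw [Category.assoc, Category.assoc, ← pullback.condition (f := f), reassoc_of% this, pullback.condition])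
      let s' : pullback (a ≫ f) j ⟶ W := pullback.lift q (pullback.fst (a ≫ f) j ≫ a) (by
        simp only [p₀, q, pullback.lift_snd_assoc, Category.assoc]
        exact pullback.condition.symm)
      have hia : i₁.inv ≫ pullback.fst f V.hom = a := by rw [Iso.inv_comp_eq, hi]
      refine ⟨s', ?_, ?_⟩
      · apply pullback.hom_ext
        · apply pullback.hom_ext
          · simp [s', q, s, r]
          · simp [s', q, s]
        · rw [Category.assoc, pullback.lift_snd, hs, Category.id_comp]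
      · apply pullback.hom_ext
        · rw [Category.assoc, pullback.lift_fst, Category.id_comp, ← cancel_mono i₁.inv]
          apply pullback.hom_ext
          · simp [r, s', hia]
          · simp [r, s', q]
        · simp [s, s', q]
    exact Hw.of_iso (asIso s).symm (Iso.refl _) (Iso.refl _) (Iso.refl _) (by simp [hs]) (by simp) (by simp) (by simp)
  let g := pullback.fst (e ≫ j) f
  have H2 : IsPullback (pullback.fst p₀ f) f' u g := by
    refine IsPullback.of_bot (v₂₁ := pullback.snd (e ≫ j) f) (v₂₂ := e ≫ j) (h₃₁ := f) ?_ ?_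
      (IsPullback.of_hasPullback _ _)
    · rw [pullback.lift_snd, hu1]; exact IsPullback.of_hasPullback p₀ f
    · rw [pullback.lift_fst]; exact hu2.symm
  haveI : IsIso f' := by
    have : f' = HW.flip.isoPullback.hom := by
      apply pullback.hom_ext
      · rw [IsPullback.isoPullback_hom_fst, pullback.lift_fst]
      · rw [IsPullback.isoPullback_hom_snd, pullback.lift_snd]
    rw [this]; infer_instance
  haveI : IsIso (pullback.snd u g) := by
    rw [← H2.isoPullback_inv_snd]; infer_instance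
  haveI : Surjective g := MorphismProperty.pullback_fst _ _ inferInstance
  haveI : IsIso u := FEtDesc.isIso_of_etale_of_pullback u g
  exact ⟨asIso u, hue⟩


end Groth.Agent.Purity10.SplitDescent
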