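import Groth.Agent.H8Top.SchemeBasic
import Groth.Agent.FEtFF.EqLocus
import Groth.Agent.S1412
import Groth.Agent.HenselLib.Olivier
import Groth.Agent.HenselLib.WLocAtPoint
import Mathlib.AlgebraicGeometry.Morphisms.WeaklyEtale

/-!
# Sections of split covers extend from the punctured spectrum along weakly étale morphisms

Over a strictly henselian local ring with connected punctured spectrum.
-/

set_option autoImplicit false
set_option linter.style.haveILetI false
set_option backward.isDefEq.respectTransparency.types false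
set_option backward.isDefEq.respectTransparency false
set_option linter.overlappingInstances false

universe u

open CategoryTheory CategoryTheory.Limits AlgebraicGeometry IsLocalRing TopologicalSpace

namespace Groth.Agent.Purity10.SplitExtend

/-- The generizations of a point over the closed point map isomorphically. -/
theorem exists_section {R : Type u} [CommRing R] [IsLocalRing R] [HenselianLocalRing R]
    [IsSepClosed (ResidueField R)] {Z : Scheme.{u}} (m : Z ⟶ Spec (CommRingCat.of R)) [WeaklyEtale m]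
    (q : Z) (hq : m q = closedPoint R) :
    ∃ σ : Spec (CommRingCat.of R) ⟶ Z, σ ≫ m = 𝟙 _ ∧ σ (closedPoint R) = q ∧
      Set.range σ = {z | z ⤳ q} := by
  obtain ⟨h1, h2⟩ := (S1412.result m).1 inferInstance q
  letI := (m.stalkMap q).hom.toAlgebra
  haveI : Module.Flat ((Spec (CommRingCat.of R)).presheaf.stalk (m q)) (Z.presheaf.stalk q) := h1
  haveI : Algebra.WeaklyEtale ((Spec (CommRingCat.of R)).presheaf.stalk (m q)) (Z.presheaf.stalk q) :=
    ⟨h1, h2⟩
  haveI : IsLocalHom (algebraMap ((Spec (CommRingCat.of R)).presheaf.stalk (m q)) (Z.presheaf.stalk q)) :=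
    inferInstanceAs (IsLocalHom (m.stalkMap q).hom)
  let e : R ≃+* (Spec (CommRingCat.of R)).presheaf.stalk (m q) :=
    (((Spec (CommRingCat.of R)).presheaf.stalkCongr (.of_eq hq)) ≪≫
      stalkClosedPointIso (CommRingCat.of R)).commRingCatIsoToRingEquiv.symm
  obtain ⟨i1, i2⟩ := HenselLib.WLoc.strictlyHenselian_of_equiv e ⟨inferInstance, inferInstance⟩
  haveI := i1
  haveI := i2
  haveI : IsIso (m.stalkMap q) := (ConcreteCategory.isIso_iff_bijective _).mpr
    (HenselLib.Olivier.bijective (A := (Spec (CommRingCat.of R)).presheaf.stalk (m q)) (B := Z.presheaf.stalk q))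
  have hiso : IsIso ((Spec (CommRingCat.of R)).fromSpecStalk (closedPoint R)) := by
    rw [Spec.fromSpecStalk_eq]
    have : IsIso ((Scheme.ΓSpecIso (CommRingCat.of R)).inv ≫
        (Spec (CommRingCat.of R)).presheaf.germ ⊤ (closedPoint R) trivial) := by
      rw [← ΓSpecIso_hom_stalkClosedPointIso_inv]
      infer_instance
    infer_instance
  haveI : IsIso ((Spec (CommRingCat.of R)).fromSpecStalk (m q)) := by rw [hq]; exact hiso
  let k := Spec.map (m.stalkMap q) ≫ (Spec (CommRingCat.of R)).fromSpecStalk (m q)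
  haveI : IsIso k := inferInstance
  let σ := inv k ≫ Z.fromSpecStalk q
  have hsurj : Function.Surjective (inv k) := fun y => ⟨k y, by
    rw [← Scheme.Hom.comp_apply, IsIso.hom_inv_id]; rfl⟩
  have hσ : σ ≫ m = 𝟙 _ := by
    rw [Category.assoc, ← Scheme.SpecMap_stalkMap_fromSpecStalk]
    exact IsIso.inv_hom_id k
  have hrange : Set.range σ = {z | z ⤳ q} := by
    rw [show σ = inv k ≫ Z.fromSpecStalk q from rfl]
    ext z
    rw [← Scheme.range_fromSpecStalk]
    constructor
    · rintro ⟨y, rfl⟩; exact ⟨inv k y, (Scheme.Hom.comp_apply _ _ _).symm⟩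
    · rintro ⟨y, rfl⟩
      obtain ⟨y', rfl⟩ := hsurj y
      exact ⟨y', Scheme.Hom.comp_apply _ _ _⟩
  refine ⟨σ, hσ, ?_, hrange⟩
  obtain ⟨y, hy⟩ : q ∈ Set.range σ := by rw [hrange]; exact specializes_rfl
  have : m (σ y) = y := by rw [← Scheme.Hom.comp_apply, hσ]; rfl
  rw [hy, hq] at this
  rw [this, hy]

section

variable {R : Type u} [CommRing R] [IsLocalRing R] [HenselianLocalRing R] [IsSepClosed (ResidueField R)]
  {ι : Type u} [Finite ι] {Z W : Scheme.{u}} (m : Z ⟶ Spec (CommRingCat.of R)) [WeaklyEtale m]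
  (k : W ⟶ Z) [IsOpenImmersion k] (hk : Set.range k = m ⁻¹' {closedPoint R}ᶜ)

include hk in
theorem exists_section_preimage (q : Z) (hq : q ∉ Set.range k) :
    ∃ σ : Spec (CommRingCat.of R) ⟶ Z, Set.range σ = {z | z ⤳ q} ∧
      σ ⁻¹' Set.range k = {closedPoint R}ᶜ := by
  have hmq : m q = closedPoint R := by simpa [hk] using hq
  obtain ⟨σ, hσ, -, hr⟩ := exists_section m q hmq
  refine ⟨σ, hr, Set.ext fun x => ?_⟩
  have : m (σ x) = x := by rw [← Scheme.Hom.comp_apply, hσ]; rfl
  rw [hk, Set.mem_preimage, Set.mem_preimage, this]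

variable (hconn : _root_.IsConnected ({closedPoint R}ᶜ : Set (PrimeSpectrum R)))

include hk hconn in
theorem exists_generization (q : Z) : ∃ z, z ⤳ q ∧ z ∈ Set.range k := by
  by_cases hq : q ∈ Set.range k
  · exact ⟨q, specializes_rfl, hq⟩
  obtain ⟨σ, hr, hpre⟩ := exists_section_preimage m k hk q hq
  obtain ⟨x, hx⟩ := hconn.nonempty
  refine ⟨σ x, ?_, ?_⟩
  · have : σ x ∈ Set.range σ := ⟨x, rfl⟩
    rwa [hr] at this
  · show x ∈ σ ⁻¹' Set.range k
    rw [hpre]; exact hx

include hk hconn in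
/-- Morphisms into a finite étale scheme are determined on the preimage of the punctured spectrum. -/
theorem hom_ext {A : Scheme.{u}} (a : A ⟶ Spec (CommRingCat.of R)) [IsFinite a] [Etale a]
    (b b' : Z ⟶ A) (hb : b ≫ a = m) (hb' : b' ≫ a = m) (e : k ≫ b = k ≫ b') : b = b' :=
  FEtFF.EqLocus.eq_of_agree a b b' (hb.trans hb'.symm) k e fun v => by
    obtain ⟨z, hz, x, rfl⟩ := exists_generization m k hk hconn v
    exact ⟨k x, x, hz, specializes_rfl⟩

variable (ι) in
/-- The trivial cover. -/
noncomputable abbrev triv (X : Scheme.{u}) : (∐ fun _ : ι => X) ⟶ X := Sigma.desc fun _ => 𝟙 X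

include hk hconn in
/-- Morphisms into a trivial cover extend from the preimage of the punctured spectrum. -/
theorem exists_hom [QuasiCompact k] (c : W ⟶ ∐ fun _ : ι => Spec (CommRingCat.of R))
    (hc : c ≫ triv ι (Spec (CommRingCat.of R)) = k ≫ m) :
    ∃ b : Z ⟶ ∐ fun _ : ι => Spec (CommRingCat.of R),
      b ≫ triv ι (Spec (CommRingCat.of R)) = m ∧ k ≫ b = c := by
  classical
  let S : ι → Scheme.{u} := fun _ => Spec (CommRingCat.of R)
  haveI hqcι : ∀ i, QuasiCompact (Sigma.ι S i) := fun i => inferInstance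
  let P : ∀ i, pullback c (Sigma.ι S i) ⟶ W := fun i => pullback.fst _ _
  let ki : ∀ i, pullback c (Sigma.ι S i) ⟶ Z := fun i => P i ≫ k
  have hP : ∀ i, Set.range (P i) = c ⁻¹' Set.range (Sigma.ι S i) := fun i => Scheme.Pullback.range_fst c _
  have hdisjP : ∀ i j (w : W), w ∈ Set.range (P i) → w ∈ Set.range (P j) → i = j := fun i j w hi hj => by
    rw [hP] at hi hj
    by_contra h
    exact Set.disjoint_left.1 (Opens.coe_disjoint.2 (disjoint_opensRange_sigmaι S i j h)) hi hj
  have hcovW : ∀ w : W, ∃ i, w ∈ Set.range (P i) := fun w => by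
    obtain ⟨⟨i, x⟩, hx⟩ := (sigmaMk S).surjective (c w)
    rw [AlgebraicGeometry.sigmaMk_mk] at hx
    exact ⟨i, by rw [hP]; exact ⟨x, hx⟩⟩
  have hmem : ∀ i (w : W), k w ∈ Set.range (ki i) ↔ w ∈ Set.range (P i) := fun i w => by
    constructor
    · rintro ⟨x, hx⟩
      exact ⟨x, k.isOpenEmbedding.injective (by rw [← Scheme.Hom.comp_apply]; exact hx)⟩
    · rintro ⟨x, rfl⟩; exact ⟨x, Scheme.Hom.comp_apply _ _ _⟩
  -- a point determines the piece of its generizations
  have key : ∀ q : Z, ∃ i, ∀ z, z ⤳ q → ∀ j, z ∈ Set.range (ki j) → j = i := by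
    intro q
    by_cases hq : q ∈ Set.range k
    · obtain ⟨w, rfl⟩ := hq
      obtain ⟨i, hi⟩ := hcovW w
      refine ⟨i, fun z hz j hj => ?_⟩
      obtain ⟨x, rfl⟩ := hj
      have hz' : P j x ⤳ w := k.isOpenEmbedding.isInducing.specializes_iff.1
        (by rw [← Scheme.Hom.comp_apply]; exact hz)
      refine hdisjP j i (P j x) ⟨x, rfl⟩ ?_
      exact hz'.mem_open (P i).isOpenEmbedding.isOpen_range hi
    · obtain ⟨σ, hr, hpre⟩ := exists_section_preimage m k hk q hq
      obtain ⟨p₀, hp₀⟩ := hconn.nonempty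
      obtain ⟨w₀, hw₀⟩ : σ p₀ ∈ Set.range k := by
        show p₀ ∈ σ ⁻¹' Set.range k
        rw [hpre]; exact hp₀
      obtain ⟨i, hi⟩ := hcovW w₀
      have hsub : σ '' {closedPoint R}ᶜ ⊆ Set.range (ki i) := by
        refine (hconn.isPreconnected.image σ σ.continuous.continuousOn).subset_left_of_subset_union
          (v := ⋃ j ∈ ({i}ᶜ : Set ι), Set.range (ki j)) (ki i).isOpenEmbedding.isOpen_range
          (isOpen_biUnion fun j _ => (ki j).isOpenEmbedding.isOpen_range) ?_ ?_ ?_
        · rw [Set.disjoint_left]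
          rintro z ⟨x, rfl⟩ hz
          simp only [Set.mem_iUnion₂] at hz
          obtain ⟨j, hj, hz⟩ := hz
          rw [Scheme.Hom.comp_apply, hmem] at hz
          exact hj (hdisjP j i _ hz ⟨x, rfl⟩)
        · rintro _ ⟨p, hp, rfl⟩
          rw [← hpre] at hp
          obtain ⟨w, hw⟩ := hp
          obtain ⟨j, hj⟩ := hcovW w
          rw [← hw]
          by_cases hji : j = i
          · subst hji; exact Or.inl ((hmem _ _).2 hj)
          · exact Or.inr (Set.mem_biUnion hji ((hmem _ _).2 hj))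
        · exact ⟨σ p₀, ⟨p₀, hp₀, rfl⟩, by rw [← hw₀]; exact (hmem _ _).2 hi⟩
      refine ⟨i, fun z hz j hj => ?_⟩
      obtain ⟨p, rfl⟩ : z ∈ Set.range σ := by rw [hr]; exact hz
      obtain ⟨x, hx⟩ := hj
      have hp : p ∈ σ ⁻¹' Set.range k := ⟨P j x, by rw [← Scheme.Hom.comp_apply]; exact hx⟩
      rw [hpre] at hp
      have h2 := hsub ⟨p, hp, rfl⟩
      rw [← hx, Scheme.Hom.comp_apply, hmem] at h2
      exact hdisjP j i _ ⟨x, rfl⟩ h2
  -- the closures of the pieces
  let C : ι → Set Z := fun i => closure (Set.range (ki i))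
  have hdisj : ∀ i j (z : Z), z ∈ C i → z ∈ C j → i = j := fun i j z hi hj => by
    obtain ⟨l, hl⟩ := key z
    obtain ⟨x, hx⟩ := H8Top.exists_specializes_of_mem_closure_range (ki i) hi
    obtain ⟨y, hy⟩ := H8Top.exists_specializes_of_mem_closure_range (ki j) hj
    rw [hl _ hx i ⟨x, rfl⟩, hl _ hy j ⟨y, rfl⟩]
  have hcov : ∀ z : Z, ∃ i, z ∈ C i := fun z => by
    obtain ⟨z', hz', w, rfl⟩ := exists_generization m k hk hconn z
    obtain ⟨i, hi⟩ := hcovW w
    exact ⟨i, hz'.mem_closed isClosed_closure (subset_closure ((hmem i w).2 hi))⟩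
  have hopen : ∀ i, IsOpen (C i) := fun i => by
    have : C i = (⋃ j ∈ ({i}ᶜ : Set ι), C j)ᶜ := by
      ext z
      simp only [Set.mem_compl_iff, Set.mem_iUnion₂, not_exists]
      constructor
      · intro h j hj hz; exact hj (hdisj j i z hz h)
      · intro h
        obtain ⟨j, hj⟩ := hcov z
        by_cases hji : j = i
        · subst hji; exact hj
        · exact (h j hji hj).elim
    rw [this]
    exact ((Set.toFinite _).isClosed_biUnion fun j _ => isClosed_closure).isOpen_compl
  let O : ι → Z.Opens := fun i => ⟨C i, hopen i⟩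
  obtain ⟨hO⟩ := nonempty_isColimit_cofanMk_of (fun i => (O i).ι)
    (by
      ext z
      simp only [Opens.coe_iSup, Set.mem_iUnion, Opens.coe_top, Set.mem_univ, iff_true]
      obtain ⟨i, hi⟩ := hcov z
      exact ⟨i, by rw [Scheme.Opens.opensRange_ι]; exact hi⟩)
    (fun i j hij => by
      simp only [Function.onFun, Scheme.Opens.opensRange_ι]
      rw [← Opens.coe_disjoint, Set.disjoint_left]
      exact fun z hi hj => hij (hdisj i j z hi hj))
  let b : Z ⟶ ∐ S := Cofan.IsColimit.desc hO fun i => (O i).ι ≫ m ≫ Sigma.ι S i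
  have hb : ∀ i, (O i).ι ≫ b = (O i).ι ≫ m ≫ Sigma.ι S i := fun i => Cofan.IsColimit.fac hO _ i
  refine ⟨b, Cofan.IsColimit.hom_ext hO _ _ fun i => ?_, ?_⟩
  · show (O i).ι ≫ b ≫ _ = (O i).ι ≫ m
    rw [← Category.assoc, hb, Category.assoc, Category.assoc, Sigma.ι_desc]
    simp
  · obtain ⟨hW⟩ := nonempty_isColimit_cofanMk_of P
      (by
        ext z
        simp only [Opens.coe_iSup, Set.mem_iUnion, Opens.coe_top, Set.mem_univ, iff_true]
        exact hcovW z)
      (fun i j hij => by
        simp only [Function.onFun]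
        rw [← Opens.coe_disjoint, Set.disjoint_left]
        exact fun z hi hj => hij (hdisjP i j z hi hj))
    refine Cofan.IsColimit.hom_ext hW _ _ fun i => ?_
    show P i ≫ k ≫ b = P i ≫ c
    have hr : Set.range (ki i) ⊆ Set.range (O i).ι := by
      rw [Scheme.Opens.range_ι]; exact subset_closure
    rw [← Category.assoc, show P i ≫ k = ki i from rfl, ← IsOpenImmersion.lift_fac (O i).ι (ki i) hr,
      Category.assoc, hb, ← Category.assoc (IsOpenImmersion.lift (O i).ι (ki i) hr),
      IsOpenImmersion.lift_fac]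
    have hs : P i ≫ c = pullback.snd _ _ ≫ Sigma.ι S i := pullback.condition
    have hsnd : pullback.snd c (Sigma.ι S i) = P i ≫ k ≫ m := by
      rw [← hc, ← Category.assoc, hs, Category.assoc, Sigma.ι_desc, Category.comp_id]
    rw [hs, hsnd]
    simp [ki]

end

end Groth.Agent.Purity10.SplitExtend
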