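import Groth.Agent.Purity10.SteinSection
import Groth.Agent.HenselLib.LocalHens
import Groth.Agent.Desc19b.Source
import Groth.Agent.HenselLib.HensBase
import Groth.Agent.EGA43.BranchCount.Compare
import Groth.Agent.Props12.Stalks
import Groth.Prelude.Def_Hens2
import Mathlib.AlgebraicGeometry.Morphisms.FlatRank

/-!
# The Stein comparison map is an isomorphism near an étale split component
-/

set_option autoImplicit false
set_option linter.style.haveILetI false
set_option linter.overlappingInstances false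
set_option backward.isDefEq.respectTransparency.types false
set_option backward.isDefEq.respectTransparency false
set_option synthInstance.maxHeartbeats 400000
set_option maxHeartbeats 2000000

universe u

open CategoryTheory CategoryTheory.Limits AlgebraicGeometry TopologicalSpace IsLocalRing

namespace Groth.Agent.Purity10.SteinEtale

open SteinSection

variable {X X' S N : Scheme.{u}} [IsLocallyNoetherian S] (f : X ⟶ S) [IsProper f] [GeometricallyConnected f]
  (hf : ∀ V : S.Opens, Function.Bijective (f.app V).hom)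
  (g : X' ⟶ X) [IsProper g] (π : N ⟶ S) [IsFinite π] (t : X' ⟶ N) [IsProper t]
  [GeometricallyConnected t] (ht : ∀ V : N.Opens, Function.Bijective (t.app V).hom)
  (hgt : t ≫ π = g ≫ f)
  (c : X' ⟶ pullback f π) (hc₁ : c ≫ pullback.fst f π = g) (hc₂ : c ≫ pullback.snd f π = t)

include hf ht hgt hc₁ hc₂ in
theorem exists_nhd (s : S) (s' : N) (hs' : π s' = s)
    (C : (pullback (g ≫ f) (S.fromSpecResidueField s)).Opens)
    (hC : ∀ z, t (pullback.fst (g ≫ f) (S.fromSpecResidueField s) z) = s' → z ∈ C)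
    (het : ∀ x' : X', t x' = s' → x' ∈ Pi1X.etaleLocus g)
    (mp : (C : Scheme.{u}) ⟶ pullback f (S.fromSpecResidueField s))
    (hmp₁ : mp ≫ pullback.fst f _ = C.ι ≫ pullback.fst (g ≫ f) _ ≫ g)
    (hmp₂ : mp ≫ pullback.snd f _ = C.ι ≫ pullback.snd (g ≫ f) _)
    (hmpF : IsFinite mp) (hmpE : Etale mp)
    (hsplit : SplitData.HasSplitting (pullback.snd mp (pullback.fst (pullback.snd f (S.fromSpecResidueField s))
      (Spec.map (CommRingCat.ofHom (algebraMap (S.residueField s) (AlgebraicClosure (S.residueField s)))))))) :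
    ∃ U' : N.Opens, s' ∈ U' ∧ Etale (U'.ι ≫ π) ∧ IsIso (c ∣_ (pullback.snd f π ⁻¹ᵁ U')) := by
  let A := S.presheaf.stalk s
  let R := HenselLib.LocalSH A
  haveI hSH : Hensel.IsStrictHenselization A R := HenselLib.isStrictHenselization_localSH
  haveI := hSH.henselian
  haveI := hSH.isSepClosure
  haveI : IsSepClosed (ResidueField R) := IsSepClosure.sep_closed (ResidueField A)
  haveI := EGA43.BranchCount.weaklyEtale_of_isStrictHenselization A R
  let σ : Spec (CommRingCat.of R) ⟶ S := Hens2.specOf S s R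
  haveI : Flat (Spec.map (CommRingCat.ofHom (algebraMap A R))) := by
    rw [HasRingHomProperty.Spec_iff (P := @Flat)]
    exact RingHom.flat_algebraMap_iff.mpr inferInstance
  haveI : Flat σ := inferInstance
  have hσ : σ (closedPoint R) = s := by
    show (Spec.map (CommRingCat.ofHom (algebraMap A R)) ≫ S.fromSpecStalk s) (closedPoint R) = s
    rw [Scheme.Hom.comp_apply]
    exact (congrArg (S.fromSpecStalk s) (comap_closedPoint (algebraMap A R))).trans Scheme.fromSpecStalk_closedPoint
  obtain ⟨jR, hjflat, hjR, hjs, gP, hgP, hgP₁, hgP₂⟩ :=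
    exists_section f hf g π t ht hgt s s' hs' C hC het mp hmp₁ hmp₂ hmpF hmpE hsplit R σ hσ
  -- `π` is étale at `s'`
  haveI : LocallyOfFinitePresentation π := inferInstance
  have hflat : (π.stalkMap s').hom.Flat := by
    haveI : Flat (jR ≫ π) := by rw [hjR]; infer_instance
    have h := Flat.stalkMap (jR ≫ π) (closedPoint R)
    rw [← hjs]
    exact (Desc19b.flat_stalkMap_comp_iff jR π (closedPoint R) (Flat.stalkMap jR _)).mp h
  have hunr : (π.stalkMap s').hom.FormallyUnramified := by
    have e := LocallyOfFiniteType.stalkMap π s'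
    subst hs'
    let ψ : N.presheaf.stalk s' ⟶ CommRingCat.of R :=
      N.presheaf.stalkSpecializes (specializes_of_eq hjs) ≫ jR.stalkMap (closedPoint R) ≫
        (stalkClosedPointIso (CommRingCat.of R)).hom
    have hψ : π.stalkMap s' ≫ ψ = CommRingCat.ofHom (algebraMap A R) := by
      apply Spec.map_injective
      rw [← cancel_mono (S.fromSpecStalk (π s'))]
      show _ = σ
      rw [Spec.map_comp, Category.assoc, Scheme.SpecMap_stalkMap_fromSpecStalk, ← hjR, ← Category.assoc]
      congr 1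
      simp only [ψ, Spec.map_comp, Category.assoc, Scheme.SpecMap_stalkSpecializes_fromSpecStalk,
        Scheme.SpecMap_stalkMap_fromSpecStalk]
      rw [← Category.assoc]
      refine Eq.trans ?_ (Category.id_comp jR)
      congr 1
      rw [Spec.fromSpecStalk_eq, ← Spec.map_comp, ← Spec.map_id, ← ΓSpecIso_hom_stalkClosedPointIso_inv]
      congr 1
      simp
    haveI : IsLocalHom ψ.hom := by
      haveI : IsLocalHom (stalkClosedPointIso (CommRingCat.of R)).hom.hom := IsLocalHom.of_surjective _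
        (ConcreteCategory.bijective_of_isIso (stalkClosedPointIso (CommRingCat.of R)).hom).2
      haveI : IsLocalHom (N.presheaf.stalkSpecializes (specializes_of_eq hjs)).hom := by
        haveI := FlatLocal.isIso_stalkSpecializes_of_eq hjs
        exact IsLocalHom.of_surjective _
          (ConcreteCategory.bijective_of_isIso (N.presheaf.stalkSpecializes (specializes_of_eq hjs))).2
      simp only [ψ, CommRingCat.hom_comp]
      infer_instance
    have hψflat : ψ.hom.Flat := by
      simp only [ψ, CommRingCat.hom_comp]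
      haveI := FlatLocal.isIso_stalkSpecializes_of_eq hjs
      exact RingHom.Flat.comp (RingHom.Flat.of_bijective (ConcreteCategory.bijective_of_isIso
          (N.presheaf.stalkSpecializes (specializes_of_eq hjs))))
        (RingHom.Flat.comp (Flat.stalkMap jR (closedPoint R))
          (RingHom.Flat.of_bijective (ConcreteCategory.bijective_of_isIso (stalkClosedPointIso (CommRingCat.of R)).hom)))
    letI := (π.stalkMap s').hom.toAlgebra
    letI : Algebra (N.presheaf.stalk s') R := ψ.hom.toAlgebra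
    haveI : IsScalarTower (S.presheaf.stalk (π s')) (N.presheaf.stalk s') R :=
      IsScalarTower.of_algebraMap_eq fun x => (congr($hψ x)).symm
    haveI : IsLocalHom (algebraMap (S.presheaf.stalk (π s')) (N.presheaf.stalk s')) :=
      inferInstanceAs (IsLocalHom (π.stalkMap s').hom)
    haveI : IsLocalHom (algebraMap (N.presheaf.stalk s') R) := ‹IsLocalHom ψ.hom›
    haveI : Module.Flat (N.presheaf.stalk s') R := RingHom.flat_algebraMap_iff.mp hψflat
    haveI : Algebra.EssFiniteType (S.presheaf.stalk (π s')) (N.presheaf.stalk s') :=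
      RingHom.essFiniteType_algebraMap.mp e
    haveI hS : Algebra.IsSeparable (ResidueField A) (ResidueField R) := hSH.isSepClosure.separable
    exact RingHom.formallyUnramified_algebraMap.mpr
      (SteinGeom.formallyUnramified_of_comp (A := S.presheaf.stalk (π s')) (C := R)
        (HenselLib.HensBase.map_maximalIdeal_of_isStrictHenselization A R) hS)
  obtain ⟨U₁, hs'U, hU₁⟩ := (FlatLocal.etale_nhd_iff π s').2 ⟨hflat, hunr⟩
  -- the comparison map is finite étale near the fibre
  let p₁ := pullback.fst f π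
  let p₂ := pullback.snd f π
  haveI : IsProper (c ≫ p₁) := by rw [hc₁]; infer_instance
  haveI : IsProper c := IsProper.of_comp c p₁
  let E := Pi1X.etaleLocus g
  have hBcl : IsClosed (c '' (E : Set X')ᶜ) := c.isClosedMap _ E.2.isClosed_compl
  let O : (pullback f π).Opens := p₂ ⁻¹ᵁ U₁ ⊓ ⟨(c '' (E : Set X')ᶜ)ᶜ, hBcl.isOpen_compl⟩
  have hfibO : ∀ z, p₂ z = s' → z ∈ O := fun z hz => by
    refine ⟨show p₂ z ∈ U₁ by rw [hz]; exact hs'U, ?_⟩
    rintro ⟨x', hx', rfl⟩
    exact hx' (het x' (by rw [← hc₂, Scheme.Hom.comp_apply]; exact hz))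
  haveI : Etale (O.ι ≫ p₁) := by
    have hp : Etale ((p₂ ⁻¹ᵁ U₁).ι ≫ p₁) := MorphismProperty.of_isPullback (P := @Etale)
      ((isPullback_morphismRestrict p₂ U₁).flip.paste_horiz (IsPullback.of_hasPullback f π)).flip hU₁
    rw [← Scheme.homOfLE_ι _ (U := O) (V := p₂ ⁻¹ᵁ U₁) inf_le_left, Category.assoc]
    infer_instance
  haveI : Etale (c ∣_ O) := by
    have hle : c ⁻¹ᵁ O ≤ E := fun x hx => by
      by_contra h
      exact hx.2 ⟨x, h, rfl⟩
    haveI := etale_etaleLocus g
    haveI : Etale ((c ∣_ O) ≫ O.ι ≫ p₁) := by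
      rw [morphismRestrict_ι_assoc, hc₁, ← Scheme.homOfLE_ι _ hle, Category.assoc]
      infer_instance
    exact Etale.of_comp (c ∣_ O) (O.ι ≫ p₁)
  haveI : IsProper (c ∣_ O) := MorphismProperty.of_isPullback (P := @IsProper) (isPullback_morphismRestrict c O).flip ‹_›
  haveI := FEtDesc.locallyQuasiFinite_of_formallyUnramified (c ∣_ O)
  haveI : IsFinite (c ∣_ O) := IsFinite.of_isProper_of_locallyQuasiFinite (c ∣_ O)
  -- the base change along `jR`
  let J : pullback f σ ⟶ pullback f π := pullback.lift (pullback.fst f σ) (pullback.snd f σ ≫ jR) (by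
    rw [Category.assoc, hjR, pullback.condition])
  have HJ : IsPullback J (pullback.snd f σ) p₂ jR := by
    refine IsPullback.of_right ?_ (pullback.lift_snd _ _ _) (IsPullback.of_hasPullback f π)
    rw [pullback.lift_fst, hjR]
    exact IsPullback.of_hasPullback f σ
  have HgP : IsPullback (pullback.fst t jR) gP c J := by
    refine IsPullback.of_bot ?_ ?_ HJ
    · rw [hc₂, hgP₂]; exact IsPullback.of_hasPullback t jR
    · apply pullback.hom_ext
      · simp only [J, Category.assoc, pullback.lift_fst, hgP₁, hc₁]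
      · simp only [J, Category.assoc, pullback.lift_snd, hc₂, ← Category.assoc gP, hgP₂, pullback.condition]
  have hrank : ∀ z : ↥(O : Scheme.{u}), p₂ z.1 = s' → (c ∣_ O).finrank z = 1 := fun z hz => by
    obtain ⟨y₀, hy₀, -⟩ := Scheme.Pullback.exists_preimage_pullback (f := p₂) (g := jR) z.1 (closedPoint R)
      (hz.trans hjs.symm)
    let y := HJ.isoPullback.inv y₀
    have hy : J y = z.1 := by
      rw [← Scheme.Hom.comp_apply, IsPullback.isoPullback_inv_fst]; exact hy₀
    have hyO : y ∈ J ⁻¹ᵁ O := show J y ∈ O by rw [hy]; exact z.2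
    have H1 : IsPullback ((gP ⁻¹ᵁ J ⁻¹ᵁ O).ι ≫ pullback.fst t jR) (gP ∣_ J ⁻¹ᵁ O) c ((J ⁻¹ᵁ O).ι ≫ J) :=
      (isPullback_morphismRestrict gP (J ⁻¹ᵁ O)).flip.paste_horiz HgP
    have hr : Set.range ((gP ⁻¹ᵁ J ⁻¹ᵁ O).ι ≫ pullback.fst t jR) ⊆ Set.range (c ⁻¹ᵁ O).ι := by
      rw [Scheme.Opens.range_ι]
      rintro _ ⟨w, rfl⟩
      show c (((gP ⁻¹ᵁ J ⁻¹ᵁ O).ι ≫ pullback.fst t jR) w) ∈ O
      rw [← Scheme.Hom.comp_apply, H1.w, Scheme.Hom.comp_apply, Scheme.Hom.comp_apply]
      exact ((gP ∣_ J ⁻¹ᵁ O) w).2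
    have H2 : IsPullback (IsOpenImmersion.lift (c ⁻¹ᵁ O).ι _ hr) (gP ∣_ J ⁻¹ᵁ O) (c ∣_ O) (J ∣_ O) := by
      refine IsPullback.of_right ?_ ?_ (isPullback_morphismRestrict c O).flip
      · rw [IsOpenImmersion.lift_fac, morphismRestrict_ι]; exact H1
      · rw [← cancel_mono O.ι, Category.assoc, morphismRestrict_ι, ← Category.assoc,
          IsOpenImmersion.lift_fac, H1.w, Category.assoc, morphismRestrict_ι]
    have hz' : (J ∣_ O) ⟨y, hyO⟩ = z := Subtype.ext ((congr($(morphismRestrict_ι J O) ⟨y, hyO⟩)).trans hy)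
    rw [← hz', ← Scheme.Hom.finrank_of_isPullback _ _ _ _ H2, Scheme.Hom.finrank_eq_one_of_isIso]
    rfl
  -- the neighbourhood
  let V₁ : Set ↥(pullback f π) := O.ι '' {z : ↥(O : Scheme.{u}) | (c ∣_ O).finrank z = 1}
  have hV₁ : IsOpen V₁ := O.ι.isOpenEmbedding.isOpenMap _
    ((c ∣_ O).isLocallyConstant_finrank.isOpen_fiber 1)
  let U' : N.Opens := U₁ ⊓ ⟨(p₂ '' V₁ᶜ)ᶜ, (p₂.isClosedMap _ hV₁.isClosed_compl).isOpen_compl⟩
  have hU'V : ∀ z, p₂ z ∈ U' → z ∈ V₁ := fun z hz => by
    by_contra h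
    exact hz.2 ⟨z, h, rfl⟩
  have hO' : p₂ ⁻¹ᵁ U' ≤ O := fun z hz => by
    obtain ⟨w, -, rfl⟩ := hU'V z hz
    exact w.2
  refine ⟨U', ⟨hs'U, ?_⟩, ?_, ?_⟩
  · rintro ⟨z, hz, hzs⟩
    exact hz ⟨⟨z, hfibO z hzs⟩, hrank _ hzs, rfl⟩
  · rw [← Scheme.homOfLE_ι _ (U := U') (V := U₁) inf_le_left, Category.assoc]
    infer_instance
  · let O' := p₂ ⁻¹ᵁ U'
    have hle : c ⁻¹ᵁ O' ≤ c ⁻¹ᵁ O := fun x hx => hO' hx
    have H : IsPullback (X'.homOfLE hle) (c ∣_ O') (c ∣_ O) ((pullback f π).homOfLE hO') := by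
      refine IsPullback.of_right ?_ ?_ (isPullback_morphismRestrict c O).flip
      · rw [Scheme.homOfLE_ι, Scheme.homOfLE_ι]; exact (isPullback_morphismRestrict c O').flip
      · rw [← cancel_mono O.ι, Category.assoc, morphismRestrict_ι, Scheme.homOfLE_ι_assoc,
          Category.assoc, Scheme.homOfLE_ι, morphismRestrict_ι]
    haveI : IsFinite (c ∣_ O') := MorphismProperty.of_isPullback (P := @IsFinite) H ‹_›
    haveI : Etale (c ∣_ O') := MorphismProperty.of_isPullback (P := @Etale) H ‹_›
    rw [Scheme.Hom.isIso_iff_finrank_eq]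
    funext z
    rw [Scheme.Hom.finrank_of_isPullback _ _ _ _ H]
    obtain ⟨w, hw, hwz⟩ := hU'V z.1 z.2
    have : (pullback f π).homOfLE hO' z = w := Subtype.ext ((congr($(Scheme.homOfLE_ι (pullback f π) hO') z)).trans hwz.symm)
    rw [this]
    exact hw

end Groth.Agent.Purity10.SteinEtale
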