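import Groth.Agent.Et18.Descent
import Groth.Agent.FlatLocal.StalkCrit
import Mathlib.AlgebraicGeometry.Geometrically.Connected
import Mathlib.AlgebraicGeometry.Morphisms.Proper

/-!
# Small lemmas on morphisms with connected fibres and flat base change of global sections
-/

set_option autoImplicit false
set_option linter.style.haveILetI false
set_option linter.overlappingInstances false
set_option backward.isDefEq.respectTransparency.types false
set_option backward.isDefEq.respectTransparency false

universe u

open CategoryTheory CategoryTheory.Limits AlgebraicGeometry TopologicalSpace IsLocalRing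

namespace Groth.Agent.Purity10.SteinGeom

/-- A closed morphism with geometrically connected fibres over a connected scheme has connected source. -/
theorem connectedSpace_source {P Q : Scheme.{u}} (p : P ⟶ Q) [UniversallyClosed p] [GeometricallyConnected p]
    [ConnectedSpace Q] : ConnectedSpace P := by
  have hq : Topology.IsQuotientMap p := p.isClosedMap.isQuotientMap p.continuous p.surjective
  have h := hq.isCoinducing.isConnected_preimage_of_isClosed p.isConnected_preimage_singleton
    isClosed_univ isConnected_univ
  rw [Set.preimage_univ] at h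
  exact connectedSpace_iff_univ.mpr h

/-- Nonempty closed subsets of a universally closed scheme over a local ring meet the closed fibre. -/
theorem exists_mem_over_closedPoint {R : Type u} [CommRing R] [IsLocalRing R] {Z : Scheme.{u}}
    (a : Z ⟶ Spec (CommRingCat.of R)) [UniversallyClosed a] {C : Set Z} (hC : IsClosed C)
    (hne : C.Nonempty) : ∃ z ∈ C, a z = closedPoint R := by
  obtain ⟨z, hz⟩ := hne
  obtain ⟨w, hw, hwe⟩ := (a.isClosedMap _ hC).stableUnderSpecialization
    (specializes_closedPoint (a z)) ⟨z, hz, rfl⟩
  exact ⟨w, hw, hwe⟩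

/-- `t_* O = O` is preserved by flat base change to an affine scheme. -/
theorem bijective_appTop_snd {X N Q : Scheme.{u}} (t : X ⟶ N) [QuasiCompact t] [QuasiSeparated t]
    (ht : ∀ V : N.Opens, Function.Bijective (t.app V).hom) (j : Q ⟶ N) [Flat j] [IsAffine Q]
    (V : N.Opens) (hV : IsAffineOpen V) (hj : Set.range j ⊆ V) :
    Function.Bijective (pullback.snd t j).appTop.hom := by
  haveI : IsAffine (V : Scheme.{u}) := hV
  let j' := IsOpenImmersion.lift V.ι j (by rwa [V.range_ι])
  have hj' : j' ≫ V.ι = j := IsOpenImmersion.lift_fac _ _ _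
  haveI : Flat j' := by
    exact MorphismProperty.of_isPullback (P := @Flat) (f' := 𝟙 Q) (f := V.ι) (g := j)
      (IsPullback.of_horiz_isIso_mono ⟨by rw [hj', Category.id_comp]⟩) ‹Flat j›
  have hr : Set.range (pullback.fst t j) ⊆ Set.range (t ⁻¹ᵁ V).ι := by
    rw [Scheme.Opens.range_ι]
    rintro _ ⟨z, rfl⟩
    show t (pullback.fst t j z) ∈ V
    rw [← Scheme.Hom.comp_apply, pullback.condition, Scheme.Hom.comp_apply]
    exact hj ⟨_, rfl⟩
  let l := IsOpenImmersion.lift (t ⁻¹ᵁ V).ι (pullback.fst t j) hr
  have H : IsPullback l (pullback.snd t j) (t ∣_ V) j' := by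
    refine IsPullback.of_right ?_ ?_ (isPullback_morphismRestrict t V).flip
    · rw [IsOpenImmersion.lift_fac, hj']; exact IsPullback.of_hasPullback t j
    · rw [← cancel_mono V.ι, Category.assoc, morphismRestrict_ι, ← Category.assoc,
        IsOpenImmersion.lift_fac, pullback.condition, Category.assoc, hj']
  haveI : CompactSpace ↥(t ⁻¹ᵁ V : Scheme.{u}) :=
    isCompact_iff_compactSpace.mp (t.isCompact_preimage hV.isCompact)
  haveI : QuasiSeparatedSpace ↥(t ⁻¹ᵁ V : Scheme.{u}) :=
    quasiSeparatedSpace_of_quasiSeparated (t ∣_ V)
  have hp := Et18.isPushout_appTop_of_flat H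
  haveI : IsIso (t ∣_ V).appTop := by
    haveI : IsIso (t.app (V.ι ''ᵁ ⊤)) := (ConcreteCategory.isIso_iff_bijective _).mpr (ht _)
    rw [Scheme.Hom.appTop, morphismRestrict_app]
    infer_instance
  haveI : IsIso (pullback.snd t j).appTop := hp.isIso_inr_of_isIso
  exact (ConcreteCategory.isIso_iff_bijective _).mp inferInstance

/-- Unramifiedness descends along a flat local homomorphism with separable residue extension. -/
theorem formallyUnramified_of_comp {A B C : Type u} [CommRing A] [CommRing B] [CommRing C]
    [IsLocalRing A] [IsLocalRing B] [IsLocalRing C] [Algebra A B] [Algebra B C] [Algebra A C]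
    [IsScalarTower A B C] [IsLocalHom (algebraMap A B)] [IsLocalHom (algebraMap B C)]
    [IsLocalHom (algebraMap A C)]
    [Algebra.EssFiniteType A B] [Module.Flat B C]
    (hm : (maximalIdeal A).map (algebraMap A C) = maximalIdeal C)
    (hsep : Algebra.IsSeparable (ResidueField A) (ResidueField C)) : Algebra.FormallyUnramified A B := by
  haveI : Module.FaithfullyFlat B C := Module.FaithfullyFlat.of_flat_of_isLocalHom
  have h1 : (maximalIdeal A).map (algebraMap A B) = maximalIdeal B := by
    refine le_antisymm (((local_hom_TFAE (algebraMap A B)).out 0 2 rfl rfl).mp ‹_›) ?_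
    rw [← Ideal.comap_map_eq_self_of_faithfullyFlat (B := C) ((maximalIdeal A).map (algebraMap A B)),
      Ideal.map_map, ← IsScalarTower.algebraMap_eq A B C, hm]
    intro b hb
    rw [Ideal.mem_comap]
    exact map_nonunit (algebraMap B C) b hb
  haveI : IsScalarTower (ResidueField A) (ResidueField B) (ResidueField C) :=
    IsScalarTower.of_algebraMap_eq fun z => by
      obtain ⟨z, rfl⟩ := residue_surjective z
      exact congrArg (residue C) (IsScalarTower.algebraMap_apply A B C z)
  haveI : Algebra.IsSeparable (ResidueField A) (ResidueField B) :=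
    Algebra.isSeparable_tower_bot_of_isSeparable _ _ (ResidueField C)
  exact Algebra.FormallyUnramified.of_map_maximalIdeal h1

end Groth.Agent.Purity10.SteinGeom
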