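import Groth.Agent.Purity10.SplitData
import Groth.Agent.Purity10.SteinGeom
import Groth.Prelude.Def_Pi1X
import Mathlib.AlgebraicGeometry.ResidueField

/-!
# The fibre component when the Stein comparison map is an isomorphism
-/

set_option autoImplicit false
set_option linter.style.haveILetI false
set_option linter.overlappingInstances false
set_option backward.isDefEq.respectTransparency.types false
set_option backward.isDefEq.respectTransparency false

universe u

open CategoryTheory CategoryTheory.Limits AlgebraicGeometry TopologicalSpace IsLocalRing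

namespace Groth.Agent.Purity10.SteinForward

variable {X X' S N : Scheme.{u}} (f : X ⟶ S) (g : X' ⟶ X) (π : N ⟶ S) [IsFinite π] (t : X' ⟶ N)
  (hgt : t ≫ π = g ≫ f)
  (c : X' ⟶ pullback f π) (hc₁ : c ≫ pullback.fst f π = g) (hc₂ : c ≫ pullback.snd f π = t)

include hc₁ hc₂ in
theorem mem_etaleLocus (U' : N.Opens) (hU' : Etale (U'.ι ≫ π))
    (hiso : IsIso (c ∣_ (pullback.snd f π ⁻¹ᵁ U'))) (x' : X') (hx' : t x' ∈ U') :
    x' ∈ Pi1X.etaleLocus g := by
  let p₂ := pullback.snd f π
  have hp : Etale ((p₂ ⁻¹ᵁ U').ι ≫ pullback.fst f π) := MorphismProperty.of_isPullback (P := @Etale)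
    ((isPullback_morphismRestrict p₂ U').flip.paste_horiz (IsPullback.of_hasPullback f π)).flip hU'
  refine Opens.mem_sSup.2 ⟨c ⁻¹ᵁ (p₂ ⁻¹ᵁ U'), ?_, ?_⟩
  · show Etale (_ ≫ g)
    rw [← hc₁, ← morphismRestrict_ι_assoc]
    infer_instance
  · show p₂ (c x') ∈ U'
    rw [← Scheme.Hom.comp_apply, hc₂]
    exact hx'

include hgt hc₁ hc₂ in
theorem exists_cover (s : S) (s' : N) (hs' : π s' = s) (U' : N.Opens) (hsU : s' ∈ U')
    (hU' : Etale (U'.ι ≫ π)) (hiso : IsIso (c ∣_ (pullback.snd f π ⁻¹ᵁ U')))
    (C : (pullback (g ≫ f) (S.fromSpecResidueField s)).Opens)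
    (hC : ∀ z, z ∈ C ↔ t (pullback.fst (g ≫ f) (S.fromSpecResidueField s) z) = s')
    (mp : (C : Scheme.{u}) ⟶ pullback f (S.fromSpecResidueField s))
    (hmp₁ : mp ≫ pullback.fst f _ = C.ι ≫ pullback.fst (g ≫ f) _ ≫ g)
    (hmp₂ : mp ≫ pullback.snd f _ = C.ι ≫ pullback.snd (g ≫ f) _) :
    IsFinite mp ∧ Etale mp ∧
      SplitData.HasSplitting (pullback.snd mp (pullback.fst (pullback.snd f (S.fromSpecResidueField s))
        (Spec.map (CommRingCat.ofHom (algebraMap (S.residueField s) (AlgebraicClosure (S.residueField s))))))) := by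
  let res := S.fromSpecResidueField s
  let Z := pullback π res
  let q₁ : Z ⟶ N := pullback.fst π res
  haveI : DiscreteTopology ↥Z := by
    have h := (pullback.snd π res).isDiscrete_preimage_singleton (closedPoint (S.residueField s))
    rw [Set.eq_univ_of_forall (s := pullback.snd π res ⁻¹' {closedPoint (S.residueField s)})
      fun z => Subsingleton.elim (α := PrimeSpectrum (S.residueField s)) _ _] at h
    exact isDiscrete_univ_iff.mp h
  let D : Z.Opens := ⟨q₁ ⁻¹' {s'}, isOpen_discrete _⟩
  haveI : IsClosedImmersion D.ι :=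
    IsClosedImmersion.of_isPreimmersion _ (by rw [Scheme.Opens.range_ι]; exact isClosed_discrete _)
  let dD := D.ι ≫ pullback.snd π res
  haveI : IsFinite dD := inferInstance
  let dN := D.ι ≫ q₁
  have hdN : ∀ z, dN z = s' := fun z => z.2
  have hdNπ : dN ≫ π = dD ≫ res := by simp only [dN, dD, q₁, Category.assoc, pullback.condition]
  have hrD : Set.range dN ⊆ Set.range U'.ι := by
    rw [Scheme.Opens.range_ι]; rintro _ ⟨z, rfl⟩; rw [hdN]; exact hsU
  let d' := IsOpenImmersion.lift U'.ι dN hrD
  haveI : Etale dD := by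
    let W : Z.Opens := q₁ ⁻¹ᵁ U'
    haveI : Etale (W.ι ≫ pullback.snd π res) := MorphismProperty.of_isPullback (P := @Etale)
      ((isPullback_morphismRestrict q₁ U').flip.paste_horiz (IsPullback.of_hasPullback π res).flip).flip hU'
    have hle : D ≤ W := fun z hz => show q₁ z ∈ U' by rw [show q₁ z = s' from hz]; exact hsU
    show Etale (D.ι ≫ pullback.snd π res)
    rw [← Scheme.homOfLE_ι _ hle, Category.assoc]
    infer_instance
  -- `C` is the preimage of `D`
  let k : pullback (g ≫ f) res ⟶ Z := pullback.lift (pullback.fst (g ≫ f) res ≫ t) (pullback.snd (g ≫ f) res)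
    (by rw [Category.assoc, hgt]; exact pullback.condition)
  have Hk : IsPullback (pullback.fst (g ≫ f) res) k t q₁ := by
    refine IsPullback.of_bot ?_ (pullback.lift_fst _ _ _).symm (IsPullback.of_hasPullback π res)
    rw [pullback.lift_snd, hgt]
    exact IsPullback.of_hasPullback (g ≫ f) res
  have hCk : C = k ⁻¹ᵁ D := Opens.ext (Set.ext fun z => by
    show z ∈ C ↔ q₁ (k z) = s'
    rw [hC, ← Scheme.Hom.comp_apply k, pullback.lift_fst, Scheme.Hom.comp_apply])
  subst hCk
  let dC := k ∣_ D
  have H1 : IsPullback ((k ⁻¹ᵁ D).ι ≫ pullback.fst (g ≫ f) res) dC t dN :=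
    (isPullback_morphismRestrict k D).flip.paste_horiz Hk
  have hrC : Set.range ((k ⁻¹ᵁ D).ι ≫ pullback.fst (g ≫ f) res) ⊆ Set.range (t ⁻¹ᵁ U').ι := by
    rw [Scheme.Opens.range_ι]
    rintro _ ⟨z, rfl⟩
    show t (((k ⁻¹ᵁ D).ι ≫ pullback.fst (g ≫ f) res) z) ∈ U'
    rw [← Scheme.Hom.comp_apply, H1.w, Scheme.Hom.comp_apply, hdN]
    exact hsU
  let p₂ := pullback.snd f π
  let O' := p₂ ⁻¹ᵁ U'
  have heq : t ⁻¹ᵁ U' = c ⁻¹ᵁ O' := by rw [← hc₂]; rfl
  let e : ((t ⁻¹ᵁ U' : X'.Opens) : Scheme.{u}) ⟶ (O' : Scheme.{u}) :=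
    (X'.isoOfEq heq).hom ≫ c ∣_ O'
  have he : e ≫ O'.ι = (t ⁻¹ᵁ U').ι ≫ c := by
    simp only [e, Category.assoc, morphismRestrict_ι]
    rw [Scheme.isoOfEq_hom_ι_assoc]
  let lC := IsOpenImmersion.lift (t ⁻¹ᵁ U').ι _ hrC
  have H2 : IsPullback lC dC (t ∣_ U') d' := by
    refine IsPullback.of_right ?_ ?_ (isPullback_morphismRestrict t U').flip
    · rw [IsOpenImmersion.lift_fac, IsOpenImmersion.lift_fac]; exact H1
    · rw [← cancel_mono U'.ι]
      simp only [Category.assoc, morphismRestrict_ι, lC, d', IsOpenImmersion.lift_fac, IsOpenImmersion.lift_fac_assoc]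
      simpa only [Category.assoc] using H1.w
  have H3 : IsPullback (lC ≫ e) dC (p₂ ∣_ U') d' := by
    haveI : IsIso e := inferInstance
    refine H2.of_iso (Iso.refl _) (asIso e) (Iso.refl _) (Iso.refl _) (by simp) (by simp) ?_ (by simp)
    simp only [asIso_hom, Iso.refl_hom, Category.comp_id]
    rw [← cancel_mono U'.ι, morphismRestrict_ι, Category.assoc, morphismRestrict_ι, ← Category.assoc, he,
      Category.assoc]
    exact congrArg _ hc₂.symm
  have H4 : IsPullback (mp ≫ pullback.fst f res) dC f (dD ≫ res) := by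
    have h := (H3.paste_horiz (isPullback_morphismRestrict p₂ U').flip).paste_horiz (IsPullback.of_hasPullback f π)
    have h1 : ((lC ≫ e) ≫ O'.ι) ≫ pullback.fst f π = mp ≫ pullback.fst f res := by
      rw [Category.assoc lC, he, ← Category.assoc, IsOpenImmersion.lift_fac, Category.assoc, hc₁, hmp₁,
        Category.assoc]
    rw [h1, IsOpenImmersion.lift_fac, hdNπ] at h
    exact h
  have H5 : IsPullback mp dC (pullback.snd f res) dD := by
    refine IsPullback.of_right H4 ?_ (IsPullback.of_hasPullback f res)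
    rw [hmp₂]
    simp only [dC, dD, ← Category.assoc, morphismRestrict_ι]
    rw [Category.assoc, pullback.lift_snd]
  refine ⟨MorphismProperty.of_isPullback (P := @IsFinite) H5.flip ‹_›,
    MorphismProperty.of_isPullback (P := @Etale) H5.flip ‹_›, ?_⟩
  let kb := Spec.map (CommRingCat.ofHom (algebraMap (S.residueField s) (AlgebraicClosure (S.residueField s))))
  haveI : IsFinite (pullback.snd dD kb) := MorphismProperty.pullback_snd _ _ inferInstance
  haveI : Etale (pullback.snd dD kb) := MorphismProperty.pullback_snd _ _ inferInstance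
  have hsp := SplitData.hasSplitting_algClosed (pullback.snd dD kb)
  let m : pullback mp (pullback.fst (pullback.snd f res) kb) ⟶ pullback dD kb :=
    pullback.lift (pullback.fst _ _ ≫ dC) (pullback.snd _ _ ≫ pullback.snd _ kb) (by
      rw [Category.assoc, ← H5.w, ← Category.assoc, pullback.condition, Category.assoc, pullback.condition,
        Category.assoc])
  refine hsp.of_isPullback (a := m) (b := pullback.snd (pullback.snd f res) kb) ?_
  refine IsPullback.of_right ?_ (pullback.lift_snd _ _ _) (IsPullback.of_hasPullback dD kb)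
  rw [pullback.lift_fst, ← pullback.condition]
  exact (IsPullback.of_hasPullback mp (pullback.fst (pullback.snd f res) kb)).paste_horiz H5.flip

end Groth.Agent.Purity10.SteinForward
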