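import Groth.Agent.Purity10.SteinGeom
import Groth.Agent.Purity10.SplitData
import Groth.Agent.FEtStein.HenselFF
import Groth.Agent.FEtDesc.Fpqc
import Groth.Agent.FlatMor12.IsoLocus
import Groth.Prelude.Def_Pi1X

/-!
# Étale covers of a proper connected scheme along a Stein factorisation, strictly henselian base
-/

set_option autoImplicit false
set_option linter.style.haveILetI false
set_option linter.overlappingInstances false
set_option backward.isDefEq.respectTransparency.types false
set_option backward.isDefEq.respectTransparency false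
set_option synthInstance.maxHeartbeats 400000
set_option maxHeartbeats 2000000

universe u

open CategoryTheory CategoryTheory.Limits AlgebraicGeometry TopologicalSpace IsLocalRing

namespace Groth.Agent.Purity10.SteinSection

/-- The étale locus is an open subscheme étale over the target. -/
theorem etale_etaleLocus {X Y : Scheme.{u}} (g : X ⟶ Y) : Etale ((Pi1X.etaleLocus g).ι ≫ g) := by
  let U := Pi1X.etaleLocus g
  have hmem : ∀ x : U, ∃ W : X.Opens, Etale (W.ι ≫ g) ∧ x.1 ∈ W := fun x => by
    obtain ⟨W, hW, hx⟩ := Opens.mem_sSup.1 x.2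
    exact ⟨W, hW, hx⟩
  choose W hW hx using hmem
  refine IsZariskiLocalAtSource.of_iSup_eq_top (P := @Etale) (fun x : U => U.ι ⁻¹ᵁ W x) ?_ fun x => ?_
  · exact Opens.ext (Set.eq_univ_of_forall fun x => by
      simp only [Opens.coe_iSup, Set.mem_iUnion]
      exact ⟨x, hx x⟩)
  · have hr : Set.range ((U.ι ⁻¹ᵁ W x).ι ≫ U.ι) ⊆ Set.range (W x).ι := by
      rintro _ ⟨y, rfl⟩; rw [(W x).range_ι]; exact y.2
    have := hW x
    rw [← Category.assoc, ← IsOpenImmersion.lift_fac (W x).ι _ hr, Category.assoc]
    haveI : IsOpenImmersion (IsOpenImmersion.lift (W x).ι _ hr) :=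
      haveI : IsOpenImmersion (IsOpenImmersion.lift (W x).ι _ hr ≫ (W x).ι) := by
        rw [IsOpenImmersion.lift_fac]; infer_instance
      IsOpenImmersion.of_comp _ (W x).ι
    infer_instance

variable {X X' S N : Scheme.{u}} (f : X ⟶ S) [IsProper f] [GeometricallyConnected f]
  (hf : ∀ V : S.Opens, Function.Bijective (f.app V).hom)
  (g : X' ⟶ X) [IsProper g] (π : N ⟶ S) [IsFinite π] (t : X' ⟶ N) [IsProper t]
  [GeometricallyConnected t] (ht : ∀ V : N.Opens, Function.Bijective (t.app V).hom)
  (hgt : t ≫ π = g ≫ f)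

include hf ht hgt in
/-- If the fibre component over `s'` is étale and geometrically split over `X`, then after strict
henselization the piece over a point above `s'` is isomorphic to `X`. -/
theorem exists_section (s : S) (s' : N) (hs' : π s' = s)
    (C : (pullback (g ≫ f) (S.fromSpecResidueField s)).Opens)
    (hC : ∀ z, t (pullback.fst (g ≫ f) (S.fromSpecResidueField s) z) = s' → z ∈ C)
    (het : ∀ x' : X', t x' = s' → x' ∈ Pi1X.etaleLocus g)
    (mp : (C : Scheme.{u}) ⟶ pullback f (S.fromSpecResidueField s))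
    (hmp₁ : mp ≫ pullback.fst f _ = C.ι ≫ pullback.fst (g ≫ f) _ ≫ g)
    (hmp₂ : mp ≫ pullback.snd f _ = C.ι ≫ pullback.snd (g ≫ f) _)
    (hmpF : IsFinite mp) (hmpE : Etale mp)
    (hsplit : SplitData.HasSplitting (pullback.snd mp (pullback.fst (pullback.snd f (S.fromSpecResidueField s))
      (Spec.map (CommRingCat.ofHom (algebraMap (S.residueField s) (AlgebraicClosure (S.residueField s))))))))
    (R : Type u) [CommRing R] [HenselianLocalRing R] [IsSepClosed (ResidueField R)]
    (σ : Spec (CommRingCat.of R) ⟶ S) [Flat σ] (hσ : σ (closedPoint R) = s) :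
    ∃ (jR : Spec (CommRingCat.of R) ⟶ N) (_ : Flat jR) (hjR : jR ≫ π = σ), jR (closedPoint R) = s' ∧
      ∃ gP : pullback t jR ⟶ pullback f σ, IsIso gP ∧ gP ≫ pullback.fst f σ = pullback.fst t jR ≫ g ∧
        gP ≫ pullback.snd f σ = pullback.snd t jR := by
  classical
  -- the clopen piece of the base change of `N`
  let a := pullback.snd π σ
  obtain ⟨q, hq₁, hq₂⟩ := Scheme.Pullback.exists_preimage_pullback (f := π) (g := σ) s' (closedPoint R)
    (hs'.trans hσ.symm)
  have hfinset : (a ⁻¹' {closedPoint R}).Finite := a.finite_preimage_singleton _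
  have hcl : ∀ z, a z = closedPoint R → IsClosed ({z} : Set ↥(pullback π σ)) := fun z hz => by
    have h1 : IsClosed (a ⁻¹' {closedPoint R}) :=
      IsClosed.preimage a.continuous (isClosed_singleton_closedPoint (R := R))
    haveI : DiscreteTopology ↥(a ⁻¹' {closedPoint R}) := (a.isDiscrete_preimage_singleton _).to_subtype
    have := h1.isClosedEmbedding_subtypeVal.isClosedMap _ (isClosed_discrete ({⟨z, hz⟩} : Set ↥(a ⁻¹' {closedPoint R})))
    simpa using this
  obtain ⟨D, hD, hqD, hD'⟩ := Et18.ProperClopen.exists_clopen_lift (maximalIdeal R) a {q}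
    (a ⁻¹' {closedPoint R} \ {q}) (hcl q hq₂)
    (by
      rw [← Set.biUnion_of_singleton (a ⁻¹' {closedPoint R} \ {q})]
      exact hfinset.diff.isClosed_biUnion fun z hz => hcl z hz.1)
    Set.disjoint_sdiff_right
    (by
      refine Eq.trans ?_ (Set.union_diff_cancel
        (show {q} ⊆ a ⁻¹' {closedPoint R} from Set.singleton_subset_iff.2 hq₂)).symm
      refine congrArg (a ⁻¹' ·) ?_
      ext p
      show (maximalIdeal R : Set R) ⊆ (p : PrimeSpectrum R).asIdeal ↔ p = closedPoint R
      exact ⟨fun h => PrimeSpectrum.ext ((maximalIdeal.isMaximal R).eq_of_le (p : PrimeSpectrum R).isPrime.ne_top h).symm,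
        fun h => by subst h; exact subset_rfl⟩)
  let Q : (pullback π σ).Opens := ⟨D, hD.2⟩
  haveI : IsClosedImmersion Q.ι := IsClosedImmersion.of_isPreimmersion _ (by rw [Scheme.Opens.range_ι]; exact hD.1)
  let aQ := Q.ι ≫ a
  haveI : IsFinite aQ := inferInstance
  haveI : IsAffine (Q : Scheme.{u}) := isAffine_of_isAffineHom aQ
  have hQpt : ∀ z : Q, aQ z = closedPoint R → z.1 = q := fun z hz => by
    by_contra h
    exact hD' ⟨hz, h⟩ z.2
  haveI : ConnectedSpace ↥(Q : Scheme.{u}) := by
    refine connectedSpace_iff_clopen.mpr ⟨⟨q, hqD rfl⟩, fun E hE => ?_⟩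
    by_cases h : (⟨q, hqD rfl⟩ : ↥(Q : Scheme.{u})) ∈ E
    · right
      by_contra hne
      obtain ⟨z, hz, hza⟩ := SteinGeom.exists_mem_over_closedPoint aQ hE.compl.1
        (Set.nonempty_compl.mpr hne)
      exact hz ((Subtype.ext (hQpt z hza) : z = ⟨q, hqD rfl⟩) ▸ h)
    · left
      refine Set.eq_empty_of_forall_notMem fun z hz => ?_
      obtain ⟨z', hz', hza⟩ := SteinGeom.exists_mem_over_closedPoint aQ hE.1 ⟨z, hz⟩
      exact h ((Subtype.ext (hQpt z' hza) : z' = ⟨q, hqD rfl⟩) ▸ hz')
  -- the piece of `X'` over it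
  let j₀ : (Q : Scheme.{u}) ⟶ N := Q.ι ≫ pullback.fst π σ
  have hj₀ : j₀ ≫ π = aQ ≫ σ := by simp only [j₀, aQ, a, Category.assoc, pullback.condition]
  let P := pullback t j₀
  let tP := pullback.snd t j₀
  haveI : ConnectedSpace P := SteinGeom.connectedSpace_source tP
  let fR := pullback.snd f σ
  let gP₀ : P ⟶ pullback f σ := pullback.lift (pullback.fst t j₀ ≫ g) (tP ≫ aQ) (by
    rw [Category.assoc, ← hgt, ← Category.assoc, pullback.condition, Category.assoc, hj₀]
    simp only [tP, aQ, Category.assoc])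
  have hgP₁ : gP₀ ≫ pullback.fst f σ = pullback.fst t j₀ ≫ g := pullback.lift_fst _ _ _
  have hgP₂ : gP₀ ≫ fR = tP ≫ aQ := pullback.lift_snd _ _ _
  haveI : IsProper (gP₀ ≫ fR) := by rw [hgP₂]; infer_instance
  haveI : IsProper gP₀ := IsProper.of_comp gP₀ fR
  -- it is étale
  let K := pullback g (pullback.fst f σ)
  let kN : K ⟶ pullback π σ := pullback.lift (pullback.fst g _ ≫ t) (pullback.snd g _ ≫ fR) (by
    rw [Category.assoc, hgt, ← Category.assoc, pullback.condition, Category.assoc, pullback.condition,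
      ← Category.assoc])
  have HK : IsPullback (pullback.fst g (pullback.fst f σ)) kN t (pullback.fst π σ) := by
    refine IsPullback.of_bot ?_ (pullback.lift_fst _ _ _).symm (IsPullback.of_hasPullback π σ)
    rw [pullback.lift_snd, hgt]
    exact (IsPullback.of_hasPullback g (pullback.fst f σ)).paste_vert (IsPullback.of_hasPullback f σ)
  let e₁ : P ⟶ K := pullback.lift (pullback.fst t j₀) gP₀ hgP₁.symm
  have He₁ : IsPullback e₁ tP kN Q.ι := by
    refine IsPullback.of_right ?_ ?_ HK
    · rw [pullback.lift_fst]; exact IsPullback.of_hasPullback t j₀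
    · apply pullback.hom_ext
      · simp only [kN, e₁, Category.assoc, pullback.lift_fst, pullback.lift_fst_assoc]
        exact pullback.condition
      · simp only [kN, e₁, Category.assoc, pullback.lift_snd, pullback.lift_snd_assoc]
        exact hgP₂
  haveI : IsOpenImmersion e₁ := MorphismProperty.of_isPullback (P := @IsOpenImmersion) He₁.flip inferInstance
  have hover : ∀ p : P, (tP ≫ aQ) p = closedPoint R → t (pullback.fst t j₀ p) = s' := fun p hp => by
    rw [← Scheme.Hom.comp_apply, pullback.condition]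
    show pullback.fst π σ (tP p).1 = s'
    rw [hQpt (tP p) hp]
    exact hq₁
  haveI : Etale gP₀ := by
    haveI := etale_etaleLocus g
    let U := Pi1X.etaleLocus g
    let WK : K.Opens := pullback.fst g (pullback.fst f σ) ⁻¹ᵁ U
    have hWK : Etale (WK.ι ≫ pullback.snd g (pullback.fst f σ)) :=
      MorphismProperty.of_isPullback (P := @Etale)
        ((isPullback_morphismRestrict (pullback.fst g (pullback.fst f σ)) U).flip.paste_horiz
          (IsPullback.of_hasPullback g (pullback.fst f σ)).flip).flip ‹_›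
    have htop : ∀ p, e₁ p ∈ WK := by
      by_contra h
      obtain ⟨p, hp, hpa⟩ := SteinGeom.exists_mem_over_closedPoint (tP ≫ aQ)
        (C := (e₁ ⁻¹ᵁ WK : Set P)ᶜ) (e₁ ⁻¹ᵁ WK).2.isClosed_compl (not_forall.1 h)
      refine hp ?_
      show pullback.fst g (pullback.fst f σ) (e₁ p) ∈ U
      rw [← Scheme.Hom.comp_apply, pullback.lift_fst]
      exact het _ (hover p hpa)
    have hr : Set.range e₁ ⊆ Set.range WK.ι := by
      rw [Scheme.Opens.range_ι]; rintro _ ⟨p, rfl⟩; exact htop p
    haveI : IsOpenImmersion (IsOpenImmersion.lift WK.ι e₁ hr ≫ WK.ι) := by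
      rw [IsOpenImmersion.lift_fac]; infer_instance
    haveI := IsOpenImmersion.of_comp (IsOpenImmersion.lift WK.ι e₁ hr) WK.ι
    rw [show gP₀ = IsOpenImmersion.lift WK.ι e₁ hr ≫ WK.ι ≫ pullback.snd g (pullback.fst f σ) by
      rw [IsOpenImmersion.lift_fac_assoc, pullback.lift_snd]]
    infer_instance
  haveI := FEtDesc.locallyQuasiFinite_of_formallyUnramified gP₀
  haveI : IsFinite gP₀ := IsFinite.of_isProper_of_locallyQuasiFinite gP₀
  -- a section over the geometric closed fibre
  let K₀ := AlgebraicClosure (ResidueField R)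
  let ξR : Spec (CommRingCat.of K₀) ⟶ Spec (CommRingCat.of R) :=
    Spec.map (CommRingCat.ofHom ((algebraMap (ResidueField R) K₀).comp (residue R)))
  have hξR : ∀ x, ξR x = closedPoint R := fun x => by
    rw [show x = closedPoint K₀ from Subsingleton.elim (α := PrimeSpectrum K₀) _ _]
    exact comap_closedPoint ((algebraMap (ResidueField R) K₀).comp (residue R))
  haveI : GeometricallyConnected fR := inferInstance
  haveI : ConnectedSpace ↥(pullback fR ξR) :=
    pullback_of_geometrically GeometricallyConnected.geometrically_connectedSpace _ _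
  obtain ⟨φ, hφ⟩ : ∃ φ : Spec (CommRingCat.of K₀) ⟶ Spec (CommRingCat.of (AlgebraicClosure (S.residueField s))),
      φ ≫ Spec.map (CommRingCat.ofHom (algebraMap (S.residueField s) (AlgebraicClosure (S.residueField s)))) ≫
        S.fromSpecResidueField s = ξR ≫ σ := by
    obtain ⟨⟨y, ψ⟩, hψ⟩ := (Scheme.SpecToEquivOfField K₀ S).symm.surjective (ξR ≫ σ)
    replace hψ : Spec.map ψ ≫ S.fromSpecResidueField y = ξR ≫ σ := hψ
    obtain rfl : y = s := by
      have h1 : (Spec.map ψ ≫ S.fromSpecResidueField y) (closedPoint K₀) = y := by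
        rw [Scheme.Hom.comp_apply, Scheme.fromSpecResidueField_apply]
      rw [hψ, Scheme.Hom.comp_apply, hξR, hσ] at h1
      exact h1.symm
    letI := ψ.hom.toAlgebra
    haveI : Algebra.IsAlgebraic (S.residueField y) (AlgebraicClosure (S.residueField y)) := AlgebraicClosure.isAlgebraic _
    let l : AlgebraicClosure (S.residueField y) →ₐ[S.residueField y] K₀ := IsAlgClosed.lift
    refine ⟨Spec.map (CommRingCat.ofHom l.toRingHom), ?_⟩
    rw [← hψ, ← Category.assoc, ← Spec.map_comp]
    congr 2
    exact CommRingCat.hom_ext (RingHom.ext fun x => l.commutes x)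
  let kb : Spec (CommRingCat.of (AlgebraicClosure (S.residueField s))) ⟶ Spec (S.residueField s) :=
    Spec.map (CommRingCat.ofHom (algebraMap (S.residueField s) (AlgebraicClosure (S.residueField s))))
  let mK : pullback fR ξR ⟶ pullback (pullback.snd f (S.fromSpecResidueField s)) kb :=
    pullback.lift (pullback.lift (pullback.fst fR ξR ≫ pullback.fst f σ) (pullback.snd fR ξR ≫ φ ≫ kb) (by
      rw [Category.assoc, pullback.condition, ← Category.assoc, pullback.condition]
      simp only [Category.assoc]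
      rw [show φ ≫ kb ≫ S.fromSpecResidueField s = ξR ≫ σ from hφ]))
      (pullback.snd fR ξR ≫ φ) (by rw [pullback.lift_snd, Category.assoc])
  let mk' := mK ≫ pullback.fst (pullback.snd f (S.fromSpecResidueField s)) kb
  have hsK : SplitData.HasSplitting (pullback.snd mp mk') := by
    refine hsplit.of_isPullback (a := pullback.lift (pullback.fst mp mk') (pullback.snd mp mk' ≫ mK)
      (by rw [Category.assoc]; exact pullback.condition)) (b := mK) ?_
    refine IsPullback.of_right ?_ (pullback.lift_snd _ _ _) (IsPullback.of_hasPullback mp _)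
    rw [pullback.lift_fst]
    exact IsPullback.of_hasPullback mp mk'
  let PK := pullback gP₀ (pullback.fst fR ξR)
  let pK := pullback.snd gP₀ (pullback.fst fR ξR)
  have hPK : pullback.fst gP₀ (pullback.fst fR ξR) ≫ tP ≫ aQ = pK ≫ pullback.snd fR ξR ≫ ξR := by
    rw [← hgP₂, ← Category.assoc, pullback.condition, Category.assoc, pullback.condition]
  let u₀ : PK ⟶ pullback (g ≫ f) (S.fromSpecResidueField s) :=
    pullback.lift (pullback.fst gP₀ _ ≫ pullback.fst t j₀) (pK ≫ pullback.snd fR ξR ≫ φ ≫ kb) (by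
      simp only [Category.assoc]
      rw [show φ ≫ kb ≫ S.fromSpecResidueField s = ξR ≫ σ from hφ, ← reassoc_of% hPK, ← reassoc_of% hgP₂,
        ← pullback.condition, reassoc_of% hgP₁])
  have hu₀ : Set.range u₀ ⊆ Set.range C.ι := by
    rw [Scheme.Opens.range_ι]
    rintro _ ⟨p, rfl⟩
    refine hC _ ?_
    rw [← Scheme.Hom.comp_apply u₀, pullback.lift_fst, Scheme.Hom.comp_apply]
    refine hover _ ?_
    rw [← Scheme.Hom.comp_apply, hPK, ← Category.assoc, Scheme.Hom.comp_apply]
    exact hξR _
  let uC := IsOpenImmersion.lift C.ι u₀ hu₀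
  have huC : uC ≫ C.ι = u₀ := IsOpenImmersion.lift_fac _ _ _
  let e₂ : PK ⟶ pullback mp mk' := pullback.lift uC pK (by
    apply pullback.hom_ext
    · simp only [Category.assoc, hmp₁]
      rw [reassoc_of% huC, pullback.lift_fst_assoc, Category.assoc]
      simp only [mk', mK, Category.assoc, pullback.lift_fst]
      rw [← hgP₁, ← Category.assoc, pullback.condition, Category.assoc]
    · simp only [Category.assoc, hmp₂]
      rw [reassoc_of% huC, pullback.lift_snd]
      simp only [mk', mK, Category.assoc, pullback.lift_fst_assoc, pullback.lift_fst, pullback.lift_snd])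
  haveI : Mono e₂ := ⟨fun {T} x y h => by
    have h1 : x ≫ pK = y ≫ pK := by
      have := congrArg (· ≫ pullback.snd mp mk') h
      simpa only [Category.assoc, e₂, pullback.lift_snd] using this
    have h2 : x ≫ pullback.fst gP₀ _ ≫ pullback.fst t j₀ = y ≫ pullback.fst gP₀ _ ≫ pullback.fst t j₀ := by
      have := congrArg (· ≫ pullback.fst mp mk' ≫ C.ι ≫ pullback.fst (g ≫ f) _) h
      simpa only [Category.assoc, e₂, pullback.lift_fst_assoc, reassoc_of% huC, u₀, pullback.lift_fst] using this
    apply pullback.hom_ext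
    · rw [← cancel_mono e₁]
      apply pullback.hom_ext
      · simpa only [Category.assoc, e₁, pullback.lift_fst] using h2
      · simp only [Category.assoc, e₁, pullback.lift_snd, pullback.condition]
        exact (Category.assoc _ _ _).symm.trans
          ((congrArg (· ≫ pullback.fst fR ξR) h1).trans (Category.assoc _ _ _))
    · exact h1⟩
  haveI : IsFinite (pullback.snd mp mk') := MorphismProperty.pullback_snd _ _ hmpF
  haveI : Etale (pullback.snd mp mk') := MorphismProperty.pullback_snd _ _ hmpE
  haveI : Etale (e₂ ≫ pullback.snd mp mk') := by rw [pullback.lift_snd]; infer_instance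
  haveI : Etale e₂ := Etale.of_comp e₂ (pullback.snd mp mk')
  haveI : IsFinite (e₂ ≫ pullback.snd mp mk') := by rw [pullback.lift_snd]; infer_instance
  haveI : IsFinite e₂ := IsFinite.of_comp e₂ (pullback.snd mp mk')
  haveI : UniversallyInjective e₂ := inferInstance
  haveI : IsOpenImmersion e₂ := FEtLib.isOpenImmersion_of_etale_universallyInjective e₂
  obtain ⟨ι, _, sec, hsec, hsop, hscov, -⟩ := hsK
  obtain ⟨p₀⟩ : Nonempty P := ConnectedSpace.toNonempty
  obtain ⟨pc, -, hpc⟩ := SteinGeom.exists_mem_over_closedPoint (tP ≫ aQ) isClosed_univ ⟨p₀, trivial⟩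
  obtain ⟨xK, hxK, -⟩ := Scheme.Pullback.exists_preimage_pullback (f := fR) (g := ξR) (gP₀ pc) (closedPoint K₀)
    (by rw [← Scheme.Hom.comp_apply, hgP₂, hpc, hξR])
  obtain ⟨pk, -, -⟩ := Scheme.Pullback.exists_preimage_pullback (f := gP₀) (g := pullback.fst fR ξR) pc xK hxK.symm
  obtain ⟨i, w, hw⟩ := hscov (e₂ pk)
  haveI := hsop i
  have hrs : Set.range (sec i) ⊆ Set.range e₂ := by
    have hclop : IsClopen (sec i ⁻¹' Set.range e₂) :=
      ⟨IsClosed.preimage (sec i).continuous e₂.isClosedMap.isClosed_range,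
        IsOpen.preimage (sec i).continuous e₂.isOpenEmbedding.isOpen_range⟩
    rintro _ ⟨x, rfl⟩
    have := hclop.eq_univ ⟨w, pk, hw.symm⟩
    exact (Set.eq_univ_iff_forall.1 this) x
  let σK := IsOpenImmersion.lift e₂ (sec i) hrs ≫ pullback.fst gP₀ (pullback.fst fR ξR)
  have hσK : σK ≫ gP₀ = pullback.fst fR ξR := by
    simp only [σK, Category.assoc, pullback.condition]
    rw [show pullback.snd gP₀ (pullback.fst fR ξR) = e₂ ≫ pullback.snd mp mk' from (pullback.lift_snd _ _ _).symm,
      Category.assoc, IsOpenImmersion.lift_fac_assoc, reassoc_of% hsec i]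
  let P' : FEt.Cat (pullback f σ) := MorphismProperty.Over.mk ⊤ gP₀ ⟨inferInstance, inferInstance⟩
  haveI : ConnectedSpace P'.left := ‹ConnectedSpace P›
  obtain ⟨T, ⟨eT⟩⟩ := FEtStein.exists_iso_restrict_of_section_closedFibre fR P' σK hσK
  haveI : IsFinite T.hom := T.prop.1
  haveI : Etale T.hom := T.prop.2
  haveI hTc : ConnectedSpace T.left := by
    haveI : Surjective (pullback.fst T.hom fR) := MorphismProperty.pullback_fst _ _ inferInstance
    have e := (MorphismProperty.Over.forget _ _ _).mapIso eT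
    let i₀ : P ⟶ pullback T.hom fR := e.inv.left
    haveI : IsIso i₀ := inferInstanceAs (IsIso ((Over.forget _).map e.inv))
    exact (i₀ ≫ pullback.fst T.hom fR).surjective.connectedSpace (i₀ ≫ pullback.fst T.hom fR).continuous
  haveI : IsIso T.hom := by
    haveI : ConnectedSpace ↥((𝟭 Scheme.{u}).obj T.left) := hTc
    exact FEtStein.isIso_of_strictlyHenselian T.hom
  haveI : IsIso gP₀ := by
    have e := (MorphismProperty.Over.forget _ _ _).mapIso eT
    let i₀ : P ⟶ pullback T.hom fR := e.inv.left
    haveI : IsIso i₀ := inferInstanceAs (IsIso ((Over.forget _).map e.inv))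
    have : i₀ ≫ pullback.snd T.hom fR = gP₀ := Over.w e.inv
    rw [← this]; infer_instance
  -- the piece of the base is the base
  haveI : IsIso aQ := by
    obtain ⟨_, ⟨V, hV, rfl⟩, hsV, -⟩ := S.isBasis_affineOpens.exists_subset_of_mem_open
      (Set.mem_univ s) isOpen_univ
    have hσV : Set.range σ ⊆ (V : Set S) := by
      rintro _ ⟨x, rfl⟩
      exact ((specializes_closedPoint x).map σ.continuous).mem_open V.2 (hσ ▸ hsV)
    have hjV : Set.range j₀ ⊆ ((π ⁻¹ᵁ V : N.Opens) : Set N) := by
      rintro _ ⟨x, rfl⟩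
      show π (j₀ x) ∈ V
      rw [← Scheme.Hom.comp_apply, hj₀]
      exact hσV ⟨_, rfl⟩
    haveI : Flat j₀ := inferInstance
    have h1 := SteinGeom.bijective_appTop_snd f hf σ V hV hσV
    have h2 := SteinGeom.bijective_appTop_snd t ht j₀ (π ⁻¹ᵁ V) (hV.preimage π) hjV
    have h3 : Function.Bijective (gP₀ ≫ fR).appTop.hom := by
      rw [Scheme.Hom.comp_appTop, CommRingCat.hom_comp]
      exact (ConcreteCategory.bijective_of_isIso gP₀.appTop).comp h1
    rw [hgP₂, Scheme.Hom.comp_appTop, CommRingCat.hom_comp, RingHom.coe_comp] at h3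
    haveI : IsIso aQ.appTop := (ConcreteCategory.isIso_iff_bijective _).mpr
      ((Function.Bijective.of_comp_iff' h2 _).1 h3)
    exact Et18.isIso_of_isIso_appTop aQ
  let jR := inv aQ ≫ j₀
  have hjR : jR ≫ π = σ := by simp [jR, hj₀]
  refine ⟨jR, inferInstance, hjR, ?_, ?_⟩
  · obtain ⟨z, hz⟩ : ∃ z, aQ z = closedPoint R :=
      ⟨inv aQ (closedPoint R), by rw [← Scheme.Hom.comp_apply, IsIso.inv_hom_id]; rfl⟩
    rw [← hz, ← Scheme.Hom.comp_apply]
    simp only [jR, IsIso.hom_inv_id_assoc]
    show pullback.fst π σ z.1 = s'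
    rw [hQpt z hz]; exact hq₁
  · let m : pullback t jR ⟶ P := pullback.map t jR t j₀ (𝟙 _) (inv aQ) (𝟙 _) (by simp) (by simp [jR])
    refine ⟨m ≫ gP₀, inferInstance, ?_, ?_⟩
    · rw [Category.assoc, hgP₁, pullback.lift_fst_assoc, Category.assoc, Category.id_comp]
    · rw [Category.assoc, hgP₂, pullback.lift_snd_assoc, Category.assoc, IsIso.inv_hom_id, Category.comp_id]

end Groth.Agent.Purity10.SteinSection
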