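import Groth.Agent.HenselLib.LocalHens
import Groth.Agent.HenselLib.TensorHull
import Groth.Agent.HenselLib.HullWEt
import Groth.Agent.HenselLib.NormalHens
import Mathlib.RingTheory.Smooth.IntegralClosure
import Mathlib.RingTheory.Unramified.Finite
import Mathlib.RingTheory.Localization.Integral
import Mathlib.RingTheory.Flat.FaithfullyFlat.Algebra

/-!
# Integral closures along strict henselizations
-/

set_option autoImplicit false
set_option linter.style.haveILetI false
set_option maxHeartbeats 800000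

universe u

open scoped TensorProduct
open CategoryTheory

namespace Groth.Agent.Purity10.StrictNormal

open Groth.Agent.HenselLib

section hull

variable {A K : Type u} [CommRing A] [CommRing K] [Algebra A K] (C : Type u) [CommRing C] [Algebra A C]

/-- Integral closure commutes with the hull. -/
theorem mem_range_hull (z : Hull A K ⊗[A] C) (hz : IsIntegral (Hull A K) z) :
    z ∈ LinearMap.range ((integralClosure A C).val.toLinearMap.lTensor (Hull A K)) := by
  obtain ⟨q, hq, hqz⟩ := hz
  obtain ⟨P, g, hg, hgq⟩ := exists_monic_rep q hq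
  obtain ⟨Q, z', hz'⟩ := TensorHull.exists_rep_rTensor z
  obtain ⟨S, f₁, f₂, -⟩ := IsFilteredOrEmpty.cocone_objs P Q
  let Φ : ∀ T : Pt A K, T.Ring ⊗[A] C →ₐ[A] Hull A K ⊗[A] C := fun T =>
    Algebra.TensorProduct.map (ι T) (AlgHom.id A C)
  have hΦ : ∀ (T : Pt A K) (w : T.Ring ⊗[A] C), Φ T w = (ι T).toLinearMap.rTensor C w := fun T w => by
    induction w with
    | zero => simp
    | tmul a b => rfl
    | add a b ha hb => rw [map_add, map_add, ha, hb]
  let zS : S.Ring ⊗[A] C := f₂.map.toLinearMap.rTensor C z'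
  have hzS : Φ S zS = z := by rw [hΦ, TensorHull.rTensor_ι_map, hz']
  let gS := g.map f₁.map.toRingHom
  let w := gS.eval₂ (algebraMap S.Ring (S.Ring ⊗[A] C)) zS
  have hw : (ι S).toLinearMap.rTensor C w = 0 := by
    rw [← hΦ]
    show (Φ S).toRingHom w = 0
    rw [Polynomial.hom_eval₂, Polynomial.eval₂_map]
    refine Eq.trans ?_ hqz
    rw [← hgq, Polynomial.eval₂_map]
    congr 1
    · refine RingHom.ext fun x => ?_
      show (ι S) (f₁.map x) ⊗ₜ[A] (1 : C) = (ι P x) ⊗ₜ[A] (1 : C)
      rw [ι_map]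
  obtain ⟨T, t, ht⟩ := TensorHull.exists_eq_zero_rTensor w hw
  let Ψ : S.Ring ⊗[A] C →ₐ[A] T.Ring ⊗[A] C := Algebra.TensorProduct.map t.map (AlgHom.id A C)
  have hΨ : ∀ v, Ψ v = t.map.toLinearMap.rTensor C v := fun v => by
    induction v with
    | zero => simp
    | tmul a b => rfl
    | add a b ha hb => rw [map_add, map_add, ha, hb]
  let zT := Ψ zS
  have hzT : IsIntegral T.Ring zT := by
    refine ⟨gS.map t.map.toRingHom, (hg.map _).map _, ?_⟩
    rw [← ht, ← hΨ]
    show _ = Ψ.toRingHom w
    rw [Polynomial.hom_eval₂, Polynomial.eval₂_map]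
    congr 1
  obtain ⟨β, hβ⟩ := (TensorProduct.toIntegralClosure_bijective_of_smooth (R := A) (S := T.Ring) (B := C)).2
    ⟨zT, hzT⟩
  have hz2 : (ι T).toLinearMap.rTensor C zT = z := by
    rw [show zT = t.map.toLinearMap.rTensor C zS from hΨ zS, TensorHull.rTensor_ι_map, ← hΦ, hzS]
  have key : ∀ b, (integralClosure A C).val.toLinearMap.lTensor T.Ring b =
      (TensorProduct.toIntegralClosure A T.Ring C b : T.Ring ⊗[A] C) := fun b => by
    induction b with
    | zero => simp
    | tmul a b => rfl
    | add a b ha hb => simp [map_add, ha, hb]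
  have hβ' : (integralClosure A C).val.toLinearMap.lTensor T.Ring β = zT :=
    (key β).trans (congrArg Subtype.val hβ)
  exact ⟨(ι T).toLinearMap.rTensor _ β, by rw [← TensorHull.hcomm, hβ', hz2]⟩

end hull

variable (A R : Type u) [CommRing A] [IsLocalRing A] [CommRing R] [IsLocalRing R] [Algebra A R]
  [IsLocalHom (algebraMap A R)] [Hensel.IsStrictHenselization A R]

theorem weaklyEtale : Algebra.WeaklyEtale A R := by
  obtain ⟨e⟩ := exists_equiv_localSH (R := A) R
  exact weaklyEtale_of_equiv e

theorem faithfullyFlat : Module.FaithfullyFlat A R :=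
  haveI := weaklyEtale A R
  Module.FaithfullyFlat.of_flat_of_isLocalHom

/-- Integral closure commutes with strict henselization. -/
theorem mem_range (C : Type u) [CommRing C] [Algebra A C] (z : R ⊗[A] C) (hz : IsIntegral R z) :
    z ∈ LinearMap.range ((integralClosure A C).val.toLinearMap.lTensor R) := by
  obtain ⟨e⟩ := exists_equiv_localSH (R := A) R
  let E : LocalSH A ⊗[A] C ≃ₐ[A] R ⊗[A] C := Algebra.TensorProduct.congr e AlgEquiv.refl
  obtain ⟨q, hq, hqz⟩ := hz
  have hz' : IsIntegral (LocalSH A) (E.symm z) := by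
    refine ⟨q.map (e.symm : R →ₐ[A] LocalSH A).toRingHom, hq.map _, ?_⟩
    rw [Polynomial.eval₂_map]
    refine Eq.trans ?_ (map_zero (E.symm : R ⊗[A] C →ₐ[A] LocalSH A ⊗[A] C).toRingHom)
    rw [← hqz, Polynomial.hom_eval₂]
    congr 1
  obtain ⟨β, hβ⟩ := mem_range_hull C (E.symm z) hz'
  refine ⟨e.toLinearMap.rTensor _ β, ?_⟩
  rw [← TensorHull.hcomm, hβ]
  have : ∀ w, e.toLinearMap.rTensor C w = E w := fun w => by
    induction w with
    | zero => simp
    | tmul a b => rfl
    | add a b ha hb => rw [map_add, map_add, ha, hb]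
  rw [this, E.apply_symm_apply]

variable [IsDomain A] [IsIntegrallyClosed A] (K L : Type u) [Field K] [Field L] [Algebra A K] [IsFractionRing A K]
  [Algebra R L] [IsFractionRing R L] [Algebra K L] [Algebra A L] [IsScalarTower A K L] [IsScalarTower A R L]

/-- `R ⊗_A K → L`. -/
noncomputable def toFrac : R ⊗[A] K →ₐ[A] L :=
  Algebra.TensorProduct.productMap (IsScalarTower.toAlgHom A R L) (IsScalarTower.toAlgHom A K L)

/-- The generic fibre of a strict henselization of a normal domain is its fraction field. -/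
theorem toFrac_bijective : Function.Bijective (toFrac A R K L) := by
  haveI := weaklyEtale A R
  haveI := faithfullyFlat A R
  obtain ⟨hdom, hnor⟩ := normalDomain_of_weaklyEtale A R
  haveI := hdom
  haveI : IsDomain R := hdom
  letI : Algebra K (R ⊗[A] K) := Algebra.TensorProduct.rightAlgebra
  haveI : IsLocalization (Algebra.algebraMapSubmonoid R (nonZeroDivisors A)) (R ⊗[A] K) :=
    inferInstance
  have hinjA : Function.Injective (algebraMap A R) := FaithfulSMul.algebraMap_injective A R
  have hle : Algebra.algebraMapSubmonoid R (nonZeroDivisors A) ≤ nonZeroDivisors R := by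
    rintro _ ⟨a, ha, rfl⟩
    exact mem_nonZeroDivisors_of_ne_zero ((map_ne_zero_iff _ hinjA).2 (nonZeroDivisors.ne_zero ha))
  haveI : IsDomain (R ⊗[A] K) := IsLocalization.isDomain_of_le_nonZeroDivisors (R ⊗[A] K) hle
  obtain ⟨e⟩ := exists_equiv_localSH (R := A) R
  have hint : ∀ x : R ⊗[A] K, IsIntegral K x := by
    intro x
    induction x with
    | zero => exact isIntegral_zero
    | add a b ha hb => exact ha.add hb
    | tmul r c =>
      obtain ⟨P, y, hy⟩ := exists_rep (e.symm r)
      haveI : Algebra.FormallyUnramified K (K ⊗[A] P.Ring) := inferInstance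
      haveI : Module.Finite K (K ⊗[A] P.Ring) := Algebra.FormallyUnramified.finite_of_free (R := K) (S := K ⊗[A] P.Ring)
      let φ : K ⊗[A] P.Ring →ₐ[A] R ⊗[A] K :=
        (Algebra.TensorProduct.comm A K R).toAlgHom.comp
          (Algebra.TensorProduct.map (AlgHom.id A K) (e.toAlgHom.comp (ι P)))
      let φK : K ⊗[A] P.Ring →ₐ[K] R ⊗[A] K :=
        { φ.toRingHom with
          commutes' := fun k => by
            show φ (k ⊗ₜ[A] 1) = (1 : R) ⊗ₜ[A] k
            simp [φ] }
      have h : φK (c ⊗ₜ[A] y) = r ⊗ₜ[A] c := by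
        show φ (c ⊗ₜ[A] y) = _
        simp [φ, hy]
      rw [← h]
      exact (Algebra.IsIntegral.isIntegral (R := K) (c ⊗ₜ[A] y)).map φK
  haveI : Algebra.IsIntegral K (R ⊗[A] K) := ⟨hint⟩
  have hfield : IsField (R ⊗[A] K) :=
    isField_of_isIntegral_of_isField' (Field.toIsField K)
  letI := hfield.toField
  have hR : ∀ r : R, toFrac A R K L (r ⊗ₜ 1) = algebraMap R L r := fun r => by simp [toFrac]
  refine ⟨(toFrac A R K L).toRingHom.injective, fun x => ?_⟩
  obtain ⟨r, s, hs, rfl⟩ := IsFractionRing.div_surjective (A := R) x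
  refine ⟨(r ⊗ₜ 1) / (s ⊗ₜ 1), ?_⟩
  rw [map_div₀, hR, hR]

end Groth.Agent.Purity10.StrictNormal
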