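import Groth.Agent.Purity10.RationalSC
import Groth.Agent.AbVarLib.GeomIntegralSmooth
import Groth.Agent.FEtFF.Normal
import Groth.Agent.S6333

/-!
# Finite fundamental group of unirational proper normal varieties
-/

set_option autoImplicit false
set_option linter.style.haveILetI false
set_option linter.overlappingInstances false
set_option backward.isDefEq.respectTransparency.types false
set_option backward.isDefEq.respectTransparency false

universe u

open CategoryTheory CategoryTheory.Limits AlgebraicGeometry TopologicalSpace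
open Groth.Agent.ASBun8

namespace Groth.Agent.Purity10.RationalSC

theorem isField_of_subsingleton_spec (B : Type u) [CommRing B] [_root_.IsReduced B] [Nontrivial B]
    [Subsingleton (PrimeSpectrum B)] : IsField B := by
  obtain ⟨m, hm⟩ := Ideal.exists_maximal B
  have hbot : m = ⊥ := le_bot_iff.mp fun x hx => by
    refine (nilradical_eq_zero B).le ?_
    rw [nilradical_eq_sInf, Submodule.mem_sInf]
    intro p hp
    have : p = m := congrArg PrimeSpectrum.asIdeal (Subsingleton.elim (⟨p, hp⟩ : PrimeSpectrum B) ⟨m, hm.isPrime⟩)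
    rw [this]; exact hx
  rw [hbot] at hm
  exact MulEquiv.isField ((Ideal.Quotient.maximal_ideal_iff_isField_quotient ⊥).mp hm) (RingEquiv.quotientBot B).symm.toMulEquiv

/-- Bound on the geometric fibre of a connected cover with a point in a field `L`. -/
theorem card_fibre_le {X : Scheme.{u}} [IsIntegral X] (hN : Pi1.IsNormalScheme X)
    {K L Ω : Type u} [Field K] [Field L] [Field Ω] [Algebra K L] [Algebra K Ω]
    [FiniteDimensional K (algebraicClosure K L)]
    (g : Spec (CommRingCat.of K) ⟶ X) (hg : ∀ t, g t = genericPoint X) [IsPreimmersion g]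
    {Z : Scheme.{u}} (z : Z ⟶ X) [IsFinite z] [Etale z] [ConnectedSpace Z]
    (l : Spec (CommRingCat.of L) ⟶ Z) (hl : l ≫ z = Spec.map (CommRingCat.ofHom (algebraMap K L)) ≫ g) :
    Nat.card {p : Spec (CommRingCat.of Ω) ⟶ Z // p ≫ z = Spec.map (CommRingCat.ofHom (algebraMap K Ω)) ≫ g} ≤
      Module.finrank K (algebraicClosure K L) := by
  obtain ⟨hZi, -⟩ := FEtFF.isIntegral_and_normal hN z
  let P := pullback z g
  let q : P ⟶ Spec (CommRingCat.of K) := pullback.snd z g
  haveI : IsFinite q := inferInstanceAs (IsFinite (pullback.snd z g))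
  haveI : Etale q := inferInstanceAs (Etale (pullback.snd z g))
  haveI : IsPreimmersion (pullback.fst z g) := MorphismProperty.pullback_fst _ _ ‹IsPreimmersion g›
  haveI : Subsingleton P := ⟨fun a b => by
    have key : ∀ c : P, pullback.fst z g c = genericPoint Z := fun c => by
      have h1 : z (pullback.fst z g c) = genericPoint X := by
        rw [← Scheme.Hom.comp_apply, pullback.condition, Scheme.Hom.comp_apply, hg]
      have h2 : z (genericPoint Z) ⤳ genericPoint X := h1 ▸ (genericPoint_specializes (pullback.fst z g c)).map z.continuous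
      have h3 : z (genericPoint Z) = genericPoint X := h2.antisymm (genericPoint_specializes _) |>.eq
      haveI := isDiscrete_iff_discreteTopology.mp (z.isDiscrete_preimage_singleton (genericPoint X))
      exact (congrArg Subtype.val (((subtype_specializes_iff (x := (⟨genericPoint Z, h3⟩ : z ⁻¹' {genericPoint X}))
        (y := ⟨pullback.fst z g c, h1⟩)).mpr (genericPoint_specializes _)).eq)).symm
    exact (pullback.fst z g).isEmbedding.injective ((key a).trans (key b).symm)⟩
  haveI : IsReduced P := FEtStein.isReduced_of_etale_source q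
  haveI : IsAffine P := isAffine_of_isAffineHom q
  let B := Γ(P, ⊤)
  let φ : CommRingCat.of K ⟶ B := Spec.preimage (P.isoSpec.inv ≫ q)
  have hφ : Spec.map φ = P.isoSpec.inv ≫ q := Spec.map_preimage _
  letI : Algebra K B := φ.hom.toAlgebra
  haveI : Module.Finite K B := by
    have : IsFinite (Spec.map φ) := by rw [hφ]; infer_instance
    exact RingHom.finite_algebraMap.mp ((IsFinite.SpecMap_iff _).mp this)
  let lP : Spec (CommRingCat.of L) ⟶ P := pullback.lift l (Spec.map (CommRingCat.ofHom (algebraMap K L))) hl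
  let toHom : ∀ (R : Type u) [Field R] [Algebra K R] (p : Spec (CommRingCat.of R) ⟶ P),
      p ≫ q = Spec.map (CommRingCat.ofHom (algebraMap K R)) → (B →ₐ[K] R) := fun R _ _ p hp =>
    { (Spec.preimage (p ≫ P.isoSpec.hom)).hom with
      commutes' := fun r => by
        have h1 : φ ≫ Spec.preimage (p ≫ P.isoSpec.hom) = CommRingCat.ofHom (algebraMap K R) := by
          apply Spec.map_injective
          rw [Spec.map_comp, Spec.map_preimage, hφ, Category.assoc, Iso.hom_inv_id_assoc, hp]
        exact congrArg (fun m : CommRingCat.of K ⟶ CommRingCat.of R => m r) h1 }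
  let ψ : B →ₐ[K] L := toHom L lP (pullback.lift_snd _ _ _)
  haveI : Nontrivial B := ψ.toRingHom.domain_nontrivial
  haveI : Subsingleton (PrimeSpectrum B) := P.isoSpec.inv.isEmbedding.injective.subsingleton
  have hB : IsField B := isField_of_subsingleton_spec B
  letI : Field B := hB.toField
  let ψ' : B →ₗ[K] algebraicClosure K L := ψ.toLinearMap.codRestrict (algebraicClosure K L).toSubalgebra.toSubmodule fun b =>
    mem_algebraicClosure_iff.mpr ((Algebra.IsAlgebraic.isAlgebraic b).algHom ψ)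
  have hdim : Module.finrank K B ≤ Module.finrank K (algebraicClosure K L) :=
    LinearMap.finrank_le_finrank_of_injective (f := ψ') fun b b' h => ψ.toRingHom.injective (congrArg Subtype.val h)
  refine le_trans ?_ hdim
  refine le_trans ?_ (card_algHom_le_finrank K B Ω)
  refine Nat.card_le_card_of_injective (fun p => toHom Ω (pullback.lift p.1 (Spec.map (CommRingCat.ofHom (algebraMap K Ω))) p.2)
    (pullback.lift_snd _ _ _)) fun p p' h => Subtype.ext ?_
  have h1 := congrArg (fun m : B →ₐ[K] Ω => Spec.map (CommRingCat.ofHom m.toRingHom)) h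
  have h2 : ∀ (s : Spec (CommRingCat.of Ω) ⟶ P), Spec.map (CommRingCat.ofHom (Spec.preimage (s ≫ P.isoSpec.hom)).hom) = s ≫ P.isoSpec.hom :=
    fun s => Spec.map_preimage _
  have h3 := (h2 _).symm.trans (h1.trans (h2 _))
  have h4 := congrArg (fun s => s ≫ P.isoSpec.inv ≫ pullback.fst z g) h3
  simpa [P] using h4

theorem unirational_core {k : Type u} [Field k] [IsAlgClosed k] {X : Scheme.{u}} (sX : X ⟶ Spec (CommRingCat.of k))
    [IsProper sX] [IsIntegral X] (hN : Pi1.IsNormalScheme X)
    {K L : Type u} [Field K] [Field L] [Algebra k K] [Algebra k L] (θ : K →ₐ[k] L)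
    [Algebra.EssFiniteType k L]
    (g : Spec (CommRingCat.of K) ⟶ X) (hg : ∀ t, g t = genericPoint X) [IsPreimmersion g]
    (hgk : g ≫ sX = Spec.map (CommRingCat.ofHom (algebraMap k K)))
    {M : Scheme.{u}} (p : M ⟶ Spec (CommRingCat.of k)) [IsProper p] [Smooth p] [ConnectedSpace M] (hSC : SC M)
    (a : Spec (CommRingCat.of L) ⟶ M) (ha : GenPt.Good a)
    (hap : a ≫ p = Spec.map (CommRingCat.ofHom (algebraMap k L))) :
    ∃ Z₀ : FEt.Cat X, ConnectedSpace Z₀.left ∧ ∀ Z : FEt.Cat X, ConnectedSpace Z.left → Nonempty (Z₀ ⟶ Z) := by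
  letI : Algebra K L := θ.toRingHom.toAlgebra
  haveI : IsScalarTower k K L := IsScalarTower.of_algebraMap_eq fun c => (θ.commutes c).symm
  haveI : IsLocallyNoetherian X := LocallyOfFiniteType.isLocallyNoetherian sX
  haveI : IsLocallyNoetherian M := LocallyOfFiniteType.isLocallyNoetherian p
  haveI : CompactSpace M := QuasiCompact.compactSpace_of_compactSpace p
  haveI : IsNoetherian M := { }
  have hreg : ∀ x : M, IsRegularLocalRing (M.presheaf.stalk x) := NeronLib.isRegularLocalRing_stalk_of_smooth p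
  haveI : IsIntegral M := AbVarLib.isIntegral_of_smooth_connected p
  let b : Spec (CommRingCat.of L) ⟶ X := Spec.map (CommRingCat.ofHom (algebraMap K L)) ≫ g
  have hbk : b ≫ sX = Spec.map (CommRingCat.ofHom (algebraMap k L)) := by
    rw [Category.assoc, hgk, ← Spec.map_comp, ← CommRingCat.ofHom_comp, ← IsScalarTower.algebraMap_eq]
  obtain ⟨e, he⟩ := GenPt.exists_stalkIso ha
  obtain ⟨U, hxU, f, hf, hfk⟩ := spread_out_of_isGermInjective' p sX (x := genericPoint M) (Spec.map e.inv ≫ b) (by
    rw [Category.assoc, hbk, ← hap, he, ← Category.assoc, ← Category.assoc, ← Spec.map_comp, Iso.hom_inv_id,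
      Spec.map_id, Category.id_comp])
  have hUd : Dense (U : Set M) := U.2.dense ⟨_, hxU⟩
  let aU : Spec (CommRingCat.of L) ⟶ U.toScheme := Spec.map e.hom ≫ U.fromSpecStalkOfMem (genericPoint M) hxU
  have haU : aU ≫ U.ι = a := by
    rw [Category.assoc, Scheme.Opens.fromSpecStalkOfMem_ι, he]
  have haf : aU ≫ f = b := by
    rw [Category.assoc, ← hf, ← Category.assoc, ← Spec.map_comp, Iso.inv_hom_id, Spec.map_id, Category.id_comp]
  obtain ⟨F, ⟨α⟩⟩ := BiratPi1H10.exists_functor hreg p sX U hUd f hfk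
  have hpoint : ∀ Z : FEt.Cat X, ConnectedSpace Z.left → ∃ l : Spec (CommRingCat.of L) ⟶ Z.left, l ≫ Z.hom = b := by
    intro Z hZ
    let z : Z.left ⟶ X := Z.hom
    haveI : IsFinite z := Z.prop.1
    haveI : Etale z := Z.prop.2
    haveI : Surjective z := ⟨fun x => by
      have hc : IsClopen (Set.range z) := ⟨z.isClosedMap.isClosed_range, z.isOpenMap.isOpen_range⟩
      rw [← Set.mem_range, hc.eq_univ (Set.range_nonempty _)]
      trivial⟩
    let W := (FEt.restrict f).obj Z
    let i : (FEt.restrict U.ι).obj (F.obj Z) ≅ W := α.app Z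
    obtain ⟨m⟩ : Nonempty ↥(pullback (F.obj Z).hom U.ι) := by
      obtain ⟨w, -⟩ := (pullback.snd z f).surjective (⟨genericPoint M, hxU⟩ : U.toScheme)
      exact ⟨i.inv.left w⟩
    obtain ⟨σ, hσ, -⟩ := exists_lift_of_SC hSC (F.obj Z) (pullback.fst (F.obj Z).hom U.ι m)
    let l₀ : Spec (CommRingCat.of L) ⟶ pullback (F.obj Z).hom U.ι := pullback.lift (a ≫ σ) aU (by
      rw [Category.assoc, haU]
      exact (congrArg (a ≫ ·) hσ).trans (Category.comp_id a))
    let i' : pullback (F.obj Z).hom U.ι ⟶ pullback z f := i.hom.left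
    have hi' : i' ≫ pullback.snd z f = pullback.snd (F.obj Z).hom U.ι := MorphismProperty.Over.w i.hom
    refine ⟨l₀ ≫ i' ≫ pullback.fst z f, ?_⟩
    rw [Category.assoc, Category.assoc]
    show l₀ ≫ i' ≫ pullback.fst z f ≫ z = b
    rw [pullback.condition, reassoc_of% hi', pullback.lift_snd_assoc, haf]
  haveI : FiniteDimensional K (algebraicClosure K L) := by
    exact S6333.result (IntermediateField.fg_top_iff.2 (Algebra.EssFiniteType.of_comp k K L))
  let Ω := AlgebraicClosure K
  let ξ : Spec (CommRingCat.of Ω) ⟶ X := Spec.map (CommRingCat.ofHom (algebraMap K Ω)) ≫ g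
  let n := Module.finrank K (algebraicClosure K L)
  have hbound : ∀ Z : FEt.Cat X, ConnectedSpace Z.left → Nat.card (FEt.fiberObj ξ Z) ≤ n := by
    intro Z hZ
    obtain ⟨l, hl⟩ := hpoint Z hZ
    haveI : IsFinite Z.hom := Z.prop.1
    haveI : Etale Z.hom := Z.prop.2
    haveI := hZ
    let z : Z.left ⟶ X := Z.hom
    haveI : IsFinite z := Z.prop.1
    haveI : Etale z := Z.prop.2
    exact card_fibre_le hN (K := K) (L := L) (Ω := Ω) g (hg) z l hl
  classical
  let Q : ℕ → Prop := fun m => ∃ Z : FEt.Cat X, ConnectedSpace Z.left ∧ Nat.card (FEt.fiberObj ξ Z) = m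
  let T : FEt.Cat X := MorphismProperty.Over.mk ⊤ (𝟙 X) ⟨inferInstance, inferInstance⟩
  have hQT : Q (Nat.card (FEt.fiberObj ξ T)) := ⟨T, inferInstanceAs (ConnectedSpace X), rfl⟩
  have hQb : ∀ m, Q m → m ≤ n := by rintro m ⟨Z, hZ, rfl⟩; exact hbound Z hZ
  obtain ⟨Z₀, hZ₀, hm⟩ : Q (Nat.findGreatest Q n) := Nat.findGreatest_spec (hQb _ hQT) hQT
  refine ⟨Z₀, hZ₀, fun Z hZ => ?_⟩
  haveI := hZ; haveI := hZ₀
  let z : Z.left ⟶ X := Z.hom
  haveI : IsFinite z := Z.prop.1
  haveI : Etale z := Z.prop.2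
  let z₀ : Z₀.left ⟶ X := Z₀.hom
  haveI : IsFinite z₀ := Z₀.prop.1
  haveI : Etale z₀ := Z₀.prop.2
  obtain ⟨x₀⟩ := (inferInstance : Nonempty Z₀.left)
  obtain ⟨x, hx⟩ : z₀ x₀ ∈ Set.range z := by
    have hc : IsClopen (Set.range z) := ⟨z.isClosedMap.isClosed_range, z.isOpenMap.isOpen_range⟩
    rw [hc.eq_univ (Set.range_nonempty _)]
    trivial
  obtain ⟨w, -, -⟩ := Scheme.Pullback.exists_preimage_pullback (f := z₀) (g := z) x₀ x hx.symm
  let pr := pullback.fst z₀ z ≫ z₀
  haveI : IsFinite pr := inferInstanceAs (IsFinite (pullback.fst z₀ z ≫ z₀))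
  haveI : Etale pr := inferInstanceAs (Etale (pullback.fst z₀ z ≫ z₀))
  haveI := LocallyOfFiniteType.isLocallyNoetherian pr
  let C := CoverSplit.comp w
  haveI : ConnectedSpace C.toScheme := inferInstanceAs (ConnectedSpace (CoverSplit.comp w).toScheme)
  let q : C.toScheme ⟶ Z₀.left := C.ι ≫ pullback.fst z₀ z
  haveI : IsFinite q := inferInstanceAs (IsFinite ((CoverSplit.comp w).ι ≫ pullback.fst z₀ z))
  haveI : Etale q := inferInstanceAs (Etale ((CoverSplit.comp w).ι ≫ pullback.fst z₀ z))
  haveI : Surjective q := ⟨fun y => by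
    have hc : IsClopen (Set.range q) := ⟨q.isClosedMap.isClosed_range, q.isOpenMap.isOpen_range⟩
    rw [← Set.mem_range, hc.eq_univ (Set.range_nonempty _)]
    trivial⟩
  let Cc : FEt.Cat X := MorphismProperty.Over.mk ⊤ (q ≫ z₀) ⟨inferInstance, inferInstance⟩
  have hCm : Nat.card (FEt.fiberObj ξ Cc) ≤ Nat.findGreatest Q n := by
    have hQ : Q (Nat.card (FEt.fiberObj ξ Cc)) := ⟨Cc, inferInstanceAs (ConnectedSpace C.toScheme), rfl⟩
    exact Nat.le_findGreatest (hQb _ hQ) hQ
  let fm : FEt.fiberObj ξ Cc → FEt.fiberObj ξ Z₀ := fun s => ⟨s.1 ≫ q, (Category.assoc _ _ _).trans s.2⟩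
  have hsurj : Function.Surjective fm := fun t => by
    obtain ⟨s, hs⟩ := FEtQuot.exists_point q t.1
    exact ⟨⟨s, by show s ≫ q ≫ z₀ = ξ; rw [reassoc_of% hs]; exact t.2⟩, Subtype.ext hs⟩
  haveI : Finite (FEt.fiberObj ξ Cc) := (Et18.card_pointLift (q ≫ z₀) ξ).1
  have hbij : Function.Bijective fm := hsurj.bijective_of_nat_card_le (hCm.trans hm.ge)
  haveI : Nonempty ↥X := inferInstance
  haveI : Surjective z₀ := ⟨fun y => by
    have hc : IsClopen (Set.range z₀) := ⟨z₀.isClosedMap.isClosed_range, z₀.isOpenMap.isOpen_range⟩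
    rw [← Set.mem_range, hc.eq_univ (Set.range_nonempty _)]
    trivial⟩
  obtain ⟨t, ht⟩ := FEtQuot.exists_point z₀ ξ
  obtain ⟨s, hs⟩ := hsurj ⟨t, ht⟩
  haveI : IsIso q := FEtStein.isIso_of_unique_fibre q t s.1 (congrArg Subtype.val hs) fun y hy => by
    have h1 : fm ⟨y, by show y ≫ q ≫ z₀ = ξ; rw [reassoc_of% hy]; exact ht⟩ = fm s :=
      (Subtype.ext hy).trans hs.symm
    exact congrArg Subtype.val (hbij.1 h1)
  refine ⟨MorphismProperty.Over.homMk (inv q ≫ C.ι ≫ pullback.snd z₀ z) ?_⟩
  show (inv q ≫ C.ι ≫ pullback.snd z₀ z) ≫ z = z₀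
  rw [Category.assoc, Category.assoc, ← pullback.condition, IsIso.inv_comp_eq, Category.assoc]

theorem unirational_main (k : Type u) [Field k] [IsAlgClosed k] (X : Scheme.{u})
    [X.Over (Spec (CommRingCat.of k))] [IsProper (X ↘ Spec (CommRingCat.of k))] [IsIntegral X]
    (hN : Pi1.IsNormalScheme X) (r : ℕ)
    (hU : letI := Curv2.stalkAlgebra k X (genericPoint X)
      Nonempty (X.presheaf.stalk (genericPoint X) →ₐ[k] FractionRing (MvPolynomial (Fin r) k))) :
    ∃ Z₀ : FEt.Cat X, ConnectedSpace Z₀.left ∧ ∀ Z : FEt.Cat X, ConnectedSpace Z.left → Nonempty (Z₀ ⟶ Z) := by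
  letI := Curv2.stalkAlgebra k X (genericPoint X)
  obtain ⟨θ⟩ := hU
  obtain ⟨M, p, hp, hs, hM, hSC, L', _, _, a', ha', hap', ⟨ε⟩⟩ := exists_model k r
  haveI := hp; haveI := hs; haveI := hM
  haveI : IsIso (Spec.map (CommRingCat.ofHom ε.toAlgHom.toRingHom)) := by
    haveI : IsIso (CommRingCat.ofHom ε.toAlgHom.toRingHom) :=
      (ConcreteCategory.isIso_iff_bijective _).2 ε.bijective
    infer_instance
  letI iK : Algebra k X.functionField := Curv2.stalkAlgebra k X (genericPoint X)
  haveI : Algebra.EssFiniteType (MvPolynomial (Fin r) k) (InvFld.Fld (Fin r) k) :=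
    Algebra.EssFiniteType.of_isLocalization _ (nonZeroDivisors (MvPolynomial (Fin r) k))
  haveI : Algebra.EssFiniteType k (InvFld.Fld (Fin r) k) :=
    Algebra.EssFiniteType.comp k (MvPolynomial (Fin r) k) _
  refine unirational_core (K := X.functionField) (L := InvFld.Fld (Fin r) k) (X ↘ Spec (CommRingCat.of k)) hN θ
    (X.fromSpecStalk (genericPoint X)) (fun t => ?_) (CurveLib.specMap_stalkMap k X (genericPoint X)).symm p hSC
    (Spec.map (CommRingCat.ofHom ε.toAlgHom.toRingHom) ≫ a') ((GenPt.good_of_isIso _).comp ha') ?_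
  · refine ((?_ : X.fromSpecStalk (genericPoint X) t ⤳ genericPoint X).antisymm (genericPoint_specializes _)).eq
    show X.fromSpecStalk (genericPoint X) t ∈ {y | y ⤳ genericPoint X}
    rw [← Scheme.range_fromSpecStalk]; exact ⟨t, rfl⟩
  · rw [Category.assoc, hap', ← Spec.map_comp, ← CommRingCat.ofHom_comp]
    exact congrArg (fun m => Spec.map (CommRingCat.ofHom m)) ε.toAlgHom.comp_algebraMap

end Groth.Agent.Purity10.RationalSC
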